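import Cfsg.Agent.Lib.ZG.Syl2
import Cfsg.Agent.Lib.Cls.Camina
import Cfsg.Agent.Lib.ODD.Basic

/-!
# Dihedral Sylow 2-subgroups of order at least 8, local analysis
-/

set_option autoImplicit false
set_option linter.unusedSectionVars false

namespace Cfsg.Agent.ZG

open Subgroup Cfsg.Agent.OO Cfsg.Agent.Coprime GW
open scoped commutatorElement Pointwise

universe u

variable {G : Type u} [Group G] {a b c g i j m o s t v w x y z ρ : G}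

/-- the elements centralizing or inverting `y` -/
def ext (y : G) : Subgroup G where
  carrier := {g | g * y * g⁻¹ = y ∨ g * y * g⁻¹ = y⁻¹}
  one_mem' := Or.inl (by group)
  mul_mem' := fun {g k} hg hk => by
    have e : g * k * y * (g * k)⁻¹ = g * (k * y * k⁻¹) * g⁻¹ := by group
    have e' : g * y⁻¹ * g⁻¹ = (g * y * g⁻¹)⁻¹ := by group
    rcases hg with hg | hg <;> rcases hk with hk | hk <;> simp only [Set.mem_ofPred_eq, e, e', hk, hg] <;>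
      simp
  inv_mem' := fun {g} hg => hg.imp (fun e => by nth_rewrite 1 [← e]; group)
    fun e => by
      rw [show g⁻¹ * y * g⁻¹⁻¹ = g⁻¹ * (y⁻¹)⁻¹ * g by group, ← e]
      nth_rewrite 2 [e]
      group

theorem cent_le_ext (y : G) : 𝐂[y] ≤ ext y := fun _ h => Or.inl (mem_cent1_iff_conj.1 h)

theorem mul_mem_cent (h1 : g * y * g⁻¹ = y⁻¹) (h2 : m * y * m⁻¹ = y⁻¹) : g * m ∈ 𝐂[y] := by
  rw [mem_cent1_iff_conj, show g * m * y * (g * m)⁻¹ = g * (m * y * m⁻¹) * g⁻¹ by group, h2,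
    show g * y⁻¹ * g⁻¹ = (g * y * g⁻¹)⁻¹ by group, h1, inv_inv]

theorem inv_of_ext (h : g ∈ ext y) (h2 : g ∉ 𝐂[y]) : g * y * g⁻¹ = y⁻¹ :=
  h.resolve_left fun e => h2 (mem_cent1_iff_conj.2 e)

theorem conj_inv_conj' (h : w * y * w⁻¹ = y⁻¹) (g : G) :
    g * w * g⁻¹ * (g * y * g⁻¹) * (g * w * g⁻¹)⁻¹ = (g * y * g⁻¹)⁻¹ := by
  rw [show g * w * g⁻¹ * (g * y * g⁻¹) * (g * w * g⁻¹)⁻¹ = g * (w * y * w⁻¹) * g⁻¹ by group, h]
  group

theorem inv_mul_left (hj : j * j = 1) (hw : w * w = 1) : j * (j * w) * j⁻¹ = (j * w)⁻¹ := by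
  rw [← mul_assoc, hj, one_mul, mul_inv_rev, inv_eq hw]

theorem not_cent_of_inv (ho : Odd (orderOf y)) (y1 : y ≠ 1) (h : w * y * w⁻¹ = y⁻¹) : w ∉ 𝐂[y] :=
  fun e => y1 (eq_one_of_inv ho ((mem_cent1_iff_conj.1 e).symm.trans h))

variable [Finite G]

theorem Alm.sign (h : Alm G) {x y : G} (hx : Odd (orderOf x)) (x1 : x ≠ 1) (hy : Odd (orderOf y))
    (y1 : y ≠ 1) {u : Fin 4 → G} (u1 : ∀ i, u i ≠ 1) (u2 : ∀ i, u i * u i = 1)
    (h1 : ∀ i, u i * x * (u i)⁻¹ = ![x, x⁻¹, x, x⁻¹] i)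
    (h2 : ∀ i, u i * y * (u i)⁻¹ = ![y, y, y⁻¹, y⁻¹] i) : False := by
  have hN : 𝐍(zpowers x) ⊓ 𝐍(zpowers y) ≤ 𝐍(𝐂[x] ⊓ 𝐂[y]) :=
    le_norm_inf (inf_le_left.trans (cent_normal x).norm) (inf_le_right.trans (cent_normal y).norm)
  have hu : ∀ i, u i ∈ 𝐍(zpowers x) ⊓ 𝐍(zpowers y) := fun i =>
    ⟨mem_norm_zp (by rw [h1]; fin_cases i <;> simp), mem_norm_zp (by rw [h2]; fin_cases i <;> simp)⟩
  refine h.four (quoHom hN) (fun g k => ?_) (u := fun i => ⟨u i, hu i⟩)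
    (fun i e => u1 i (congrArg Subtype.val e)) (fun i => Subtype.ext (u2 i)) fun i j e => ?_
  · rw [quoHom_apply, quoHom_apply, coset_commute_iff (hN g.2) (hN k.2), ← cent_zpowers,
      ← cent_zpowers y]
    exact ⟨der_le_cent inferInstance inf_le_left (commutator_mem_commutator g.2 k.2),
      der_le_cent inferInstance inf_le_right (commutator_mem_commutator g.2 k.2)⟩
  · have e : (u i)⁻¹ * u j ∈ 𝐂[x] ⊓ 𝐂[y] := (coset_eq_iff (hN (hu i)) (hN (hu j))).1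
      (by simpa only [Function.comp, quoHom_apply] using e)
    have key : ∀ x, (u i)⁻¹ * u j ∈ 𝐂[x] → u i * x * (u i)⁻¹ = u j * x * (u j)⁻¹ := fun x e => by
      nth_rewrite 1 [← mem_cent1_iff_conj.1 e]
      group
    have e1 := key x e.1
    have e2 := key y e.2
    rw [h1, h1] at e1
    rw [h2, h2] at e2
    have a1 : x ≠ x⁻¹ := fun e => x1 (eq_one_of_inv hx e)
    have a2 : y ≠ y⁻¹ := fun e => y1 (eq_one_of_inv hy e)
    fin_cases i <;> fin_cases j <;> simp_all [a1.symm, a2.symm]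

/-- dihedral Sylow 2-subgroups of order at least 8 -/
structure Dh (a s z : G) : Prop extends Tw a s z where
  alm : Alm G
  cyc : Cyc G
  nb : NB G
  one : OneCl G
  inv : s * a * s⁻¹ = a⁻¹
  ne : a * a ≠ 1

theorem Tw.out_sq (h : Tw a s z) (hd : s * a * s⁻¹ = a⁻¹) (hj : j ∈ S4 a s) (h1 : j ∉ zpowers a) :
    j * j = 1 := by
  have := inv_of_mem hd ((h.mem.1 hj).resolve_left h1)
  rw [mul_inv_rev, inv_eq h.s2, mul_assoc, mul_assoc, h.s2, mul_one, mul_right_inj] at this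
  nth_rewrite 2 [this]
  exact mul_inv_cancel j

namespace Dh

variable (h : Dh a s z)
include h

theorem as_sq : a * s * (a * s) = 1 := h.toTw.out_sq h.inv (mul_mem (t_mem_S4 a s) (s_mem_S4 a s))
  (by rw [mul_mem_cancel_left (mem_zpowers a)]; exact h.sa)

theorem swap : Dh a (a * s) z :=
  have e : a * s * a * (a * s)⁻¹ = a⁻¹ := by
    rw [show a * s * a * (a * s)⁻¹ = a * (s * a * s⁻¹) * a⁻¹ by group, h.inv]; group
  { h with
    s2 := h.as_sq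
    sa := by rw [mul_mem_cancel_left (mem_zpowers a)]; exact h.sa
    norm := e ▸ inv_mem (mem_zpowers a)
    cs := fun x hx e => h.cs x hx (by
      rwa [← mul_assoc, zp_comm hx (mem_zpowers a), mul_assoc, mul_assoc, mul_right_inj] at e)
    syl := (S4_mul a s).symm ▸ h.syl
    inv := e }

theorem pnil : PNil 2 𝐂[z] := pnil_two fun R hR h2 g hg hn ho => mem_cent_iff_conj.2 fun x hx => by
  by_contra e
  have hx' := conj_mem_of_norm hn hx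
  by_cases x2 : x * x = 1
  · have x1 : x ≠ 1 := by rintro rfl; simp at e
    have sq : ∀ y ∈ R, y * y = 1 := fun y hy => by_contra fun y2 => e (mem_cent_iff_conj.1
      (h.alm.cent_of_odd h2 hn ho hy y2 hx' (conj_ne_one.2 x1) (conj_sq x2 g) hx x1 x2 e) x hx)
    have cm : ∀ y ∈ R, ∀ w ∈ R, y * w = w * y := fun y hy w hw => by
      rw [← inv_eq (sq _ (mul_mem hy hw)), mul_inv_rev, inv_eq (sq _ hy), inv_eq (sq _ hw)]
    have p := pair_mk x1 (conj_ne_one.2 x1) (Ne.symm e) x2 (conj_sq x2 g) (cm _ hx _ hx')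
    have hg' : g ∈ 𝐍(S4 x (g * x * g⁻¹)) := mem_norm_S4 (s_mem_S4 _ _)
      (h.mem_four p (two_zp h2 (conj_mem_of_norm hn hx')) (cm _ (conj_mem_of_norm hn hx') _ hx)
        (cm _ (conj_mem_of_norm hn hx') _ hx'))
    have gz := mem_cent1_iff_conj.1 hg
    rcases p.mem_S4.1 (h.mem_four p (two_elt h.z2) (mem_cent1.1 (hR hx)).symm
      (mem_cent1.1 (hR hx')).symm) with e1 | e1 | e1 | e1
    · exact h.z1 e1
    · exact e (e1 ▸ gz)
    · exact e (by rw [← mul_left_cancel (mul_right_cancel (gz.trans e1)), gz])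
    · exact e (mul_inv_eq_iff_eq_mul.2 (comm_of_odd p.mul.symm (by rwa [S4_comm, S4_mul])
        (e1 ▸ mem_cent1.1 hg) ho))
  · obtain ⟨k, hk⟩ := h.exists_conj_le h2
    have key : ∀ y ∈ R, y * y ≠ 1 → k * y * k⁻¹ ∈ zpowers a := fun y hy y2 => by_contra fun e =>
      y2 (by simpa using h.toTw.out_sq h.inv (hk (conj_mem_conj hy)) e)
    have := zp_eq_of_orderOf (key _ hx' (by simpa using x2)) (key _ hx x2)
      (by simp only [orderOf_conj])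
    rw [← conj_zpowers k, ← conj_zpowers k, conj_inj] at this
    exact e (mul_inv_eq_iff_eq_mul.2 (comm_of_two (two_zp h2 hx) ho (this ▸ mem_zpowers _)))

theorem mem_O : x ∈ O 𝐂[z] ↔ x ∈ 𝐂[z] ∧ Odd (orderOf x) := ZG.mem_O h.pnil

theorem a_mem : a ∈ 𝐂[z] := h.le_cent (t_mem_S4 a s)

theorem s_mem : s ∈ 𝐂[z] := h.le_cent (s_mem_S4 a s)

theorem sq_cent : a * a ∈ 𝐂(O 𝐂[z]) := by
  refine h.cyc.cent_of_der (odd_O _) (Opi_normal _ _).norm ?_ ?_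
  · have := commutator_mem_commutator h.a_mem h.s_mem
    rwa [commutatorElement_def, show a * s * a⁻¹ * s⁻¹ = a * (s * a * s⁻¹)⁻¹ by group, h.inv,
      inv_inv] at this
  · rw [← Nat.card_zpowers]
    exact (Core.coprime_card_of_isPGroup (h.two.to_le (zp_sq_le a))
      (Nat.coprime_two_right.2 (odd_O _))).symm

theorem as_inv (hy : y ∈ O 𝐂[z]) (hs : y ∈ 𝐂[s]) : a * s * y * (a * s)⁻¹ = y⁻¹ := by
  refine conj_eq_inv (Q := O 𝐂[z] ⊓ 𝐂[s]) h.as_sq (mem_norm_of_conj_mem fun x hx => ?_)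
    (eq_bot_iff.2 fun x hx => ?_) ⟨hy, hs⟩
  · have e : a * s * x * (a * s)⁻¹ = a * x * a⁻¹ := by
      rw [mul_assoc a s, ← mem_cent1.1 hx.2]; group
    have h1 := (Opi_normal _ _).conj_mem h.a_mem hx.1
    rw [e]
    refine ⟨h1, mem_cent1_comm.1 (mem_cent1_iff_conj.2 ?_)⟩
    rw [show s * (a * x * a⁻¹) * s⁻¹ = s * a * s⁻¹ * (s * x * s⁻¹) * (s * a * s⁻¹)⁻¹ by group, h.inv,
      mem_cent1_iff_conj.1 (mem_cent1_comm.1 hx.2), ← mem_cent_iff_conj.1 (inv_mem h.sq_cent) _ h1]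
    group
  · have e := mem_cent1.1 hx.2
    rw [mul_assoc, ← mem_cent1.1 hx.1.2, ← mul_assoc, ← mul_assoc, mul_left_inj] at e
    exact h.eq_one_of_odd h.alm h.nb h.ne (h.mem_O.1 hx.1.1).2 e (mem_cent1.1 hx.1.2)

theorem cyc_O : IsCyclic (O 𝐂[z]) := by
  have hn := (Opi_normal ({2} : Set ℕ)ᶜ 𝐂[z]).norm
  have : O 𝐂[z] ≤ der 𝐂[z] := by
    refine (coprime_cent_prod ((zpowers_le.2 h.s_mem).trans hn) (coprime_zp (odd_O _) h.s2)
      (Or.inl (sol_of_odd (odd_O _)))).ge.trans ?_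
    rw [cent_zpowers]
    exact sup_le (commutator_mono (Opi_le _ _) (zpowers_le.2 h.s_mem)) fun y hy =>
      mem_der_of_inv (Opi_le _ _ hy.1) (mul_mem h.a_mem h.s_mem) (h.mem_O.1 hy.1).2
        (h.as_inv hy.1 hy.2)
  exact inf_eq_left.2 this ▸ h.cyc.cyc_inf_der (odd_O _) hn

theorem norm_zp (hy : y ∈ O 𝐂[z]) : 𝐂[z] ≤ 𝐍(zpowers y) :=
  (Opi_normal _ _).norm.trans (norm_le_norm_of_isCyclic h.cyc_O (zpowers_le.2 hy))

theorem comm_O (hx : x ∈ O 𝐂[z]) (hy : y ∈ O 𝐂[z]) : x * y = y * x :=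
  ab_iff.1 (ab_of_isCyclic h.cyc_O) x hx y hy

theorem conj_mem_O (hj : g * z * g⁻¹ = j) (hx : x ∈ 𝐂[j]) (ho : Odd (orderOf x)) :
    g⁻¹ * x * g ∈ O 𝐂[z] :=
  h.mem_O.2 ⟨by rwa [← hj, cent1_conj, mem_conj] at hx, by rwa [orderOf_conj']⟩

section

variable (hy : y ∈ O 𝐂[z]) (hq : (orderOf y).Prime)
include hy hq

omit h hy in
theorem y1 : y ≠ 1 := fun e => hq.ne_one (by rw [e, orderOf_one])

omit hq in
theorem z_mem_C : z ∈ 𝐂[y] := mem_cent1_comm.1 (Opi_le _ _ hy)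

theorem q2 : orderOf y ≠ 2 := fun e => (h.mem_O.1 hy).2.not_two_dvd_nat (e ▸ dvd_rfl)

theorem uniq (i2 : i * i = 1) (hz : z * i = i * z) (hi : i * y * i⁻¹ = y⁻¹) (hj : j ∈ 𝐂[y])
    (j1 : j ≠ 1) (j2 : j * j = 1) (hc : j * i = i * j) : j = z := by
  by_contra jz
  have ho := (h.mem_O.1 hy).2
  have hi' := not_cent_of_inv ho (y1 hq) hi
  have hC : zpowers (z * j) ≤ 𝐂[y] ⊓ 𝐂[i] :=
    zpowers_le.2 (mul_mem ⟨h.z_mem_C hy, mem_cent1.2 hz⟩ ⟨hj, mem_cent1.2 hc⟩)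
  have hodd : Odd (orderOf (z * j)) := by
    by_contra e
    obtain ⟨ζ, hζ, z1, z2, c1, -⟩ := dihedral h.z2 j2 e
    by_cases e : z = ζ
    · subst e
      exact jz (invol_eq ((mul_mem_cancel_left hζ).1 (mem_zpowers _)) hζ j1 j2 z1 z2)
    · exact hi' (S4_le.2 ⟨h.z_mem_C hy, (hC hζ).1⟩ (h.mem_four (pair_mk h.z1 z1 e h.z2 z2 c1)
        (two_elt i2) hz.symm (mem_cent1.1 (hC hζ).2).symm))
  obtain ⟨x, hx, hr⟩ := exists_prime_mem (x := z * j) fun e =>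
    jz ((eq_inv_of_mul_eq_one_right e).trans (inv_eq h.z2))
  have xo := hodd.of_dvd_nat (orderOf_dvd_of_mem_zpowers hx)
  have zx := inv_of_mem (inv_mul_left h.z2 j2) hx
  have i1 : i ≠ 1 := fun e => hi' (e ▸ one_mem _)
  obtain ⟨g, hg⟩ := isConj_iff.1 (h.one z i h.z1 h.z2 i1 i2)
  have iy : i ∈ 𝐂[g * y * g⁻¹] := by rw [← hg, cent1_conj]; exact conj_mem_conj (h.z_mem_C hy)
  have zy : z * (g * y * g⁻¹) * z⁻¹ = (g * y * g⁻¹)⁻¹ := by
    refine (conj_cases (by rwa [orderOf_conj]) ?_ (by rw [h.z2, one_mul, mul_one])).resolve_left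
      fun e => hi' ?_
    · refine conj_mem_of_norm ?_ (mem_zpowers _)
      rw [← conj_zpowers, norm_conj]
      exact conj_mono g (h.norm_zp hy) (by rw [← cent1_conj, hg]; exact mem_cent1.2 hz)
    · rwa [← cent_zpowers, h.cyc.zp_eq hq (h.q2 hy hq) (orderOf_conj g y) rfl (conj_mem_of_norm
        (h.norm_zp hy (mem_cent1_comm.1 (mem_cent1_iff_conj.2 e))) (mem_zpowers y)),
        cent_zpowers] at iy
  have yx : g * y * g⁻¹ ∈ 𝐂[x] := by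
    have := h.comm_O hy (h.conj_mem_O hg (hC hx).2 xo)
    rw [mem_cent1, show g * y * g⁻¹ * x = g * (y * (g⁻¹ * x * g)) * g⁻¹ by group, this]
    group
  obtain ⟨c, hc', e⟩ := h.cyc.exists_conj hq (h.q2 hy hq) rfl (orderOf_conj g y)
    (mem_cent1_comm.1 (hC hx).1) yx
  have e' : g * y * g⁻¹ ∈ zpowers (c * y * c⁻¹) := e ▸ mem_zpowers _
  have cx := mem_cent1_iff_conj.1 hc'
  refine h.alm.sign (x := g * y * g⁻¹) (by rwa [orderOf_conj]) (conj_ne_one.2 (y1 hq)) xo (y1 hr)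
    (u := ![i, c * i * c⁻¹, c * z * c⁻¹, z]) (fun k => ?_) (fun k => ?_) (fun k => ?_) fun k => ?_
  · fin_cases k
    exacts [i1, conj_ne_one.2 i1, conj_ne_one.2 h.z1, h.z1]
  · fin_cases k
    exacts [i2, conj_sq i2 c, conj_sq h.z2 c, h.z2]
  · have : c * z * c⁻¹ * (c * y * c⁻¹) = c * y * c⁻¹ * (c * z * c⁻¹) := by
      rw [conj_mul, conj_mul, mem_cent1.1 (h.z_mem_C hy)]
    fin_cases k
    exacts [mem_cent1_iff_conj.1 iy, inv_of_mem (conj_inv_conj' hi c) e',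
      mul_inv_eq_iff_eq_mul.2 (comm_of_mem this e'), zy]
  · have ix := mem_cent1_comm.1 (hC hx).2
    fin_cases k
    exacts [mem_cent1_iff_conj.1 ix, mem_cent1_iff_conj.1 (mul_mem (mul_mem hc' ix) (inv_mem hc')),
      by simpa [cx] using conj_inv_conj' zx c, zx]

variable (hs : y ∈ 𝐂[s])
include hs

theorem normV_le : 𝐍(S4 z s) ≤ 𝐍(zpowers y) := fun g hg => by
  have := conj_mem_of_norm (norm_le_norm_cent _ hg) (cent_S4 z s ▸ ⟨Opi_le _ _ hy, hs⟩ : y ∈ 𝐂(S4 z s))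
  rw [cent_S4] at this
  exact mem_norm_zp (h.cyc.zp_eq hq (h.q2 hy hq) (orderOf_conj g y) rfl
    (conj_mem_of_norm (h.norm_zp hy this.1) (mem_zpowers y)) ▸ mem_zpowers _)

theorem exists_rot' : ∃ ρ ∈ 𝐂[y], ρ * z * ρ⁻¹ = s := by
  obtain ⟨w, ρ, -, w1, w2, e, h3, r1, r2⟩ := h.exists_rot h.one h.ne h.pair
  have zs := mul_mem (t_mem_S4 z s) (s_mem_S4 z s)
  refine ⟨ρ, cent_zpowers y ▸ der_le_cent inferInstance (h.normV_le hy hq hs) (mem_der_of_inv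
    (mem_norm_S4 (r1 ▸ s_mem_S4 z s) (r2 ▸ zs)) (mem_norm_S4 ?_ (w2 ▸ zs))
    (odd_of_pgroup Nat.prime_three (by decide) h3) e), r1⟩
  rw [w1, mul_inv_cancel_right]
  exact t_mem_S4 z s

theorem as_not : a * s ∉ 𝐂[y] := not_cent_of_inv (h.mem_O.1 hy).2 (y1 hq) (h.as_inv hy hs)

omit hq hs in
theorem zp_sq_le_C : zpowers (a * a) ≤ 𝐂[y] := zpowers_le.2 (cent_le_cent1 hy h.sq_cent)

omit hy hq hs in
theorem conj_s (n : ℤ) : a ^ n * s * (a ^ n)⁻¹ = (a * a) ^ n * s := by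
  rw [(Commute.refl a).mul_zpow, mul_assoc, mul_assoc, mul_right_inj, ← inv_of_mem h.inv
    (zpow_mem_zpowers a n), ← mul_assoc, ← mul_assoc, h.s2, one_mul, inv_eq h.s2]

omit hq hs in
theorem sylM : Syl 2 (S4 a s) 𝐍(zpowers y) :=
  (h.syl.hall.mono (h.le_cent.trans (h.norm_zp hy)) le_top).syl

theorem cls (hj : j ∈ 𝐂[y]) (j1 : j ≠ 1) (j2 : j * j = 1) : ∃ c ∈ 𝐂[y], c * z * c⁻¹ = j := by
  obtain ⟨c, hc, e⟩ := ((h.sylM hy).inf_normal (cent_normal y)).exists_conj_le (zpowers_le.2 hj)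
    (two_elt j2)
  obtain ⟨e1, e2⟩ := mem_inf.1 (e (conj_mem_conj (mem_zpowers j)))
  suffices ∃ d ∈ 𝐂[y], d * z * d⁻¹ = c * j * c⁻¹ by
    obtain ⟨d, hd, e⟩ := this
    refine ⟨c⁻¹ * d, mul_mem (inv_mem hc) hd, ?_⟩
    rw [mul_inv_rev, mul_assoc c⁻¹, mul_assoc c⁻¹, ← mul_assoc (d * z), e]
    group
  rcases h.mem.1 e1 with e3 | e3
  · exact ⟨1, one_mem _, by rw [h.eq_z e3 (conj_ne_one.2 j1) (conj_sq j2 c)]; group⟩
  have hs' := mem_cent1_comm.1 hs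
  rcases zp_cases e3 with ⟨n, hn⟩ | e4
  · obtain ⟨ρ, hρ, r⟩ := h.exists_rot' hy hq hs
    refine ⟨a ^ n * ρ * (a ^ n)⁻¹, (cent_normal y).conj_mem
      (h.norm_zp hy (zpow_mem h.a_mem n)) hρ, ?_⟩
    rw [show a ^ n * ρ * (a ^ n)⁻¹ * z * (a ^ n * ρ * (a ^ n)⁻¹)⁻¹ =
      a ^ n * (ρ * ((a ^ n)⁻¹ * z * (a ^ n)⁻¹⁻¹) * ρ⁻¹) * (a ^ n)⁻¹ by group,
      mem_cent1_iff_conj.1 (inv_mem (zpow_mem h.a_mem n)), r, h.conj_s, show (a * a) ^ n = _ from hn,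
      mul_assoc, h.s2, mul_one]
  · have := h.zp_sq_le_C hy e4
    rw [mul_mem_cancel_right (mul_mem e2 hs'), inv_mem_iff] at this
    exact absurd (mul_mem this hs') (h.as_not hy hq hs)

theorem comm_z (hj : j ∈ 𝐂[y]) (j1 : j ≠ 1) (j2 : j * j = 1) : j * z = z * j := by
  have hi := h.as_inv hy hs
  have zi := (mem_cent1.1 (mul_mem h.a_mem h.s_mem)).symm
  have i2 := h.as_sq
  have hi' := h.as_not hy hq hs
  generalize a * s = i at *
  have hE : zpowers (j * i) ≤ ext y := zpowers_le.2 (mul_mem (cent_le_ext y hj) (Or.inr hi))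
  obtain ⟨ζ, hζ, z1, z2, c1, c2⟩ := dihedral j2 i2 fun ho => hi' <| by
    have e := inv_of_ext (hE (mem_zpowers _)) (by rwa [mul_mem_cancel_left hj])
    exact (mul_mem_cancel_left hj).1 (zpowers_le.2 (mul_mem_cent e e)
      (sq (j * i) ▸ mem_zp_pow (Nat.coprime_two_left.2 ho)))
  by_cases e : ζ ∈ 𝐂[y]
  · rwa [h.uniq hy hq i2 zi hi e z1 z2 c2.symm] at c1
  have e1 := inv_of_ext (hE hζ) e
  have e2 : ζ * i = z := h.uniq hy hq i2 zi hi (mul_mem_cent e1 hi) (fun e3 => ?_)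
    (by rw [mul_assoc, ← mul_assoc i, c2, ← mul_assoc, ← mul_assoc, z2, one_mul, i2])
    (by rw [← mul_assoc, c2])
  · rw [h.uniq hy hq z2 (by rw [← e2, mul_assoc, c2]) e1 hj j1 j2 c1]
  · rw [eq_inv_of_mul_eq_one_left e3, inv_eq i2] at hζ
    exact hi' (invol_eq ((mul_mem_cancel_right hζ).1 (mem_zpowers _)) hζ j1 j2
      (fun e => hi' (e ▸ one_mem _)) i2 ▸ hj)

theorem mem_V (hj : j ∈ 𝐂[y]) (j2 : j * j = 1) : j ∈ S4 z s := by
  by_cases j1 : j = 1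
  · exact j1 ▸ one_mem _
  obtain ⟨ρ, hρ, r⟩ := h.exists_rot' hy hq hs
  refine h.mem_four h.pair (two_elt j2) (h.comm_z hy hq hs hj j1 j2) ?_
  have := h.comm_z hy hq hs (mul_mem (mul_mem (inv_mem hρ) hj) hρ) (conj_ne_one'.2 j1)
    (by simpa using conj_sq j2 ρ⁻¹)
  rw [← r, show j * (ρ * z * ρ⁻¹) = ρ * (ρ⁻¹ * j * ρ * z) * ρ⁻¹ by group, this]
  group

theorem le_normV : 𝐍(zpowers y) ≤ 𝐍(S4 z s) := fun g hg => mem_norm_S4
  (h.mem_V hy hq hs ((cent_normal y).conj_mem hg (h.z_mem_C hy)) (conj_sq h.z2 g))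
  (h.mem_V hy hq hs ((cent_normal y).conj_mem hg (mem_cent1_comm.1 hs)) (conj_sq h.s2 g))

theorem O_le (ho : o ∈ O 𝐂[z]) : o ∈ 𝐂[s] := mem_cent1.2 (comm_of_odd h.pair
  (h.le_normV hy hq hs (h.norm_zp hy (Opi_le _ _ ho))) (mem_cent1.1 (Opi_le _ _ ho)) (h.mem_O.1 ho).2)

theorem C_le : 𝐂[y] ≤ 𝐍(S4 z s) := (cent_normal y).le.trans (h.le_normV hy hq hs)

theorem star (hx : x ∈ 𝐂[y]) (x1 : x ≠ 1) (v1 : v ≠ 1) (v2 : v * v = 1) (hv : v ∈ ext x) :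
    v ∈ 𝐍(S4 z s) := by
  obtain ⟨x', hx', hr⟩ := exists_prime_mem x1
  replace hv : v ∈ ext x' := hv.imp (fun e => mul_inv_eq_iff_eq_mul.2
    (comm_of_mem (mul_inv_eq_iff_eq_mul.1 e) hx')) fun e => inv_of_mem e hx'
  replace hx : x' ∈ 𝐂[y] := zpowers_le.2 hx hx'
  clear hx' x1
  have hH := (h.norm_zp hy).trans (h.le_normV hy hq hs)
  by_cases x2 : x' * x' = 1
  · obtain ⟨c, hc, e⟩ := h.cls hy hq hs hx (y1 hr) x2
    have : v ∈ c •ᶜ 𝐂[z] := by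
      rw [← cent1_conj, e]
      exact mem_cent1_iff_conj.2 (hv.elim id fun e => e.trans (inv_eq x2))
    exact conj_le_of_mem (h.C_le hy hq hs hc) hH this
  have xo := odd_of_prime hr x2
  by_cases e : ∃ i ∈ 𝐂[x'], i ≠ 1 ∧ i * i = 1
  · obtain ⟨i, hi, i1, i2⟩ := e
    obtain ⟨g, hg⟩ := isConj_iff.1 (h.one z i h.z1 h.z2 i1 i2)
    have h2 := h.conj_mem_O hg (mem_cent1_comm.1 hi) xo
    have h3 : (orderOf (g⁻¹ * x' * g)).Prime := by rwa [orderOf_conj']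
    have h4 := h.O_le hy hq hs h2
    refine h.le_normV h2 h3 h4 ?_
    rw [← h.cyc.zp_eq h3 (h.q2 h2 h3) (orderOf_conj' g x').symm rfl
      (conj_mem_of_norm (h.normV_le h2 h3 h4 (h.C_le hy hq hs hx)) (mem_zpowers _))]
    exact mem_norm_zp (hv.elim (fun e => e.symm ▸ mem_zpowers _) fun e => e.symm ▸ inv_mem (mem_zpowers _))
  push Not at e
  have hv' := inv_of_ext hv fun e' => e v e' v1 v2
  have hY : Odd ♯𝐂[x'] := odd_of_forall fun i hi i2 => by_contra fun i1 => e i hi i1 i2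
  refine h.le_normV hy hq hs (mem_norm_zp ?_)
  rw [conj_eq_inv v2 ((cent_normal x').norm (mem_norm_zp (hv' ▸ inv_mem (mem_zpowers _)))) ?_
    (mem_cent1_comm.1 hx)]
  · exact inv_mem (mem_zpowers y)
  by_contra e1
  obtain ⟨c, hc, hl⟩ := exists_prime_order_mem e1
  obtain ⟨g, hg⟩ := isConj_iff.1 (h.one z v h.z1 h.z2 v1 v2)
  have h2 := h.conj_mem_O hg hc.2 (odd_of_mem hY hc.1)
  have h3 : g⁻¹ * x' * g ∈ 𝐍(S4 z s) := h.C_le h2 (by rwa [orderOf_conj']) (h.O_le hy hq hs h2) (by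
    have := conj_mem_conj (g := g⁻¹) (mem_cent1_comm.1 hc.1)
    rwa [← cent1_conj, inv_inv] at this)
  have h4 := h.pair.isEp.abelem.2 _ (mul_mem (conj_mem_of_norm h3 (t_mem_S4 z s)) (inv_mem (t_mem_S4 z s)))
  rw [show g⁻¹ * x' * g * z * (g⁻¹ * x' * g)⁻¹ * z⁻¹ =
    g⁻¹ * (x' * (g * z * g⁻¹ * x' * (g * z * g⁻¹)⁻¹)⁻¹) * g by group, hg, hv', inv_inv] at h4
  have h5 : g⁻¹ * (x' * x' * (x' * x')) * g = 1 := by
    rw [← h4]
    simp only [sq, mul_assoc, mul_inv_cancel_left]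
  exact x2 (eq_one_of_odd_of_sq (xo.of_dvd_nat (sq x' ▸ orderOf_pow_dvd 2))
    (by_contra fun e => conj_ne_one'.2 e h5))

theorem le_ext : 𝐍(S4 z s) ≤ ext y := fun m hm => by
  have hV : S4 z s ≤ 𝐂[y] := S4_le.2 ⟨h.z_mem_C hy, mem_cent1_comm.1 hs⟩
  obtain ⟨c, hc, e⟩ := h.cls hy hq hs (hV (conj_mem_of_norm hm (t_mem_S4 z s)))
    (conj_ne_one.2 h.z1) (conj_sq h.z2 m)
  have h1 : c⁻¹ * m ∈ 𝐂[z] := by
    rw [mem_cent1_iff_conj, mul_inv_rev, mul_assoc c⁻¹, mul_assoc c⁻¹, ← mul_assoc (m * z), ← e]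
    group
  rw [← (h.pnil.sdprod (h.syl.hall.mono h.le_cent le_top).syl).sup_eq] at h1
  refine (mul_mem_cancel_left (inv_mem (cent_le_ext y hc))).1 ((sup_le (fun o ho => ?_) ?_ : _ ≤ ext y) h1)
  · exact cent_le_ext y (mem_cent1.2 (h.comm_O ho hy))
  · have hs' := cent_le_ext y (mem_cent1_comm.1 hs)
    exact S4_le.2 ⟨(mul_mem_cancel_right hs').1 (Or.inr (h.as_inv hy hs)), hs'⟩

theorem exists_conj_as (hj : j ∈ 𝐍(S4 z s)) (j2 : j * j = 1) (hC : j ∉ 𝐂[y]) :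
    ∃ m ∈ 𝐍(S4 z s), m * (a * s) * m⁻¹ = j := by
  obtain ⟨c, hc, e⟩ := (h.sylM hy).exists_conj_le (zpowers_le.2 (h.normV_le hy hq hs hj)) (two_elt j2)
  have e1 := e (conj_mem_conj (mem_zpowers j))
  have e2 : c * j * c⁻¹ ∉ 𝐂[y] := by rwa [← mem_norm_iff.1 ((cent_normal y).norm hc)]
  have e3 := (h.mem.1 e1).resolve_left fun e => e2 <| by
    rw [h.eq_z e (fun e => e2 (e ▸ one_mem _)) (conj_sq j2 c)]
    exact h.z_mem_C hy
  obtain ⟨n, hn⟩ := (zp_cases e3).resolve_left fun e =>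
    e2 ((mul_mem_cancel_right (mem_cent1_comm.1 hs)).1 (h.zp_sq_le_C hy e))
  refine ⟨c⁻¹ * a ^ n, h.le_normV hy hq hs
    (mul_mem (inv_mem hc) (h.norm_zp hy (zpow_mem h.a_mem n))), ?_⟩
  rw [show c⁻¹ * a ^ n * (a * s) * (c⁻¹ * a ^ n)⁻¹ = c⁻¹ * (a * (a ^ n * s * (a ^ n)⁻¹)) * c by group,
    h.conj_s, show (a * a) ^ n = _ from hn, mul_assoc a⁻¹, mul_assoc _ s, h.s2]
  group

end

end Dh

end Cfsg.Agent.ZG
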