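import Cfsg.Agent.Lib.ZG.Count
import Cfsg.Agent.Lib.ODD.Main

/-!
# Groups with a simple normal subgroup of type `PSL(2, p)`
-/

set_option autoImplicit false
set_option linter.unusedSectionVars false

namespace Cfsg.Agent.ZG

open Subgroup Cfsg.Agent.OO Cfsg.Agent.Coprime GW
open scoped commutatorElement Pointwise

universe u

variable {G : Type u} [Group G] [Finite G] {K N P : Subgroup G} {a j s t v w x y z : G} {m : ℕ}

/-- a generalized dihedral involution centralizer -/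
def HasHyp (G : Type u) [Group G] : Prop := ∃ (K : Subgroup G) (t s : G), ODD.Hyp K t s

/-- the properties of `PSL(2, p)` that are used -/
structure Res (K : Subgroup G) (x w : G) (m : ℕ) : Prop where
  two_le : 2 ≤ m
  cardK : ♯K = m ∨ ♯K = m + 1
  prime : (2 * m + 1).Prime
  card : Nat.card G = (2 * m + 1) * (m * (2 * m + 2))
  ord : orderOf x = 2 * m + 1
  cent : 𝐂[x] = zpowers x
  index : 𝐍(zpowers x).index = 2 * m + 2
  w_not : w ∉ 𝐍(zpowers x)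
  cosets : ∀ g, g ∉ 𝐍(zpowers x) → ∃ y ∈ zpowers x, w * y⁻¹ * g ∈ 𝐍(zpowers x)
  equiv : ∃ (F : Type) (_ : Field F) (_ : Fintype F), Fintype.card F = 2 * m + 1 ∧
    Nonempty (G ≃* Matrix.ProjectiveSpecialLinearGroup (Fin 2) F)

theorem exists_res (h : ODD.Hyp K t s) (hC : Cyc G) (h0 : O (⊤ : Subgroup G) = ⊥)
    (h2 : Op 2 (⊤ : Subgroup G) = ⊥) : ∃ x w m, Res K x w m := by
  rw [O, Op'_top] at h0
  rw [Op_top] at h2
  have h1 := h.two_dvd
  have h3 : 0 < Nat.card K := Nat.card_pos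
  obtain ⟨m, P, hP, hm, hK⟩ : ∃ m, ∃ P : Subgroup G, ODD.Data P m ∧ 2 ≤ m ∧
      (Nat.card K = m ∨ Nat.card K = m + 1) := by
    by_cases hk : Nat.card K = 2
    · obtain ⟨P, hP⟩ := h.data_of_two hk h0 h2
      exact ⟨2, P, hP, le_rfl, Or.inl hk⟩
    rcases h.unip (by omega) with hu | ⟨m, hm, hu⟩ <;> obtain ⟨P, hP⟩ := hu.exists_data
    · exact ⟨_, P, hP, by omega, Or.inl rfl⟩
    · exact ⟨_, P, hP, by omega, Or.inr hm⟩
  obtain ⟨w, w2, hw⟩ := hP.exists_inv_not_mem h0 h.t1 h.t2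
  have hZ := hP.zas w2 hw h
    (hK.imp (fun (e : Nat.card K = m) => even_iff_two_dvd.2 (e ▸ h1)) fun e => by simp [e])
  obtain ⟨y, hy, y1⟩ := hP.exists_ne_one
  obtain ⟨x, hx, hp⟩ := exists_prime_mem y1
  replace hx := zpowers_le.2 hy hx
  have hc := hC.cyc_of_ab (hP.cardP ▸ ⟨m, rfl⟩ : Odd ♯P) (ab_iff.2 fun _ h _ => hP.ab h)
  obtain rfl := (hZ.irred (zpowers_le.2 hx) (hZ.T_le.trans (norm_le_norm_of_isCyclic hc
    (zpowers_le.2 hx)))).resolve_left (by simpa using Dh.y1 hp)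
  have ho := (Nat.card_zpowers x).symm.trans hP.cardP
  exact ⟨x, w, m, hm, hK, ho ▸ hp, hP.card, ho,
    Subgroup.ext fun g => mem_cent1.trans (hP.cc x hx (Dh.y1 hp) g),
    (hP.cosets w2 hw).1, hw, (hP.cosets w2 hw).2, hZ.main⟩

theorem cent_le_sup {p : ℕ} [Fact p.Prime] (hN : N ⊴ ⊤) (hs : Smp N) (hS : Syl p (zpowers x) N)
    (hw : w ∈ N) (hw' : w ∉ 𝐍(zpowers x))
    (hc : ∀ g ∈ N, g ∉ 𝐍(zpowers x) → ∃ y ∈ zpowers x, w * y⁻¹ * g ∈ 𝐍(zpowers x)) :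
    𝐂[x] ≤ N ⊔ 𝐂(N) := fun c hx => by
  have key : ∀ g ∈ N, g ∉ 𝐍(zpowers x) → ∃ y ∈ zpowers x,
      g •ᶜ zpowers x = y •ᶜ w⁻¹ •ᶜ zpowers x := fun g hg e => by
    obtain ⟨y, hy, e⟩ := hc g hg e
    refine ⟨y, hy, ?_⟩
    nth_rewrite 2 [← conj_eq_of_mem_norm e]
    rw [conj_conj, conj_conj, show y * w⁻¹ * (w * y⁻¹ * g) = g by group]
  have cn : ∀ d ∈ 𝐂[x], d ∈ 𝐍(zpowers x) := fun d hd => cent_le_norm _ (cent_zpowers x ▸ hd)
  obtain ⟨g, hg, e⟩ := hS.exists_conj' ((hS.conj_of_mem (inv_mem hw)).conj_of_norm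
    (hN.norm (mem_top c)))
  obtain ⟨y, hy, e1⟩ := key g hg fun e1 => hw' (by
    rw [conj_eq_of_mem_norm e1, conj_conj, conj_eq_self_iff, mul_mem_cancel_left (cn c hx)] at e
    exact inv_mem_iff.1 e)
  have hd : y⁻¹ * c ∈ 𝐂[x] := mul_mem (inv_mem (zpowers_le.2 (mem_cent1_self x) hy)) hx
  have e2 : (y⁻¹ * c) •ᶜ w⁻¹ •ᶜ zpowers x = w⁻¹ •ᶜ zpowers x := by
    rw [← conj_conj, e, e1, inv_conj_conj]
  rw [← mul_mem_cancel_left (inv_mem (mem_sup_left (hS.le hy)))]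
  generalize y⁻¹ * c = d at hd e2
  set E := ⨅ k : N, 𝐍((k : G) •ᶜ zpowers x)
  have hE : N ≤ 𝐍(E) := le_norm_iff.2 fun n hn e he => mem_iInf.2 fun k => by
    have := conj_mem_conj (g := n) (mem_iInf.1 he ⟨n⁻¹ * k, mul_mem (inv_mem hn) k.2⟩)
    rwa [← norm_conj, conj_conj, mul_inv_cancel_left] at this
  have h0 : N ⊓ E = ⊥ := (hs _ (normalIn_inf_of_norm hE)).resolve_right fun e =>
    hw' (by simpa using mem_iInf.1 (inf_eq_left.1 e hw) 1)
  have dE : d ∈ E := mem_iInf.2 fun k => by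
    by_cases e : (k : G) ∈ 𝐍(zpowers x)
    · rw [conj_eq_of_mem_norm e]
      exact cn d hd
    · obtain ⟨y, hy, e⟩ := key k k.2 e
      rw [e, ← conj_eq_self_iff, conj_conj d, comm_of_mem (mem_cent1.1 hd) hy, ← conj_conj, e2]
  refine mem_sup_right (mem_cent_iff_conj.2 fun n hn => ?_)
  rw [← mul_inv_eq_one, ← mem_bot, ← h0]
  refine mem_inf.2 ⟨mul_mem (hN.conj_mem (mem_top d) hn) (inv_mem hn), ?_⟩
  rw [mul_assoc, mul_assoc, ← mul_assoc n]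
  exact mul_mem dE (conj_mem_of_norm (hE hn) (inv_mem dE))

theorem smp_of_simple [h : IsSimpleGroup N] : Smp N := fun M hM =>
  (h.eq_bot_or_eq_top_of_normal _ hM.subgroupOf).imp
    (fun e => by rw [← map_subgroupOf_eq_of_le hM.le, e, Subgroup.map_bot])
    fun e => le_antisymm hM.le (subgroupOf_eq_top.1 e)

/-- the outer automorphism group has order at most 2 -/
theorem Res.index_dvd [IsSimpleGroup N] (hN : N ⊴ ⊤) {K : Subgroup N} {x w : N} (h : Res K x w m) :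
    (N ⊔ 𝐂(N)).index ∣ 2 := by
  have := Fact.mk h.prime
  have hz : (zpowers x).map N.subtype = zpowers (x : G) := MonoidHom.map_zpowers _ _
  have hn : ∀ g : N, (g : G) ∈ 𝐍(zpowers (x : G)) ↔ g ∈ 𝐍(zpowers x) := fun g =>
    ⟨fun e => mem_norm_zp ((mem_map_iff_mem N.subtype_injective).1
      (hz ▸ conj_mem_of_norm e (mem_zpowers _))), fun e => hz ▸ map_norm_le _ _ (mem_map_of_mem _ e)⟩
  have ho : orderOf (x : G) = 2 * m + 1 := (orderOf_coe x).trans h.ord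
  have hi : (zpowers x).index = m * (2 * m + 2) := Nat.eq_of_mul_eq_mul_left h.prime.pos (by
    rw [← h.card, ← h.ord, ← Nat.card_zpowers, card_mul_index])
  have hS : Syl (2 * m + 1) (zpowers (x : G)) N := ⟨zpowers_le.2 x.2,
    Core.isPGroup_zpowers_of_orderOf (k := 1) (ho.trans (pow_one _).symm), by
      rw [← hz, relIndex_map_subtype, hi]
      exact h.prime.coprime_iff_not_dvd.1 ODD.Unip.coprime⟩
  have h1 := cent_le_sup hN smp_of_simple hS w.2 (mt (hn w).1 h.w_not) fun g hg e => by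
    obtain ⟨y, hy, e⟩ := h.cosets ⟨g, hg⟩ (mt (hn _).2 e)
    exact ⟨y, hz ▸ mem_map_of_mem _ hy, (hn _).2 e⟩
  have h2 : (𝐂[(x : G)]).relIndex (N ⊓ 𝐍(zpowers (x : G))) = m := by
    have e1 : N ⊓ 𝐍(zpowers (x : G)) = 𝐍(zpowers x).map N.subtype := Subgroup.ext fun g =>
      ⟨fun e => ⟨⟨g, e.1⟩, (hn _).1 e.2, rfl⟩, by rintro ⟨g, e, rfl⟩; exact ⟨g.2, (hn g).2 e⟩⟩
    have e2 : (𝐂[(x : G)]).comap N.subtype = zpowers x := h.cent ▸ Subgroup.ext fun g => by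
      simp [mem_cent1, Subtype.ext_iff, mem_subgroupOf]
    rw [e1, ← relIndex_comap, e2]
    refine Nat.eq_of_mul_eq_mul_right (Nat.succ_pos (2 * m + 1)) ?_
    rw [← hi, ← relIndex_mul_index le_normalizer, h.index]
  have hM : (N ⊔ 𝐂(N)) ⊴ ⊤ := hN.sup (top_inf_eq 𝐂(N) ▸ hN.cent)
  have h3 : 𝐍(zpowers (x : G)) ⊔ (N ⊔ 𝐂(N)) = ⊤ := top_le_iff.1 ((hS.frattini hN).sup_eq.ge.trans
    (sup_le (le_sup_left.trans le_sup_right) (inf_le_right.trans le_sup_left)))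
  have h4 := Ord1092.relIndex_cent_dvd (P := zpowers (x : G)) inferInstance
  have h5 := (cent_normal (x : G))
  rw [Nat.card_zpowers, ho, Nat.totient_prime h.prime, cent_zpowers, Nat.add_sub_cancel,
    ← relIndex_mul_relIndex _ (N ⊓ 𝐍(zpowers (x : G)) ⊔ 𝐂[(x : G)]) _ le_sup_right
      (sup_le inf_le_right h5.le), relIndex_sup_eq (Or.inl (inf_le_right.trans h5.norm)), h2,
    mul_comm 2] at h4
  rw [← relIndex_top_right, ← h3, relIndex_sup_eq (Or.inl (le_top.trans hM.norm))]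
  exact (relIndex_dvd_of_le_left _ (sup_le (inf_le_left.trans le_sup_left) h1)).trans
    (Nat.dvd_of_mul_dvd_mul_left (by have := h.two_le; omega) h4)

theorem exists_invol_mem (h0 : O N = ⊥) (hK : K ⊴ N) (h1 : K ≠ ⊥) : ∃ j ∈ K, j ≠ 1 ∧ j * j = 1 := by
  by_contra! e
  exact h1 (le_bot_iff.1 (h0 ▸ le_O hK (odd_of_forall fun a ha a2 => by_contra fun a1 => e a ha a1 a2)))

theorem Alm.oneCl (h : Alm G) (hG : ∀ N : Subgroup G, N.Normal → N.index ≠ 2) : OneCl G := by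
  obtain ⟨P, hP⟩ := exists_syl 2 (⊤ : Subgroup G)
  obtain ⟨a, ha, H⟩ := h P hP.isPGroup
  by_cases e : ∃ s ∈ P, s ∉ zpowers a
  · obtain ⟨s, hs, sa⟩ := e
    exact ZG.oneCl hG hP ha H hs sa
  push Not at e
  intro x y x1 x2 y1 y2
  obtain ⟨g, -, hg⟩ := hP.exists_conj_le le_top (two_elt x2)
  obtain ⟨k, -, hk⟩ := hP.exists_conj_le le_top (two_elt y2)
  have := invol_eq (e _ (hg (conj_mem_conj (mem_zpowers x)))) (e _ (hk (conj_mem_conj (mem_zpowers y))))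
    (conj_ne_one.2 x1) (conj_sq x2 g) (conj_ne_one.2 y1) (conj_sq y2 k)
  exact (isConj_iff.2 ⟨g, this⟩).trans (isConj_iff.2 ⟨k, rfl⟩).symm

theorem index_ne_two_of_perfect (h : der (⊤ : Subgroup G) = ⊤) (N : Subgroup G) (hN : N.Normal) :
    N.index ≠ 2 := fun e => by
  have := der_le_of_relIndex_prime (normalIn_top.2 hN) (by rw [relIndex_top_right, e]; decide)
  rw [h, top_le_iff] at this
  simp [this] at e

/-- the socle is simple -/
theorem exists_simple [Nontrivial G] (hA : Alm G) (h1 : OneCl G) (h0 : O (⊤ : Subgroup G) = ⊥)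
    (h2 : Op 2 (⊤ : Subgroup G) = ⊥) : ∃ N : Subgroup G, N ⊴ ⊤ ∧ IsSimpleGroup N ∧ ¬ Ab N ∧
      𝐂(N) = ⊥ := by
  obtain ⟨N, hN, -⟩ := exists_minNormalBy (H := (⊤ : Subgroup G)) (M := ⊤) top_ne_bot norm_top.ge
  have hn : N ⊴ ⊤ := ⟨le_top, hN.norm⟩
  obtain ⟨j, hj, j1, j2⟩ := exists_invol_mem h0 hn hN.ne_bot
  have hab : ¬ Ab N := fun e => hN.ne_bot (le_bot_iff.1 (h2 ▸ le_Op hn fun a => ⟨1, Subtype.ext
    ((hN.abelem_of_dvd (sol_of_ab e) Nat.prime_two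
      (orderOf_eq_two j2 j1 ▸ orderOf_dvd_card hj)).2 a a.2)⟩))
  have key : ∀ K : Subgroup G, (∀ g, g * j * g⁻¹ ∈ K) → N ≤ K := fun K hK => by
    have hJ : (⊤ : Subgroup G) ≤ 𝐍(closure {x | IsConj j x}) :=
      le_norm_closure fun g _ x hx => hx.trans (isConj_iff.2 ⟨g, rfl⟩)
    have := fun L : Subgroup G => fun h : ∀ g, g * j * g⁻¹ ∈ L => (closure_le L).2
      fun x (hx : IsConj j x) => (isConj_iff.1 hx).elim fun g e => e ▸ h g
    exact (hN.eq_of_ne_bot (this N fun g => hn.conj_mem (mem_top g) hj) hJ fun e =>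
      j1 (mem_bot.1 (e ▸ subset_closure (IsConj.refl j)))).ge.trans (this K hK)
  have hp : der N = N := hN.eq_of_ne_bot (der_le N) hn.der.norm (mt ab_iff_der.2 hab)
  have hc := (hA.subgroup N).oneCl (index_ne_two_of_perfect (map_injective N.subtype_injective
    (by rw [map_der, map_subtype_top, hp])))
  refine ⟨N, hn, Smp.isSimpleGroup (fun K hK => or_iff_not_imp_left.2 fun e => ?_) hN.ne_bot, hab,
    by_contra fun e => hab ?_⟩
  · obtain ⟨i, hi, i1, i2⟩ := exists_invol_mem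
      (le_bot_iff.1 (h0 ▸ Opi_le_of_normal ({2} : Set ℕ)ᶜ hn)) hK e
    refine le_antisymm hK.le (key K fun g => ?_)
    obtain ⟨k, hk⟩ := isConj_iff.1 (hc ⟨i, hK.le hi⟩ ⟨_, hn.conj_mem (mem_top g) hj⟩
      (by simpa using i1) (Subtype.ext i2) (by simpa using j1) (Subtype.ext (conj_sq j2 g)))
    have : (k : G) * i * (k : G)⁻¹ = g * j * g⁻¹ := congrArg Subtype.val hk
    exact this ▸ hK.conj_mem k.2 hi
  · have hC := top_inf_eq 𝐂(N) ▸ hn.cent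
    obtain ⟨i, hi, i1, i2⟩ := exists_invol_mem h0 hC e
    obtain ⟨k, hk⟩ := isConj_iff.1 (h1 i j i1 i2 j1 j2)
    exact ab_iff_le_cent.2 (key _ fun g => hC.conj_mem (mem_top g) (hk ▸ hC.conj_mem (mem_top k) hi))

/-- the induction hypothesis -/
def IH (n : ℕ) : Prop := ∀ (G : Type u) [Group G] [Finite G], Nat.card G < n → IsSimpleGroup G →
  ¬ IsMulCommutative G → Cyc G → Alm G → HasHyp G

theorem O_eq_bot [IsSimpleGroup G] (hna : ¬ IsMulCommutative G) : O (⊤ : Subgroup G) = ⊥ :=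
  (smp_top _ (Opi_normal _ _)).resolve_right fun e => not_sol' hna (e ▸ sol_of_odd (odd_O _))

theorem Op_eq_bot [IsSimpleGroup G] (hna : ¬ IsMulCommutative G) : Op 2 (⊤ : Subgroup G) = ⊥ :=
  (smp_top _ (Op_normal _ _)).resolve_right fun e =>
    not_sol' hna (e ▸ sol_of_isPGroup (Op_isPGroup 2 _))

theorem simple_of [Nontrivial G] {n : ℕ} (ih : IH.{u} n) (hn : Nat.card G < n) (hC : Cyc G)
    (hA : Alm G) (hG : ∀ N : Subgroup G, N.Normal → N.index ≠ 2) (h0 : O (⊤ : Subgroup G) = ⊥)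
    (h2 : Op 2 (⊤ : Subgroup G) = ⊥) : IsSimpleGroup G ∧ ¬ IsMulCommutative G := by
  obtain ⟨N, hN, hs, ha, hc⟩ := exists_simple hA (hA.oneCl hG) h0 h2
  obtain ⟨K, t, s, h⟩ := ih N ((card_le_card_group N).trans_lt hn) hs ha (hC.subgroup N)
    (hA.subgroup N)
  obtain ⟨x, w, m, h⟩ := exists_res h (hC.subgroup N) (O_eq_bot ha) (Op_eq_bot ha)
  have := h.index_dvd hN
  rw [hc, sup_bot_eq, Nat.dvd_prime Nat.prime_two, index_eq_one] at this
  obtain rfl := this.resolve_right (hG N (normalIn_top.1 hN))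
  exact ⟨topEquiv.symm.isSimpleGroup, fun _ => ha inferInstance⟩

theorem pair_of_syl {X : Subgroup G} (p : Pair X t v) (hS : Syl 2 (S4 t v) N) : Pair N t v :=
  { p with
    t_mem := (S4_le.1 hS.le).1
    s_mem := (S4_le.1 hS.le).2
    not_dvd := fun e => by
      rw [← card_mul_relIndex hS.le, p.card] at e
      exact hS.not_dvd (Nat.dvd_of_mul_dvd_mul_left (k := 4) (by decide) e) }

theorem tw_of_pair (p : Pair ⊤ t v) (h1 : OneCl G) : Tw t v t :=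
  tw_mk p.syl (t_mem_S4 t v) (fun x hx y hy x1 y1 => by
    rw [mem_zp p.t_sq] at x1 y1 ⊢
    have e : v * (t * v) = t := by rw [p.comm.eq, ← mul_assoc, p.s_sq, one_mul]
    rcases p.mem_S4.1 hx with e1 | e1 | e1 | e1 <;> rcases p.mem_S4.1 hy with e2 | e2 | e2 | e2 <;>
      simp only [e1, e2, true_or, or_true, not_true] at x1 y1 ⊢ <;>
      simp [p.s_sq, mul_assoc, e, p.t_sq]) (mem_zpowers t) p.t_ne p.t_sq
    (s_mem_S4 t v) (by simp [mem_zp p.t_sq, p.s_ne, p.ne.symm]) p.s_sq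
    (h1 _ _ p.s_ne p.s_sq p.t_ne p.t_sq)

theorem four_case (hC : Cyc G) (h1 : OneCl G) (h0 : O (⊤ : Subgroup G) = ⊥)
    (h2 : Op 2 (⊤ : Subgroup G) ≠ ⊥) (t1 : t ≠ 1) (t2 : t * t = 1) (v1 : v ≠ 1) (v2 : v * v = 1)
    (tv : t ≠ v) (hS : Syl 2 (S4 t v) ⊤) : ∃ K, ODD.Hyp K t v ∧ ♯K = 2 ∧ 𝐂[t].index = 3 := by
  have hZ := (Op_normal 2 (⊤ : Subgroup G)).Zc
  have key : ∀ x, x ≠ 1 → x * x = 1 → x ∈ Zc (Op 2 (⊤ : Subgroup G)) := fun x x1 x2 => by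
    obtain ⟨j, hj, j1, j2⟩ := exists_invol_mem h0 hZ
      (Zc_ne_bot (nil_of_isPGroup (Op_isPGroup 2 _)) h2)
    obtain ⟨g, rfl⟩ := isConj_iff.1 (h1 j x j1 j2 x1 x2)
    exact hZ.conj_mem (mem_top g) hj
  have p := pair_mk t1 v1 tv t2 v2 (ab_iff.1 (Zc_ab _) _ (key t t1 t2) _ (key v v1 v2))
  have hV : S4 t v = Op 2 ⊤ := le_antisymm
    ((S4_le.2 ⟨key t t1 t2, key v v1 v2⟩).trans (Zc_le _)) (Op_le_syl hS)
  have h := tw_of_pair (pair_of_syl p hS) h1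
  have p' := (pair_of_syl p hS).mono' p.le_cent le_top
  have sd := p'.sdprod_of_cent le_rfl
  have hn := hV ▸ Op_normal 2 (⊤ : Subgroup G)
  have hc : 𝐂(S4 t v) ⊴ 𝐂[t] := (top_inf_eq 𝐂(S4 t v) ▸ hn.cent).mono
    (cent_le_cent1 (t_mem_S4 t v)) le_top
  have hO : O 𝐂[t] = ⊥ := le_bot_iff.1 (h0 ▸ (Opi_le_Opi hc.le (Opi_le_cent_of_normal
    (hn.mono p'.le le_top) hS.hall.compl_compl.piGrp)).trans
      (Opi_le_of_normal _ (top_inf_eq 𝐂(S4 t v) ▸ hn.cent)))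
  have hh := h.hyp (by rw [← p.comm.eq, mul_inv_cancel_right, inv_eq t2]) hC h1
    (pnil_of_sdprod sd (Opi_piGrp _ _) hS.isPGroup) (by simp [hO]) (by simp [hO])
  refine ⟨_, hh, by rw [hO, bot_sup_eq, Nat.card_zpowers, orderOf_eq_two t2 t1], ?_⟩
  rw [← relIndex_top_right, ← ncard_conj, Set.ncard_eq_three]
  refine ⟨t, v, t * v, tv, p.mul.ne, fun e => t1 (by simpa using e), Set.ext fun x => ⟨?_, fun e => ?_⟩⟩
  · rintro ⟨g, -, rfl⟩
    exact (p.mem_S4.1 (hn.conj_mem (mem_top g) (t_mem_S4 t v))).resolve_left (conj_ne_one.2 t1)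
  · obtain ⟨g, hg⟩ := isConj_iff.1 (h1 t x t1 t2 (by rcases e with rfl | rfl | rfl; exacts [t1, v1, p.mul_ne_one])
      (by rcases e with rfl | rfl | rfl; exacts [t2, v2, p.mul_sq]))
    exact ⟨g, mem_top g, hg⟩

theorem quot {n : ℕ} (ih : IH.{u} n) (hn : Nat.card G < n) (hC : Cyc G) (hA : Alm G)
    (hG : ∀ N : Subgroup G, N.Normal → N.index ≠ 2) (h0 : O (⊤ : Subgroup G) = ⊥) (t1 : t ≠ 1)
    (t2 : t * t = 1) (v1 : v ≠ 1) (v2 : v * v = 1) (tv : t ≠ v) (hS : Syl 2 (S4 t v) ⊤) :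
    ∃ (K : Subgroup G) (t s : G), ODD.Hyp K t s ∧ 2 * ♯K ^ 2 + 1 ≤ 𝐂[t].index + 3 * ♯K ∧
      3 ∣ Nat.card G ∧ (PNil 3 (⊤ : Subgroup G) → Nat.card G = 12 ∧ ♯K = 2) := by
  by_cases h2 : Op 2 (⊤ : Subgroup G) = ⊥
  · have := nontrivial_of_ne t 1 t1
    obtain ⟨hs, ha⟩ := simple_of ih hn hC hA hG h0 h2
    obtain ⟨K, t, s, h⟩ := ih G hn hs ha hC hA
    obtain ⟨x, w, m, hr⟩ := exists_res h hC h0 h2
    have h3 : 3 ∣ Nat.card G := by
      rw [hr.card, Nat.dvd_iff_mod_eq_zero]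
      rcases (by omega : m % 3 = 0 ∨ m % 3 = 1 ∨ m % 3 = 2) with e | e | e <;>
        simp [Nat.mul_mod, Nat.add_mod, e]
    refine ⟨K, t, s, h, ?_, h3, fun e => absurd e (not_pnil ha h3)⟩
    have e := h.card_eq.symm.trans hr.card
    have := hr.two_le
    rcases hr.cardK with e1 | e1 <;> rw [e1] at e ⊢
    · rw [Nat.eq_of_mul_eq_mul_left (by omega) (e.trans (by ring : _ = 2 * m * ((2 * m + 1) * (m + 1))))]
      nlinarith
    · rw [Nat.eq_of_mul_eq_mul_left (by omega) (e.trans (by ring : _ = 2 * (m + 1) * ((2 * m + 1) * m)))]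
      nlinarith
  · obtain ⟨K, h, e1, e2⟩ := four_case hC (hA.oneCl hG) h0 h2 t1 t2 v1 v2 tv hS
    have e := h.card_eq
    rw [e1, e2] at e
    exact ⟨K, t, v, h, by rw [e1, e2]; decide, by rw [e]; decide, fun _ => ⟨e, e1⟩⟩

end Cfsg.Agent.ZG
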