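import Cfsg.Agent.Lib.ZG.Two
import Cfsg.Agent.Lib.Transfer.Gruen
import Cfsg.Agent.Lib.Core.Ord1092
import Cfsg.Agent.Lib.R1.ZStar

/-!
# Dihedral and semidihedral Sylow 2-subgroups
-/

set_option autoImplicit false
set_option linter.unusedSectionVars false

namespace Cfsg.Agent.ZG

open Subgroup Cfsg.Agent.OO Cfsg.Agent.Coprime GW
open scoped commutatorElement Pointwise

universe u

variable {G : Type u} [Group G] {A H P R T X : Subgroup G} {a b c g j s t v w x y z ρ : G} {q : ℕ}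

/-- all involutions are conjugate -/
def OneCl (G : Type u) [Group G] : Prop :=
  ∀ a b : G, a ≠ 1 → a * a = 1 → b ≠ 1 → b * b = 1 → IsConj a b

/-- no subgroup of odd prime order is central in its normalizer -/
def NB (G : Type u) [Group G] : Prop :=
  ∀ y : G, (orderOf y).Prime → orderOf y ≠ 2 → ∃ g, g * y * g⁻¹ ∈ zpowers y ∧ g ∉ 𝐂[y]

/-- `⟨a, s⟩` is a Sylow 2-subgroup, dihedral or semidihedral, with central involution `z` -/
structure Tw (a s z : G) : Prop where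
  z_mem : z ∈ zpowers a
  z1 : z ≠ 1
  z2 : z * z = 1
  s2 : s * s = 1
  sa : s ∉ zpowers a
  norm : s * a * s⁻¹ ∈ zpowers a
  cs : ∀ x ∈ zpowers a, s * x = x * s → x = 1 ∨ x = z
  syl : Syl 2 (S4 a s) ⊤

theorem pair_mk [Finite G] (t1 : t ≠ 1) (v1 : v ≠ 1) (ne : t ≠ v) (t2 : t * t = 1) (v2 : v * v = 1)
    (hc : t * v = v * t) : Pair (S4 t v) t v := by
  have h : IsEp 2 2 (S4 t v) ⊤ := (isEp_zpowers (mem_top t) (orderOf_eq_two t2 t1)).sup_two
    (isEp_zpowers (mem_top v) (orderOf_eq_two v2 v1))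
    (by rw [cent_zpowers, zpowers_le]; exact mem_cent1.2 hc.symm) fun e =>
      ((mem_zp v2).1 (e ▸ mem_zpowers t)).elim t1 ne
  exact ⟨t_mem_S4 _ _, s_mem_S4 _ _, t1, v1, ne, t2, v2, hc, by rw [h.card]; decide⟩

theorem zp_comm (hx : x ∈ zpowers a) (hy : y ∈ zpowers a) : x * y = y * x :=
  (Cls.commute_of_mem_zpowers hx hy).eq

theorem two_zp (h : IsPGroup 2 R) (hx : x ∈ R) : IsPGroup 2 (zpowers x) := h.to_le (zpowers_le.2 hx)

theorem conj_tv (h1 : g * t = t * g) (h2 : g * v * g⁻¹ = t * v) (t2 : t * t = 1) :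
    g * g * v = v * (g * g) := by
  rw [← mul_inv_eq_iff_eq_mul, show g * g * v * (g * g)⁻¹ = g * (g * v * g⁻¹) * g⁻¹ by group, h2,
    ← mul_assoc, h1, mul_assoc t, mul_assoc t, h2, ← mul_assoc, t2, one_mul]

variable [Finite G]

theorem conj_cases_S4 (h : Pair X t v) (hn : g ∈ 𝐍(S4 t v)) (hc : g * t = t * g) :
    g * v = v * g ∨ g * v * g⁻¹ = t * v := by
  rcases h.mem_S4.1 (conj_mem_of_norm hn (s_mem_S4 t v)) with e | e | e | e
  · exact absurd e (conj_ne_one.2 h.s_ne)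
  · rw [mul_inv_eq_iff_eq_mul, ← hc] at e
    exact absurd (mul_left_cancel e).symm h.ne
  · exact Or.inl (mul_inv_eq_iff_eq_mul.1 e)
  · exact Or.inr e

theorem comm_of_odd (h : Pair X t v) (hn : g ∈ 𝐍(S4 t v)) (hc : g * t = t * g)
    (ho : Odd (orderOf g)) : g * v = v * g :=
  (conj_cases_S4 h hn hc).elim id fun e => (comm_of_mem (conj_tv hc e h.t_sq).symm
    (sq g ▸ mem_zp_pow (Nat.coprime_two_left.2 ho))).symm

theorem mem_norm_S4 (h1 : g * t * g⁻¹ ∈ S4 t v) (h2 : g * v * g⁻¹ ∈ S4 t v) : g ∈ 𝐍(S4 t v) :=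
  mem_norm_of_conj_le (conj_S4 g t v ▸ S4_le.2 ⟨h1, h2⟩)

/-- the 3-part of an element permuting the three involutions of a four-group -/
theorem three_part (h : Pair X t v) (h1 : g * t * g⁻¹ = v) (h2 : g * v * g⁻¹ = t * v) :
    ∃ ρ ∈ zpowers g, IsPGroup 3 (zpowers ρ) ∧ ρ * t * ρ⁻¹ = v ∧ ρ * v * ρ⁻¹ = t * v := by
  obtain ⟨ρ, hρ, u, hu, e, ⟨k, hk⟩, ho⟩ := Cls.exists_p_part Nat.prime_three g
  have h3 : g * (t * v) * g⁻¹ = t := by
    rw [← conj_mul, h1, h2, ← mul_assoc, ← h.comm.eq, mul_assoc, h.s_sq, mul_one]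
  have e3 : ∀ x, g ^ 3 * x * (g ^ 3)⁻¹ = g * (g * (g * x * g⁻¹) * g⁻¹) * g⁻¹ := fun x => by
    rw [pow_three]; group
  have key : ∀ x, g ^ 3 * x * (g ^ 3)⁻¹ = x → ρ * x * ρ⁻¹ = g * x * g⁻¹ := fun x hx => by
    obtain ⟨i, rfl⟩ := hu
    have : g ^ i ∈ 𝐂[x] := zpowers_le.2 (by
      rw [← zpow_natCast, ← zpow_mul, mul_comm, zpow_mul, zpow_natCast]
      exact zpow_mem (mem_cent1_iff_conj.2 hx) i) (mem_zp_pow ho.symm)
    rw [eq_mul_inv_of_mul_eq e.symm, show g * (g ^ i)⁻¹ * x * (g * (g ^ i)⁻¹)⁻¹ =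
      g * ((g ^ i)⁻¹ * x * (g ^ i)⁻¹⁻¹) * g⁻¹ by group, mem_cent1_iff_conj.1 (inv_mem this)]
  exact ⟨ρ, hρ, Core.isPGroup_zpowers_of_orderOf hk, by rw [key t (by rw [e3, h1, h2, h3]), h1],
    by rw [key v (by rw [e3, h2, h3, h1]), h2]⟩

theorem mem_S4_iff (hn : s * a * s⁻¹ ∈ zpowers a) (s2 : s * s = 1) :
    x ∈ S4 a s ↔ x ∈ zpowers a ∨ x * s ∈ zpowers a := by
  rw [S4, mem_sup_norm_left (zpowers_le.2 (mem_norm_zp hn))]
  refine ⟨?_, fun h => h.elim (fun h => ⟨x, h, 1, one_mem _, mul_one x⟩)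
    fun h => ⟨_, h, s, mem_zpowers s, by rw [mul_assoc, s2, mul_one]⟩⟩
  rintro ⟨y, hy, _, h, rfl⟩
  rcases (mem_zp s2).1 h with rfl | rfl
  · exact Or.inl (by rwa [mul_one])
  · exact Or.inr (by rwa [mul_assoc, s2, mul_one])

namespace Tw

variable (h : Tw a s z)
include h

theorem mem : x ∈ S4 a s ↔ x ∈ zpowers a ∨ x * s ∈ zpowers a := mem_S4_iff h.norm h.s2

omit [Finite G] in
theorem s1 : s ≠ 1 := fun e => h.sa (e ▸ one_mem _)

omit [Finite G] in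
theorem two : IsPGroup 2 (zpowers a) := two_zp h.syl.isPGroup (t_mem_S4 a s)

omit [Finite G] h in
theorem le : zpowers a ≤ S4 a s := le_sup_left

theorem eq_z (hx : x ∈ zpowers a) (x1 : x ≠ 1) (x2 : x * x = 1) : x = z :=
  invol_eq hx h.z_mem x1 x2 h.z1 h.z2

theorem sz : s * z = z * s := mul_inv_eq_iff_eq_mul.1
  (h.eq_z (conj_mem_zp h.norm h.z_mem) (conj_ne_one.2 h.z1) (conj_sq h.z2 s))

theorem le_cent : S4 a s ≤ 𝐂[z] :=
  S4_le.2 ⟨mem_cent1.2 (zp_comm (mem_zpowers a) h.z_mem), mem_cent1.2 h.sz⟩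

theorem mul_mem_zp (hx : x ∈ S4 a s) (hy : y ∈ S4 a s) (h1 : x ∉ zpowers a) (h2 : y ∉ zpowers a) :
    x * y ∈ zpowers a := by
  have := mul_mem ((h.mem.1 hx).resolve_left h1)
    (conj_mem_zp h.norm ((h.mem.1 hy).resolve_left h2))
  rwa [show x * s * (s * (y * s) * s⁻¹) = x * (s * s) * y by group, h.s2, mul_one] at this

theorem sq_mem (hx : x ∈ S4 a s) : x * x ∈ zpowers a := by
  by_cases e : x ∈ zpowers a
  exacts [mul_mem e e, h.mul_mem_zp hx hx e e]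

theorem z_mem_zp (hx : x ∈ zpowers a) (x1 : x ≠ 1) : z ∈ zpowers x := by
  obtain ⟨y, hy, y1, y2⟩ := exists_invol (not_odd h.two hx x1)
  exact h.eq_z (zpowers_le.2 hx hy) y1 y2 ▸ hy

theorem act : s * a * s⁻¹ = a⁻¹ ∨ s * a * s⁻¹ = a⁻¹ * z := by
  have := h.cs _ (mul_mem (mem_zpowers a) h.norm) (by
    rw [← mul_inv_eq_iff_eq_mul, zp_comm (mem_zpowers a) h.norm,
      show s * (s * a * s⁻¹ * a) * s⁻¹ = s * s * a * (s * s)⁻¹ * (s * a * s⁻¹) by group, h.s2,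
      zp_comm h.norm (mem_zpowers a)]
    group)
  exact this.imp eq_inv_of_mul_eq_one_right fun e => by rw [← e]; group

/-- centralizers in `S` of elements outside the cyclic subgroup -/
theorem cent_out (hj : j ∈ S4 a s) (h1 : j ∉ zpowers a) (hy : y ∈ S4 a s) (hc : y * j = j * y) :
    y = 1 ∨ y = z ∨ y = j ∨ y = z * j := by
  have key : ∀ y ∈ zpowers a, y * j = j * y → y = 1 ∨ y = z := fun y hy hc => h.cs y hy <| by
    have e := zp_comm hy ((h.mem.1 hj).resolve_left h1)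
    rw [← mul_assoc, hc, mul_assoc, mul_assoc] at e
    exact (mul_left_cancel e).symm
  by_cases e : y ∈ zpowers a
  · rcases key y e hc with e | e <;> simp [e]
  · rcases key _ (h.mul_mem_zp hy (inv_mem hj) e (by rwa [inv_mem_iff]))
      (by rw [inv_mul_cancel_right, ← mul_assoc, ← hc, mul_inv_cancel_right]) with e | e
    · exact Or.inr (Or.inr (Or.inl (mul_inv_eq_one.1 e)))
    · exact Or.inr (Or.inr (Or.inr (mul_inv_eq_iff_eq_mul.1 e)))

theorem exists_conj_le (hR : IsPGroup 2 R) : ∃ g : G, g •ᶜ R ≤ S4 a s :=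
  (h.syl.exists_conj_le le_top hR).imp fun _ h => h.2

theorem mem_four_aux (p : Pair X t v) (ht : t ∈ S4 a s) (hv : v ∈ S4 a s) (hy : y ∈ S4 a s)
    (h1 : t ∉ zpowers a) (hc : y * t = t * y) : y ∈ S4 t v := by
  have hz : z ∈ S4 t v := by
    rcases h.cent_out ht h1 hv p.comm.symm.eq with e | e | e | e
    · exact absurd e p.s_ne
    · exact e ▸ s_mem_S4 t v
    · exact absurd e.symm p.ne
    · exact (mul_mem_cancel_right (t_mem_S4 t v)).1 (e ▸ s_mem_S4 t v)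
  rcases h.cent_out ht h1 hy hc with e | e | e | e <;> rw [e]
  exacts [one_mem _, hz, t_mem_S4 _ _, mul_mem hz (t_mem_S4 _ _)]

/-- a four-group is a Sylow subgroup of its centralizer -/
theorem mem_four (p : Pair X t v) (hy : IsPGroup 2 (zpowers y)) (h1 : y * t = t * y)
    (h2 : y * v = v * y) : y ∈ S4 t v := by
  obtain ⟨g, e⟩ := h.exists_conj_le (isPGroup_sup p.isEp.isPGroup hy (Or.inr (zpowers_le.2
    (cent_le_norm _ (cent_S4 t v ▸ ⟨mem_cent1.2 h1, mem_cent1.2 h2⟩)))))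
  have ht := e (conj_mem_conj (mem_sup_left (t_mem_S4 t v)))
  have hv := e (conj_mem_conj (mem_sup_left (s_mem_S4 t v)))
  have hy := e (conj_mem_conj (mem_sup_right (mem_zpowers y)))
  have q := p.conj g
  rw [← conj_mem_conj_iff (g := g), conj_S4]
  by_cases e1 : g * t * g⁻¹ ∈ zpowers a
  · rw [S4_comm]
    exact h.mem_four_aux q.symm hv ht hy (fun e2 => q.ne (invol_eq e1 e2 q.t_ne q.t_sq q.s_ne q.s_sq))
      (by rw [conj_mul, conj_mul, h2])
  · exact h.mem_four_aux q ht hv hy e1 (by rw [conj_mul, conj_mul, h1])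

theorem pair_cent (p : Pair X t v) : Pair (𝐂[t] ⊓ 𝐂[v]) t v := by
  have hle : S4 t v ≤ 𝐂[t] ⊓ 𝐂[v] := le_inf p.le_cent p.le_cent'
  have hS : Syl 2 (S4 t v) (𝐂[t] ⊓ 𝐂[v]) := syl_of_max hle p.isEp.isPGroup fun U h1 h2 hU =>
    le_antisymm (fun y hy => h.mem_four p (two_zp hU hy) (mem_cent1.1 (h2 hy).1)
      (mem_cent1.1 (h2 hy).2)) h1
  refine { p with t_mem := (S4_le.1 hle).1, s_mem := (S4_le.1 hle).2, not_dvd := fun e => ?_ }
  rw [← card_mul_relIndex hle, p.card] at e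
  exact hS.not_dvd (Nat.dvd_of_mul_dvd_mul_left (k := 4) (by decide) e)

theorem pair : Pair (𝐂[z] ⊓ 𝐂[s]) z s :=
  h.pair_cent (pair_mk h.z1 h.s1 (fun e => h.sa (e ▸ h.z_mem)) h.z2 h.s2 h.sz.symm)

/-- an involution fixing `t` and interchanging the other two involutions -/
theorem exists_swap (h1 : OneCl G) (ha : a * a ≠ 1) (p : Pair X t v) :
    ∃ w, w * w = 1 ∧ w * t = t * w ∧ w * v * w⁻¹ = t * v := by
  obtain ⟨g, rfl⟩ := isConj_iff.1 (h1 z t h.z1 h.z2 p.t_ne p.t_sq)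
  have hS : Syl 2 (g •ᶜ S4 a s) 𝐂[g * z * g⁻¹] :=
    ((h.syl.conj_of_mem (mem_top g)).hall.mono (cent1_conj g z ▸ conj_mono g h.le_cent) le_top).syl
  obtain ⟨k, hk, e⟩ := hS.exists_le_conj' p.le_cent p.isEp.isPGroup
  have hT := hS.conj_of_mem hk
  have hlt : S4 (g * z * g⁻¹) v < k •ᶜ g •ᶜ S4 a s := lt_of_le_of_ne e fun e => ha <| by
    have := p.isEp.abelem.2 _ (e ▸ conj_mem_conj (conj_mem_conj (t_mem_S4 a s)))
    simpa [sq] using this
  generalize g * z * g⁻¹ = t at *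
  obtain ⟨y, ⟨hy, hn⟩, hy'⟩ := SetLike.exists_of_lt (lt_inf_norm_of_nil hT.nil hlt)
  have c1 := mem_cent1.1 (hT.le hy)
  have c2 : y * v ≠ v * y := fun e => hy' (h.mem_four p (two_zp hT.isPGroup hy) c1 e)
  have e1 := (conj_cases_S4 p hn c1).resolve_left c2
  have e2 := h.mem_four p (two_zp hT.isPGroup (mul_mem hy hy))
    (by rw [mul_assoc, c1, ← mul_assoc, c1, mul_assoc]) (conj_tv c1 e1 p.t_sq)
  rcases p.mem_S4.1 e2 with e | e | e | e
  · exact ⟨y, e, c1, e1⟩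
  · refine ⟨y * v, ?_, by rw [mul_assoc, ← p.comm.eq, ← mul_assoc, c1, mul_assoc], ?_⟩
    · rw [show y * v * (y * v) = y * v * y⁻¹ * (y * y) * v by group, e1, e, mul_assoc t v, ← p.comm.eq,
        ← mul_assoc, p.t_sq, one_mul, p.s_sq]
    · rw [← e1]; group
  · exact absurd (by rw [← e, mul_assoc]) c2
  · refine absurd (mul_left_cancel (a := t) ?_) c2
    rw [← mul_assoc, ← c1, mul_assoc, ← e, ← mul_assoc t, ← e, mul_assoc]

theorem exists_rot (h1 : OneCl G) (ha : a * a ≠ 1) (p : Pair X t v) :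
    ∃ w ρ, w * w = 1 ∧ w * t = t * w ∧ w * v * w⁻¹ = t * v ∧ w * ρ * w⁻¹ = ρ⁻¹ ∧
      IsPGroup 3 (zpowers ρ) ∧ ρ * t * ρ⁻¹ = v ∧ ρ * v * ρ⁻¹ = t * v := by
  obtain ⟨w, w2, a1, a2⟩ := h.exists_swap h1 ha p
  obtain ⟨u, u2, b1, b2⟩ := h.exists_swap h1 ha p.symm
  obtain ⟨ρ, hρ, h3⟩ := three_part (g := w * u) p (by
    rw [show w * u * t * (w * u)⁻¹ = w * (u * t * u⁻¹) * w⁻¹ by group, b2, ← conj_mul, a2, a1,
      mul_inv_cancel_right, p.comm.eq, mul_assoc, p.t_sq, mul_one]) (by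
    rw [show w * u * v * (w * u)⁻¹ = w * (u * v * u⁻¹) * w⁻¹ by group, b1, mul_inv_cancel_right, a2])
  refine ⟨w, ρ, w2, a1, a2, inv_of_mem ?_ hρ, h3⟩
  rw [← mul_assoc, w2, one_mul, mul_inv_rev, inv_eq u2]

end Tw

theorem cent_normal (y : G) : 𝐂[y] ⊴ 𝐍(zpowers y) :=
  cent_zpowers y ▸ ⟨cent_le_norm _, norm_le_norm_cent _⟩

theorem dvd_sub_one {r : ℕ} (hq : (orderOf y).Prime) (hr : r.Prime) (hg : IsPGroup r (zpowers g))
    (hn : g * y * g⁻¹ ∈ zpowers y) (hc : g ∉ 𝐂[y]) : r ∣ orderOf y - 1 := by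
  have := Fact.mk hr
  have h := Ord1092.relIndex_cent_dvd (P := zpowers y) inferInstance
  rw [Nat.card_zpowers, Nat.totient_prime hq, cent_zpowers] at h
  by_contra e
  exact hc (zpowers_le.1 ((piGrp_singleton hg).le_of_relIndex (zpowers_le.2 (mem_norm_zp hn))
    (cent_normal y).norm ((isPiNum_compl_singleton hr).2 fun e' => e (e'.trans h))))

/-- Frattini argument in the normalizer of a subgroup of prime order -/
theorem NB.step (h : NB G) (hq : (orderOf y).Prime) (h2 : orderOf y ≠ 2) (hT : Syl 2 T ⊤)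
    (hy : T ≤ 𝐂[y]) : ∃ r n, r.Prime ∧ r ≠ 2 ∧ r ∣ orderOf y - 1 ∧ n ∈ 𝐍(T) ∧
      IsPGroup r (zpowers n) ∧ n * y * n⁻¹ ∈ zpowers y ∧ n ∉ 𝐂[y] := by
  obtain ⟨g, hg, hc⟩ := h y hq h2
  obtain ⟨c, hc', n, ⟨hn, hn'⟩, rfl⟩ := ((hT.hall.mono hy le_top).syl.frattini
    (cent_normal y)).mem_iff.1 (mem_norm_zp hg)
  rw [mul_mem_cancel_left hc'] at hc
  have := mt Cls.mem_of_forall_prime_pow hc
  push Not at this
  obtain ⟨r, hr, u, hu, ⟨k, hk⟩, hu'⟩ := this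
  have h3 := Core.isPGroup_zpowers_of_orderOf hk
  have h4 := conj_mem_of_norm (zpowers_le.2 hn hu) (mem_zpowers y)
  refine ⟨r, u, hr, ?_, dvd_sub_one hq hr h3 h4 hu', zpowers_le.2 hn' hu, h3, h4, hu'⟩
  rintro rfl
  exact hu' (hy (hT.mem_of_mem_norm (mem_top u) (zpowers_le.2 hn' hu) (isPGroup_zpowers_iff.1 h3)))

theorem odd_of_pgroup {r : ℕ} (hr : r.Prime) (h2 : r ≠ 2) (h : IsPGroup r (zpowers g)) :
    Odd (orderOf g) := by
  have := Fact.mk hr
  exact Nat.card_zpowers g ▸ odd_of_isPGroup h2 h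

theorem exists_order_mem {r : ℕ} (hr : r.Prime) (h : IsPGroup r (zpowers g)) (g1 : g ≠ 1) :
    ∃ x ∈ zpowers g, orderOf x = r := by
  have := Fact.mk hr
  exact cauchy hr (dvd_card_of_isPGroup h (by rwa [Ne, zpowers_eq_bot]))

/-- the centralizer of a nonabelian Sylow 2-subgroup is a 2-group -/
theorem Tw.eq_one_of_odd (h : Tw a s z) (hA : Alm G) (hN : NB G) (ha : a * a ≠ 1)
    (ho : Odd (orderOf y)) (h1 : y * a = a * y) (h2 : y * s = s * y) : y = 1 := by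
  have key : ∀ q, ∀ y : G, orderOf y = q → q.Prime → q ≠ 2 → y ∉ 𝐂(S4 a s) := fun q => by
    refine Nat.strong_induction_on q fun q ih y hy hq h2 hc => ?_
    subst hy
    obtain ⟨r, n, hr, r2, hd, hn, hp, -, hn'⟩ := hN.step hq h2 h.syl (le_cent1_iff.2 hc)
    obtain ⟨x, hx, ho⟩ := exists_order_mem hr hp fun e => hn' (e ▸ one_mem _)
    refine ih r ((Nat.le_of_dvd (by have := hq.two_le; omega) hd).trans_lt
      (by have := hq.two_le; omega)) x ho hr r2 (zpowers_le.2 ?_ hx)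
    exact hA.cent_of_odd h.syl.isPGroup hn (odd_of_pgroup hr r2 hp) (t_mem_S4 a s) ha
      (Tw.le h.z_mem) h.z1 h.z2 (s_mem_S4 a s) h.s1 h.s2 fun e => h.sa (e ▸ h.z_mem)
  by_contra y1
  obtain ⟨x, hx, hp⟩ := exists_prime_mem y1
  refine key _ x rfl hp (fun e => ?_)
    (zpowers_le.2 (cent_S4 a s ▸ ⟨mem_cent1.2 h1, mem_cent1.2 h2⟩) hx)
  exact (ho.of_dvd_nat (orderOf_dvd_of_mem_zpowers hx)).not_two_dvd_nat (e ▸ dvd_rfl)

/-- construction of the data from fusion of `s` and `z` -/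
theorem tw_mk (hP : Syl 2 P ⊤) (ha : a ∈ P)
    (H : ∀ x ∈ P, ∀ y ∈ P, x ∉ zpowers a → y ∉ zpowers a → x * y ∈ zpowers a) (hz : z ∈ zpowers a)
    (z1 : z ≠ 1) (z2 : z * z = 1) (hs : s ∈ P) (sa : s ∉ zpowers a) (s2 : s * s = 1)
    (hc : IsConj s z) : Tw a s z := by
  have hn : s * a * s⁻¹ ∈ zpowers a := H _ (mul_mem hs ha) _ (inv_mem hs)
    (by rwa [mul_mem_cancel_right (mem_zpowers a)]) (by rwa [inv_mem_iff])
  have e : S4 a s = P := le_antisymm (S4_le.2 ⟨ha, hs⟩) fun x hx =>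
    (mem_S4_iff hn s2).2 (or_iff_not_imp_left.2 fun e => H x hx s hs e sa)
  refine ⟨hz, z1, z2, s2, sa, hn, fun x hx hc' => ?_, e ▸ hP⟩
  by_contra! hx'
  have h2 := two_zp hP.isPGroup ha
  have x2 : x * x ≠ 1 := fun e => hx'.2 (invol_eq hx hz hx'.1 e z1 z2)
  obtain ⟨_, ⟨i, rfl⟩, y1, y2⟩ := exists_invol (not_odd h2 (mul_mem hx hx) x2)
  have e1 : x ^ i * x ^ i = z := by
    rw [← (Commute.refl x).mul_zpow]
    exact invol_eq (zpow_mem (mul_mem hx hx) i) hz y1 y2 z1 z2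
  obtain ⟨g, hg⟩ := isConj_iff.1 hc
  have hPz : P ≤ 𝐂[z] := e ▸ S4_le.2 ⟨mem_cent1.2 (zp_comm (mem_zpowers a) hz),
    mem_cent1_iff_conj.2 (invol_eq (conj_mem_zp hn hz) hz (conj_ne_one.2 z1) (conj_sq z2 s) z1 z2)⟩
  obtain ⟨k, hk, e2⟩ := (hP.hall.mono hPz le_top).syl.exists_conj_le
    (Q := zpowers (g * x ^ i * g⁻¹)) (zpowers_le.2 (by
      rw [← hg, cent1_conj]
      exact conj_mem_conj (zpow_mem (mem_cent1.2 hc'.symm) i)))
    (conj_zpowers g _ ▸ isPGroup_conj.2 (two_zp h2 (zpow_mem hx i)))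
  have e3 := e2 (conj_mem_conj (mem_zpowers _))
  have e4 : k * (g * z * g⁻¹) * k⁻¹ ∈ zpowers a := by
    rw [← e1, ← conj_mul (b := g), ← conj_mul (b := k)]
    by_cases e : k * (g * x ^ i * g⁻¹) * k⁻¹ ∈ zpowers a
    exacts [mul_mem e e, H _ e3 _ e3 e e]
  have e5 := invol_eq e4 hz (conj_ne_one.2 (conj_ne_one.2 z1)) (conj_sq (conj_sq z2 g) k) z1 z2
  rw [mul_inv_eq_iff_eq_mul, ← mem_cent1.1 hk, mul_right_inj] at e5
  exact sa (by rwa [← mul_left_cancel (mul_right_cancel (e5.trans hg.symm))])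

/-- Thompson's transfer lemma gives one class of involutions -/
theorem oneCl (hG : ∀ N : Subgroup G, N.Normal → N.index ≠ 2) (hP : Syl 2 P ⊤) (ha : a ∈ P)
    (H : ∀ x ∈ P, ∀ y ∈ P, x ∉ zpowers a → y ∉ zpowers a → x * y ∈ zpowers a) (hs : s ∈ P)
    (sa : s ∉ zpowers a) : OneCl G := by
  obtain ⟨Q, rfl⟩ := hP.toTransfer.exists_sylow_eq
  have key : ∀ j : G, j * j = 1 → ∃ g, g⁻¹ * j * g ∈ zpowers a := fun j hj => by
    by_contra! e
    obtain ⟨N, h1, h2, -⟩ := Transfer.thompson_transfer_sylow Q (zpowers_le.2 ha)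
      (relIndex_eq_two_iff_exists_notMem_and.2 ⟨s, hs, sa, fun b hb =>
        or_iff_not_imp_right.2 fun e => H b hb s hs e sa⟩) (by rwa [sq]) e
    exact hG N h1 h2
  intro x y x1 x2 y1 y2
  obtain ⟨g, hg⟩ := key x x2
  obtain ⟨k, hk⟩ := key y y2
  have := invol_eq hg hk (conj_ne_one'.2 x1) (by simpa using conj_sq x2 g⁻¹) (conj_ne_one'.2 y1)
    (by simpa using conj_sq y2 k⁻¹)
  refine isConj_iff.2 ⟨k * g⁻¹, ?_⟩
  rw [mul_inv_rev, inv_inv, mul_assoc k, mul_assoc k, ← mul_assoc _ g, this]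
  group

section Simple

variable [IsSimpleGroup G] (hna : ¬ IsMulCommutative G)
include hna

theorem not_sol : ¬ Group.IsSolvable G := fun h =>
  hna ⟨⟨IsSimpleGroup.comm_iff_isSolvable.2 h⟩⟩

theorem not_sol' : ¬ Sol (⊤ : Subgroup G) := fun _ => not_sol hna
  (Group.isSolvable_of_surjective (f := (⊤ : Subgroup G).subtype) fun x => ⟨⟨x, trivial⟩, rfl⟩)

theorem not_pnil {p : ℕ} [hp : Fact p.Prime] (hd : p ∣ Nat.card G) : ¬ PNil p (⊤ : Subgroup G) := by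
  intro h
  rcases IsSimpleGroup.eq_bot_or_eq_top_of_normal _
    (normalIn_top.1 (Opi_normal ({p} : Set ℕ)ᶜ (⊤ : Subgroup G))) with e | e
  · obtain ⟨P, hP⟩ := exists_syl p (⊤ : Subgroup G)
    exact not_sol' hna ((h.sdprod hP).right_eq_iff.2 e ▸ hP.sol)
  · exact not_dvd_Op' (p := p) (⊤ : Subgroup G) (by rwa [show Op' p (⊤ : Subgroup G) = ⊤ from e, card_top])

theorem two_dvd : 2 ∣ Nat.card G := by
  by_contra e
  exact not_sol' hna (sol_of_odd (by rwa [card_top, Nat.odd_iff, ← Nat.two_dvd_ne_zero]))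

theorem index_ne_two (N : Subgroup G) (hN : N.Normal) : N.index ≠ 2 := fun e => by
  rcases IsSimpleGroup.eq_bot_or_eq_top_of_normal N hN with rfl | rfl
  · rw [index_bot] at e
    exact hna (isCyclic_of_prime_card (p := 2) e).isMulCommutative
  · simp at e

theorem Cyc.nb (h : Cyc G) : NB G := fun y hq h2 => by
  have := Fact.mk hq
  by_contra! H
  obtain ⟨P, hP, hy⟩ := exists_syl_ge (le_top (a := zpowers y))
    (Core.isPGroup_zpowers_of_orderOf (k := 1) (pow_one _).symm)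
  have hc := h _ hq h2 P hP.isPGroup
  refine not_pnil hna (orderOf_dvd_natCard y) (pnil_of_sdprod
    (Burnside_normal_complement hP fun g hg => ?_) (Opi_piGrp _ _) hP.isPGroup)
  refine Cls.mem_of_forall_prime_pow fun r hr u hu ⟨k, hk⟩ => ?_
  have hn := zpowers_le.2 hg.2 hu
  by_cases e : r = orderOf y
  · subst e
    exact (ab_of_isCyclic hc).le_cent (hP.mem_of_mem_norm (mem_top u) hn
      (isPGroup_zpowers_iff.1 (Core.isPGroup_zpowers_of_orderOf hk)))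
  · exact Schur.mem_centralizer_of_isCyclic hP.isPGroup hn
      (hk ▸ ((Nat.coprime_primes hr hq).2 e).pow_left k) (hy (mem_zpowers y))
      (fun e => hq.ne_one (by rw [e, orderOf_one])) (mem_cent1.1 (H u
        (conj_mem_of_norm (norm_le_norm_of_isCyclic hc hy hn) (mem_zpowers y))))

theorem Alm.exists_tw (h : Alm G) : ∃ a s z : G, Tw a s z ∧ OneCl G := by
  obtain ⟨P, hP⟩ := exists_syl 2 (⊤ : Subgroup G)
  obtain ⟨a, ha, H⟩ := h P hP.isPGroup
  have nc : ∀ b ∈ P, ∃ s ∈ P, s ∉ zpowers b := fun b hb => by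
    by_contra! e
    have : IsCyclic P := le_antisymm (zpowers_le.2 hb) e ▸ inferInstance
    exact not_pnil hna (two_dvd hna) (pnil_of_sdprod (cyclic_pdiv_normal_complement hP this
      fun q hq _ => hq.two_le) (Opi_piGrp _ _) hP.isPGroup)
  obtain ⟨b, hb, ba⟩ := nc a ha
  have a1 : a ≠ 1 := by
    rintro rfl
    obtain ⟨c, hc, cb⟩ := nc b hb
    have := H b hb c hc ba fun e => cb (by simp_all)
    rw [zpowers_one_eq_bot, mem_bot] at this
    exact cb (eq_inv_of_mul_eq_one_right this ▸ inv_mem (mem_zpowers b))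
  have h1 := oneCl (index_ne_two hna) hP ha H hb ba
  obtain ⟨z, hz, z1, z2⟩ := exists_invol (not_odd hP.isPGroup ha a1)
  obtain ⟨s, hs, sa, s2⟩ : ∃ s ∈ P, s ∉ zpowers a ∧ s * s = 1 := by
    by_contra! e
    have hz' := R1.zstar G z z2 fun g hg => by
      obtain ⟨k, -, hk⟩ := hP.exists_conj_le le_top (isPGroup_sup (two_elt z2)
        (two_elt (conj_sq z2 g)) (Or.inl (le_norm_of_le_cent (by
          rw [cent_zpowers, zpowers_le]; exact mem_cent1.2 hg))))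
      have key : ∀ x ∈ zpowers z ⊔ zpowers (g * z * g⁻¹), x * x = 1 → k * x * k⁻¹ ∈ zpowers a :=
        fun x hx x2 => by_contra fun e' => e _ (hk (conj_mem_conj hx)) e' (conj_sq x2 k)
      exact mul_left_cancel (mul_right_cancel (invol_eq
        (key _ (mem_sup_right (mem_zpowers _)) (conj_sq z2 g)) (key _ (mem_sup_left (mem_zpowers _)) z2)
        (conj_ne_one.2 (conj_ne_one.2 z1)) (conj_sq (conj_sq z2 g) k) (conj_ne_one.2 z1) (conj_sq z2 k)))
    have h0 : pPrimeCore 2 G = ⊥ :=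
      (IsSimpleGroup.eq_bot_or_eq_top_of_normal _ inferInstance).resolve_right fun e =>
        Core.not_dvd_card_pPrimeCore (p := 2) (G := G) (by rw [e, card_top]; exact two_dvd hna)
    have hc : z ∈ center G := mem_center_iff.2 fun g => by
      have := hz' g
      rwa [h0, mem_bot, mul_inv_eq_one, mul_inv_eq_iff_eq_mul] at this
    rcases IsSimpleGroup.eq_bot_or_eq_top_of_normal (center G) inferInstance with e | e
    · exact z1 (by rwa [e] at hc)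
    · exact hna ⟨⟨fun x y => mem_center_iff.1 (e ▸ mem_top y) x⟩⟩
  exact ⟨a, s, z, tw_mk hP ha H hz z1 z2 hs sa s2
    (h1 _ _ (fun e => sa (e ▸ one_mem _)) s2 z1 z2), h1⟩

end Simple

end Cfsg.Agent.ZG
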