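import Cfsg.Agent.Lib.ZG.SD4
import Cfsg.Agent.Lib.GW.Main
import Cfsg.Agent.Lib.Schur.Pullback
import Cfsg.Agent.Lib.E8.Iso

/-!
# Simple groups with cyclic Sylow subgroups for odd primes, and their double covers
-/

set_option autoImplicit false
set_option linter.unusedSectionVars false

namespace Cfsg.Agent.ZG

open Subgroup Cfsg.Agent.OO Cfsg.Agent.Coprime GW
open scoped commutatorElement Pointwise MatrixGroups

universe u

theorem simple_main (n : ℕ) : IH.{u} n := by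
  induction n with
  | zero => exact fun _ _ _ h => absurd h (Nat.not_lt_zero _)
  | succ n ih =>
    intro G _ _ hn hs hna hC hA
    rcases (Nat.lt_succ_iff.1 hn).lt_or_eq with hn | rfl
    · exact ih G hn hs hna hC hA
    obtain ⟨a, s, z, h, h1⟩ := hA.exists_tw hna
    have h0 := O_eq_bot hna
    have hab : ¬ Ab (⊤ : Subgroup G) := fun e => not_sol' hna (sol_of_ab e)
    by_cases ha : a * a = 1
    · obtain rfl : a = z := h.eq_z (mem_zpowers a) (fun e => h.z1 (by simpa [e] using h.z_mem)) ha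
      have p := pair_of_syl h.pair h.syl
      obtain ⟨F, _, _, -, h8, ⟨e⟩⟩ := R1.gw4 G hs hna (card_top (G := G) ▸ p.not_dvd)
      have hg := good_of_equiv (Nat.odd_iff.2 (by omega)) (topEquiv.trans e) smp_top hab
      have p' := p.mono' p.le_cent le_top
      exact ⟨_, _, _, h.hyp (by rw [h.sz, mul_inv_cancel_right, inv_eq ha]) hC h1
        (pnil_of_sdprod (p'.sdprod_of_cent le_rfl) (Opi_piGrp _ _) h.syl.isPGroup)
        (fun x => conj_eq_inv h.s2 ((Opi_normal _ _).norm p'.s_mem) (eq_bot_iff.2 fun y hy =>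
          by_contra fun y1 => p.ne (hg.ui y (mem_top y) (odd_of_mem (odd_O _) hy.1) y1 a
            ⟨mem_top a, mem_cent1_comm.1 (Opi_le _ _ hy.1)⟩ s ⟨mem_top s, mem_cent1_comm.1 hy.2⟩
            h.z1 ha h.s1 h.s2)))
        (le_cent1_iff.1 (Opi_le _ _))⟩
    rcases h.act with e | e
    · exact ⟨_, _, _, Dh.hyp ⟨h, hA, hC, hC.nb hna, h1, e, ha⟩ h0⟩
    · obtain ⟨x, hx⟩ := exists_sd h e hA hC (hC.nb hna) h1 (smp_top.perfect hab)
      obtain ⟨k, hk⟩ := hx.exists_pk ih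
      exact (hx.false (smp_top.perfect hab) hk).elim

variable {G : Type u} [Group G] [Finite G] {Q : Type*} [Group Q] {x y : G}

theorem mem_der_syl {T : Subgroup G} (hT : Syl 2 T ⊤) (hp : der (⊤ : Subgroup G) = ⊤) (hx : x ∈ T)
    (hc : x ∈ center G) : x ∈ der T := by
  have h1 := MonoidHom.transfer_eq_pow (Abelianization.of (G := T)) x fun k g _ => by
    rw [mul_assoc, ← mem_center_iff.1 (pow_mem hc k) g, inv_mul_cancel_left]
  have h2 : x ∈ (MonoidHom.transfer (Abelianization.of (G := T))).ker :=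
    Abelianization.commutator_subset_ker _ (hp.ge (mem_top x))
  rw [MonoidHom.mem_ker, h1, ← MonoidHom.mem_ker, Abelianization.ker_of] at h2
  refine zpowers_le.2 (der_eq_map T ▸ mem_map_of_mem T.subtype h2) (mem_zp_pow ?_)
  obtain ⟨k, hk⟩ := Core.exists_orderOf_eq_pow_of_mem hT.isPGroup hx
  exact hk ▸ (Nat.coprime_two_right.2 (Nat.odd_iff.2
    (Nat.two_dvd_ne_zero.1 (relIndex_top_right T ▸ hT.not_dvd)))).pow_right k

/-- the 2-part of the Schur multiplier has order at most 2 -/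
theorem ker_eq (φ : G →* Q) (hA : Alm Q) (hp : der (⊤ : Subgroup G) = ⊤) (hc : φ.ker ≤ center G)
    (h2 : IsPGroup 2 φ.ker) (hx : x ∈ φ.ker) (hy : y ∈ φ.ker) (x1 : x ≠ 1) (y1 : y ≠ 1) : x = y := by
  obtain ⟨T, hT, hk⟩ := exists_syl_ge le_top h2
  obtain ⟨_, ⟨a, ha, rfl⟩, H⟩ := hA _ (hT.isPGroup.map φ)
  have mem : ∀ y, y ∈ φ.ker ⊔ zpowers a ↔ φ y ∈ zpowers (φ a) := fun y => by
    rw [sup_comm, ← comap_map_eq, MonoidHom.map_zpowers, mem_comap]
  have hab : Ab (φ.ker ⊔ zpowers a) := ab_of_Zc_sup_zpowers (le_inf le_sup_left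
    fun y hy => mem_cent_iff.2 fun w _ => mem_center_iff.1 (hc hy) w) le_rfl (mem_sup_right (mem_zpowers a))
  have two : ∀ y ∈ T, y ∉ φ.ker ⊔ zpowers a → ∀ w ∈ T, w ∉ φ.ker ⊔ zpowers a →
      y * w ∈ φ.ker ⊔ zpowers a := fun y hy e w hw e' => by
    rw [mem] at e e' ⊢
    exact map_mul φ y w ▸ H _ (mem_map_of_mem φ hy) _ (mem_map_of_mem φ hw) e e'
  have key := fun x (hx : x ∈ φ.ker) => mem_der_syl hT hp (hk hx) (hc hx)
  by_cases e : T ≤ φ.ker ⊔ zpowers a
  · exact absurd (mem_bot.1 (ab_iff_der.1 (ab_of_le hab e) ▸ key x hx)) x1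
  obtain ⟨s, hs, e⟩ := SetLike.not_le_iff_exists.1 e
  have aA : a ∈ φ.ker ⊔ zpowers a := mem_sup_right (mem_zpowers a)
  have h3 : s * a * s⁻¹ ∈ φ.ker ⊔ zpowers a := two _ (mul_mem hs ha) (by rwa [mul_mem_cancel_right aA])
    _ (inv_mem hs) (by rwa [inv_mem_iff])
  have h4 : s * ⁅a, s⁆ * s⁻¹ = ⁅a, s⁆⁻¹ := by
    rw [commutatorElement_def, show s * (a * s * a⁻¹ * s⁻¹) * s⁻¹ =
      s * a * s⁻¹ * (s * s * a⁻¹ * (s * s)⁻¹) by group, ab_iff.1 hab _ (two s hs e s hs e) _ (inv_mem aA)]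
    group
  have h5 : T ≤ (φ.ker ⊔ zpowers a) ⊔ zpowers s := fun y hy => by
    by_cases e' : y ∈ φ.ker ⊔ zpowers a
    · exact mem_sup_left e'
    · exact (mul_mem_cancel_right (mem_sup_right (mem_zpowers s))).1 (mem_sup_left (two y hy e' s hs e))
  have h6 : ⁅a, s⁆ ∈ φ.ker ⊔ zpowers a := by
    rw [commutatorElement_def, show a * s * a⁻¹ * s⁻¹ = a * (s * a * s⁻¹)⁻¹ by group]
    exact mul_mem aA (inv_mem h3)
  have n1 : φ.ker ⊔ zpowers a ≤ 𝐍(zpowers ⁅a, s⁆) :=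
    le_norm_of_le_cent (le_cent_symm ((zpowers_le.2 h6).trans hab.le_cent))
  have n2 := mem_norm_zp (h4 ▸ inv_mem (mem_zpowers ⁅a, s⁆))
  have n3 := h5.trans (sup_le n1 (zpowers_le.2 n2))
  have h7 : der T ≤ zpowers ⁅a, s⁆ := (ab_quo_iff n3).1 (ab_of_Zc_sup_zpowers
    (A := (φ.ker ⊔ zpowers a) ⁒ _) (le_inf (quo_mono _ (sup_le hk (zpowers_le.2 ha))) (le_cent_symm
      ((quo_mono _ h5).trans (by
        rw [quo_sup n1 (zpowers_le.2 n2)]
        refine sup_le (ab_quo hab _).le_cent (le_cent_symm ?_)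
        rw [quo_sup (le_sup_left.trans n1) (le_sup_right.trans n1), quo_zpowers n2, cent_zpowers,
          quo_zpowers (n1 aA)]
        exact sup_le ((quo_mono _ fun y hy => mem_cent1.2 (mem_center_iff.1 (hc hy) s).symm).trans
          (quo_cent1_le n2)) (zpowers_le.2 (mem_cent1.2
            ((coset_commute_iff (n1 aA) n2).2 (mem_zpowers _))))))))
    (by rw [← quo_zpowers n2, ← quo_sup n1 (zpowers_le.2 n2)]; exact quo_mono _ h5) (coset_mem_quo _ hs))
  have sq : ∀ x ∈ φ.ker, x * x = 1 := fun x hx => by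
    nth_rewrite 2 [← inv_inv x]
    rw [← inv_of_mem h4 (h7 (key x hx)), mem_center_iff.1 (hc hx) s, mul_inv_cancel_right, mul_inv_cancel]
  exact invol_eq (h7 (key x hx)) (h7 (key y hy)) x1 (sq x hx) y1 (sq y hy)

theorem der_der {Z : Subgroup G} (hZ : Z ≤ center G) (h : ⊤ ≤ der ⊤ ⊔ Z) :
    der (der (⊤ : Subgroup G)) = der ⊤ := by
  refine le_antisymm (der_le _) (commutator_le.2 fun x _ y _ => ?_)
  have hn : Z ≤ 𝐍(der (⊤ : Subgroup G)) := le_top.trans (der_normal ⊤).norm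
  obtain ⟨a, ha, z, hz, rfl⟩ := (mem_sup_norm_left hn).1 (h (mem_top x))
  obtain ⟨b, hb, w, hw, rfl⟩ := (mem_sup_norm_left hn).1 (h (mem_top y))
  rw [Schur.commutatorElement_mul_central a b z w (hZ hz) (hZ hw)]
  exact commutator_mem_commutator ha hb

theorem bij_of {P W : Type*} [Group P] [Group W] {E : Subgroup P} {π : P →* W} (k : W →* Q)
    (m : E.map π = ⊤) (n : k.ker ≠ ⊥) (key : ∀ x y : E, x ∈ ((k.comp π).comp E.subtype).ker →
      y ∈ ((k.comp π).comp E.subtype).ker → x ≠ 1 → y ≠ 1 → x = y) :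
    Function.Bijective (π.comp E.subtype) := by
  obtain ⟨w, hw, w1⟩ := (bot_or_exists_ne_one k.ker).resolve_left n
  obtain ⟨y, hy, rfl⟩ := m.ge (mem_top w)
  refine ⟨(injective_iff_map_eq_one _).2 fun x hx => by_contra fun x1 => w1 ?_,
    fun w => (m.ge (mem_top w)).elim fun y hy => ⟨⟨y, hy.1⟩, hy.2⟩⟩
  rw [← hx, key x ⟨y, hy⟩ ((congrArg k hx).trans (map_one k)) hw x1
    fun e => w1 (by rw [show y = 1 from congrArg Subtype.val e, map_one])]
  rfl

theorem cover {Y : Type*} [Group Y] [Finite Y] (f : G →* Q) (g : Y →* Q) (hA : Alm Q)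
    (hf : Function.Surjective f) (hg : Function.Surjective g) (hp : der (⊤ : Subgroup G) = ⊤)
    (hp' : der (⊤ : Subgroup Y) = ⊤) (c1 : f.ker ≤ center G) (c2 : g.ker ≤ center Y)
    (p1 : IsPGroup 2 f.ker) (p2 : IsPGroup 2 g.ker) (n1 : f.ker ≠ ⊥) (n2 : g.ker ≠ ⊥) :
    Nonempty (G ≃* Y) := by
  let E := der (⊤ : Subgroup (Schur.pb f g))
  have s1 := Schur.pbFst_surjective f g hg
  have s2 := Schur.pbSnd_surjective f g hf
  have m1 : E.map (Schur.pbFst f g) = ⊤ := by rw [map_der, map_top_of_surjective _ s1, hp]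
  have m2 : E.map (Schur.pbSnd f g) = ⊤ := by rw [map_der, map_top_of_surjective _ s2, hp']
  have hE : der (⊤ : Subgroup E) = ⊤ := map_injective E.subtype_injective (by
    rw [map_der, map_subtype_top]
    exact der_der (Schur.pbFst_ker_le_center f g c2) (by rw [← comap_map_eq, m1, comap_top]))
  have key := fun x y => ker_eq (x := x) (y := y) ((f.comp (Schur.pbFst f g)).comp E.subtype) hA hE
    (fun x hx => mem_center_iff.2 fun y => Subtype.ext
      (mem_center_iff.1 (Schur.pb_ker_le_center f g c1 c2 hx) y)) fun x => by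
      obtain ⟨i, hi⟩ := p1 ⟨x.1.1.1.1, x.2⟩
      obtain ⟨j, hj⟩ := p2 ⟨x.1.1.1.2, (x.1.1.2 : _ = _).symm.trans x.2⟩
      refine ⟨i + j, Subtype.ext (Subtype.ext (Subtype.ext (Prod.ext ?_ ?_)))⟩
      · simpa [pow_add, pow_mul] using
          (congrArg (fun y : f.ker => (y : G) ^ 2 ^ j) hi).trans (one_pow _)
      · simpa [pow_add, mul_comm (2 ^ i), pow_mul] using
          (congrArg (fun y : g.ker => (y : Y) ^ 2 ^ i) hj).trans (one_pow _)
  exact ⟨(MulEquiv.ofBijective _ (bij_of f m1 n1 key)).symm.trans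
    (MulEquiv.ofBijective _ (bij_of g m2 n2 (Schur.pb_comm f g ▸ key)))⟩

end Cfsg.Agent.ZG
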