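import Cfsg.Agent.Lib.ZG.SD3

/-!
# Semidihedral Sylow 2-subgroups do not occur
-/

set_option autoImplicit false
set_option linter.unusedSectionVars false

namespace Cfsg.Agent.ZG

open Subgroup Cfsg.Agent.OO Cfsg.Agent.Coprime GW
open scoped commutatorElement Pointwise

universe u

variable {G : Type u} [Group G] [Finite G] {A K M P X : Subgroup G}
  {a b c g j m r s t v w x y z σ ρ : G} {k : ℕ}

theorem Cyc.pnil_of {p : ℕ} [hp : Fact p.Prime] (hP : Syl p P A) (hc : IsCyclic P) (hy : y ∈ P)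
    (y1 : y ≠ 1) (H : ∀ g ∈ A, g ∈ 𝐍(zpowers y) → g ∈ 𝐂[y]) : PNil p A := by
  refine pnil_of_sdprod (Burnside_normal_complement hP fun g hg => ?_) (Opi_piGrp _ _) hP.isPGroup
  refine Cls.mem_of_forall_prime_pow fun r hr u hu ⟨k, hk⟩ => ?_
  have hn := zpowers_le.2 hg hu
  by_cases e : r = p
  · subst e
    exact (ab_of_isCyclic hc).le_cent (hP.mem_of_mem_norm hn.1 hn.2
      (isPGroup_zpowers_iff.1 (Core.isPGroup_zpowers_of_orderOf hk)))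
  · exact Schur.mem_centralizer_of_isCyclic hP.isPGroup hn.2
      (hk ▸ ((Nat.coprime_primes hr hp.out).2 e).pow_left k) hy y1
      (mem_cent1.1 (H u hn.1 (norm_le_norm_of_isCyclic hc (zpowers_le.2 hy) hn.2)))

theorem conj_subset_outInv {C N : Subgroup G} (h : C ⊴ N) (hA : A ≤ N) (hw : w ∈ outInv C N) :
    (𝐂[w]).relIndex A ≤ (outInv C N).ncard := by
  rw [← ncard_conj]
  refine Set.ncard_le_ncard ?_
  rintro _ ⟨g, hg, rfl⟩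
  exact ⟨mul_mem (mul_mem (hA hg) hw.1) (inv_mem (hA hg)),
    fun e => hw.2.1 ((mem_norm_iff.1 (h.norm (hA hg)) w).2 e), conj_sq hw.2.2 g⟩

theorem Op'_lt (hσ : orderOf σ = 3) (hC : Cyc G) : Op' 3 𝐂[σ] < 𝐂[σ] :=
  SetLike.lt_iff_le_and_exists.2 ⟨Opi_le _ _, σ, mem_cent1_self σ,
    fun e => ((mem_Op' (hC.pnil3 hσ)).1 e).2 (hσ ▸ dvd_rfl)⟩

theorem coprime3 {n : ℕ} (h : ¬ 3 ∣ n) : n.Coprime 3 :=
  ((Nat.Prime.coprime_iff_not_dvd Nat.prime_three).2 h).symm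

namespace Sd

variable (h : Sd a s z x) (hp : der (⊤ : Subgroup G) = ⊤) (hk : Pk (L z) k)
include h

theorem cent_X (hσ : orderOf σ = 3) (h3 : ¬ 3 ∣ ♯(O 𝐂[z])) (hz : σ ∈ 𝐂[z]) (hw : w ∈ 𝐂[z])
    (e : w * σ * w⁻¹ = σ⁻¹) : O 𝐂[z] ≤ 𝐂[σ] := le_cent1_iff.2 (h.cyc.cent_of_der (odd_O _)
  (Opi_normal _ _).norm (mem_der_of_inv hz hw (σ_odd hσ) e) (hσ ▸ coprime3 h3))

theorem not_cent (h3 : ¬ 3 ∣ ♯𝐂[x]) (hσ : orderOf σ = 3) (ht : IsConj x t) : t ∉ 𝐂[σ] := fun e => by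
  obtain ⟨g, rfl⟩ := isConj_iff.1 ht
  refine h3 ?_
  rw [← card_conj g, ← cent1_conj, ← hσ]
  exact orderOf_dvd_card (mem_cent1_comm.1 e)

theorem not_cent' (h3 : ¬ 3 ∣ ♯𝐂[x]) (hσ : orderOf σ = 3) (ht : t * t = z) : t ∉ 𝐂[σ] :=
  h.not_cent h3 hσ (isConj_iff.2 ((h.conj_x ht).imp fun _ e => e.2))

include hp hk in
theorem star' (h3 : ¬ 3 ∣ ♯𝐂[x]) (hσ : orderOf σ = 3) :
    (outInv 𝐂[σ] 𝐍(zpowers σ)).ncard ^ 2 ≤ 2 * k * ♯(O 𝐂[z]) * ♯𝐂[σ] :=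
  h.star hp hk (ti3 hσ h.cyc h.nb le_rfl (Op'_lt hσ h.cyc) ((cent_normal σ).Opi _).norm)
    fun g _ hc e => absurd (zpowers_le.2 hc e) (h.not_cent h3 hσ (isConj_iff.2 ⟨g, rfl⟩))

include hp hk in
theorem caseA : ¬ 3 ∣ ♯(O 𝐂[z]) := fun h3 => by
  obtain ⟨σ, hX, hσ⟩ := cauchy Nat.prime_three h3
  have hN : 𝐂[z] ≤ 𝐍(zpowers σ) :=
    (Opi_normal _ _).norm.trans (norm_le_norm_of_isCyclic h.cyc_O (zpowers_le.2 hX))
  have hs := not_cent_of_inv (σ_odd hσ) (σ1 hσ) (h.inv_O h.sH h.s1 h.s2 h.sz_ne hX)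
  have h0 : H0 z ≤ 𝐂[σ] := Oup_le_iff.2 fun y hy ho =>
    cent_of_odd_sq (Nat.coprime_two_right.1 ho) (sq_cent3 hσ (hN hy))
  have e : 𝐂[σ] = H0 z := le_antisymm (fun c hc => by_contra fun e => hs ((mul_mem_cancel_left hc).1
    (h0 (mul_mem_of_two h.index_H0 (h.cent_le hσ (cent_le_cent1 hX (h.cent_O h.x_sq)) hc) e h.sH
      h.s_not)))) h0
  have hz : ∀ g, g * z * g⁻¹ ∈ H0 z → g * z * g⁻¹ = z := fun g e => by_contra fun e' =>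
    h.not_mem_H0 (Oup_le _ _ e) (conj_ne_one.2 h.z1) (conj_sq h.z2 g) e' e
  obtain ⟨c1, rfl⟩ := hk.pnil ((e ▸ h.cyc.pnil3 hσ).quo _)
  have c2 := h.card_H0
  have c3 := h.card_H
  have c4 := h.card_V
  have c5 : ♯(O (𝐂[z] ⊓ 𝐂[s])) = 1 := by
    have := card_dvd ((Opi_le ({2} : Set ℕ)ᶜ (𝐂[z] ⊓ 𝐂[s])).trans inf_le_left)
    rw [c3, c2, c1, mul_assoc, mul_assoc] at this
    exact (h.coprime_U.mul_right (((Nat.coprime_two_right.2 (odd_O _)).pow_right 4).mul_right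
      (h.coprime_U.coprime_dvd_right h3))).eq_one_of_dvd this
  have XH : O 𝐂[z] ≤ H0 z := Op'_le_Oup _ _
  have h1 := h.star hp hk (ti3 (K := Op' 3 𝐂[σ] ⊔ O 𝐂[z]) hσ h.cyc h.nb le_sup_left
    (lt_of_le_of_ne (sup_le (Opi_le _ _) (XH.trans h0)) fun e' => ?_)
    (le_norm_sup ((cent_normal σ).Opi _).norm (le_trans (fun g hg => mem_cent1_iff_conj.2 (hz g
      (e ▸ (cent_normal σ).conj_mem hg (h0 h.z_H0)))) (Opi_normal _ _).norm))) fun g c hc hx => ?_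
  · have h2 := conj_subset_outInv (cent_normal σ) hN ⟨hN h.sH, hs, h.s2⟩
    have h4 := card_inf_mul_relIndex 𝐂[s] 𝐂[z]
    rw [inf_comm, c4, c5, c3, c2, c1] at h4
    rw [e, c2, c1] at h1
    have := card_pos' (O 𝐂[z])
    have := Nat.pow_le_pow_left h2 2
    rw [show (𝐂[s]).relIndex 𝐂[z] = 12 * ♯(O 𝐂[z]) by omega, e] at this
    nlinarith
  · refine not_dvd_Op' (p := 3) 𝐂[σ] (dvd_trans ?_ (card_quo_dvd _ (Y z)))
    rw [← quo_sup_of_le (((Opi_le _ _).trans e.le).trans h.Y_normal0.norm) le_sup_left, e', e, c1]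
    decide
  · rw [e] at hc
    have ht : g * x * g⁻¹ * (g * x * g⁻¹) = z := by
      have := zpowers_le.2 hc (mul_mem hx hx)
      rw [conj_mul, h.x_sq] at this ⊢
      exact hz g this
    generalize g * x * g⁻¹ = t at hx ht
    have hM : zpowers c ≤ H0 z ⊓ 𝐂[t] :=
      zpowers_le.2 ⟨hc, mem_cent1.2 (zp_comm (mem_zpowers c) hx)⟩
    obtain ⟨y, hy, o, ho, rfl, ⟨n, hn⟩, h2⟩ := Cls.exists_p_part Nat.prime_three c
    refine mul_mem (mem_sup_right (zpowers_le.1 ((piGrp_singleton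
      (Core.isPGroup_zpowers_of_orderOf hn)).le_of_relIndex (zpowers_le.2 (hM hy))
        ((inf_le_left.trans (Oup_le _ _)).trans (Opi_normal _ _).norm)
        ((isPiNum_compl_singleton Nat.prime_three).2 fun e => ?_))))
      (mem_sup_left ((mem_Op' (h.cyc.pnil3 hσ)).2 ⟨h0 (hM ho).1,
        (Nat.Prime.coprime_iff_not_dvd Nat.prime_three).1 h2.symm⟩))
    have := h.c0_dvd hk ht
    rw [← card_mul_relIndex (le_inf XH (le_cent1_iff.2 (h.cent_O ht))), mul_assoc] at this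
    exact absurd (e.trans (Nat.dvd_of_mul_dvd_mul_left (card_pos' _) this)) (by decide)

theorem rot : ∃ w ρ σ, w * w = 1 ∧ w ∈ 𝐂[z] ∧ w * s * w⁻¹ = z * s ∧ w * σ * w⁻¹ = σ⁻¹ ∧
    orderOf σ = 3 ∧ ρ ∈ 𝐂[σ] ∧ IsPGroup 3 (zpowers ρ) ∧ ρ * z * ρ⁻¹ = s ∧
    (¬ 3 ∣ ♯(O (𝐂[z] ⊓ 𝐂[s])) → O (𝐂[z] ⊓ 𝐂[s]) ≤ 𝐂[σ]) ∧ (3 ∣ ♯(O (𝐂[z] ⊓ 𝐂[s])) →
      𝐂[z] ⊓ 𝐂[s] ≤ 𝐂[σ] ∧ σ ∈ 𝐂[z] ∧ Syl 2 (S4 z s) 𝐂[σ] ∧ 𝐂[σ] ≤ 𝐍(S4 z s)) := by
  obtain ⟨w, ρ, w2, w1, w3, e, h3, r1, r2⟩ := h.exists_rot h.one h.ne h.pair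
  obtain ⟨σ, hρ, hσ⟩ := exists_order_mem Nat.prime_three h3 fun e => h.sz_ne (by simpa [e] using r1.symm)
  have zs := mul_mem (t_mem_S4 z s) (s_mem_S4 z s)
  have n1 : ρ ∈ 𝐍(S4 z s) := mem_norm_S4 (r1 ▸ s_mem_S4 z s) (r2 ▸ zs)
  have n2 : w ∈ 𝐍(S4 z s) := mem_norm_S4 (by rw [w1, mul_inv_cancel_right]; exact t_mem_S4 z s)
    (w3 ▸ zs)
  have hV : (𝐂[z] ⊓ 𝐂[s]) ⊴ 𝐍(S4 z s) := cent_S4 z s ▸ ⟨cent_le_norm _, norm_le_norm_cent _⟩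
  have hc := mem_cent1.2 (zp_comm (mem_zpowers ρ) hρ)
  refine ⟨w, ρ, σ, w2, mem_cent1.2 w1, w3, inv_of_mem e hρ, hσ, hc, h3, r1, fun h4 => ?_, fun h4 => ?_⟩
  · exact le_cent1_iff.2 (h.cyc.cent_of_der (odd_O _) (hV.Opi _).norm (mem_der_of_inv
      (zpowers_le.2 n1 hρ) n2 (σ_odd hσ) (inv_of_mem e hρ)) (hσ ▸ coprime3 h4))
  obtain ⟨τ, hτ, e1⟩ := cauchy Nat.prime_three h4
  obtain ⟨c, hc', e2⟩ := h.cyc.exists_conj Nat.prime_three (by decide) e1 hσ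
    (hV.le (Opi_le _ _ hτ)) (zpowers_le.2 n1 hρ)
  have h5 := zpowers_le.2 ((hV.Opi _).conj_mem hc' hτ) (e2 ▸ mem_zpowers σ)
  have h6 := Opi_le _ _ h5
  refine ⟨(h.pair.sdprod_of_cent inf_le_left).sup_eq.ge.trans (sup_le (fun y hy => cent_of_odd_sq
    (odd_of_mem (odd_O _) hy) (sq_cent3 hσ (h.cyc.norm_of_inv (odd_O _) (hV.Opi _) n2 h5
      (inv_of_mem e hρ) (hV.le (Opi_le _ _ hy)))))
    (S4_le.2 ⟨mem_cent1_comm.1 h6.1, mem_cent1_comm.1 h6.2⟩)), h6.1,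
    h.four3 hσ h.alm h.cyc h.pair (mem_cent1_comm.1 h6.1) hc h3 r1 r2⟩

theorem not_dvd_Y (h3 : ¬ 3 ∣ ♯(O 𝐂[z])) : ¬ 3 ∣ ♯(Y z) := by
  rw [card_Y h.z1 h.z2]
  omega

theorem coset_sq_ne (ho : (orderOf y).Coprime ♯(Y z)) (hy : y ∈ 𝐂[z]) (y1 : y ≠ 1) :
    coset (Y z) y * coset (Y z) y ≠ 1 := fun e => by
  rw [← coset_mul (nY hy) (nY hy), coset_eq_one_iff (nY (mul_mem hy hy))] at e
  have := cent_of_odd_sq (Nat.coprime_two_right.1 (ho.coprime_dvd_right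
    (card_Y h.z1 h.z2 ▸ dvd_mul_left _ _))) e
  exact y1 (orderOf_eq_one_iff.1 (ho.eq_one_of_dvd (orderOf_dvd_card this)))

include hk in
theorem caseB (h3 : ¬ 3 ∣ ♯(O 𝐂[z])) : ¬ 3 ∣ ♯𝐂[x] := fun h4 => by
  obtain ⟨τ, hτ, e⟩ := cauchy Nat.prime_three h4
  obtain ⟨w, ρ, σ, -, -, -, -, hσ, -, -, -, h5, h6⟩ := h.rot
  obtain ⟨c, -, e1⟩ := h.cyc.exists_conj Nat.prime_three (by decide) hσ e (mem_top σ) (mem_top τ)
  have e2 : c •ᶜ 𝐂[σ] = 𝐂[τ] := by rw [← cent1_conj, ← cent_zpowers, e1, cent_zpowers]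
  have hx := mem_cent1_comm.1 hτ
  have h7 : ¬ 3 ∣ ♯(O (𝐂[z] ⊓ 𝐂[s])) := fun h7 => by
    obtain ⟨g, -, e3⟩ := (e2 ▸ (h6 h7).2.2.1.conj c).exists_conj_le (zpowers_le.2 hx)
      (two_of_sq h.x_sq h.z2)
    rw [conj_S4] at e3
    have := (h.pair.conj c).isEp.abelem.2 _ (e3 (conj_mem_conj (mem_zpowers x)))
    rw [sq, conj_mul, h.x_sq] at this
    exact conj_ne_one.2 h.z1 this
  have h8 : c •ᶜ O (𝐂[z] ⊓ 𝐂[s]) ≤ 𝐂[τ] := e2 ▸ conj_mono c (h5 h7)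
  have h9 : c •ᶜ O (𝐂[z] ⊓ 𝐂[s]) ≤ H0 z := fun y hy =>
    mem_H0 (h.cent_le e hx (h8 hy)) (odd_of_mem (by rw [card_conj]; exact odd_O _) hy)
  have tH := h.C_le hτ
  have t0 := mem_H0 tH (σ_odd e)
  have t2 := h.coset_sq_ne (e ▸ (coprime3 (h.not_dvd_Y h3)).symm) tH (σ1 e)
  have d := (hk.cent _ (h.coset_mem h.x_sq) _ ⟨coset_mem_quo _ t0,
    quo_cent1_le (nY (cent_of_sq h.x_sq)) (coset_mem_quo _ hτ)⟩ t2).1
  have d1 := (card_dvd (le_inf (quo_mono _ h9) ((quo_mono _ h8).trans (quo_cent1_le (nY tH))))).trans d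
  rw [card_quo_of_coprime (h9.trans h.Y_normal0.norm) (by
    rw [card_conj, card_Y h.z1 h.z2]
    exact h.coprime_U.symm.mul_left (Nat.coprime_two_left.2 (odd_O _))), card_conj] at d1
  have d2 : 3 ∣ k := by
    refine dvd_trans ?_ ((orderOf_dvd_card (mem_inf.2 ⟨coset_mem_quo _ t0, mem_cent1_self _⟩)).trans d)
    exact (((Nat.dvd_prime Nat.prime_three).1 (e ▸ orderOf_coset_dvd (Y z) τ)).resolve_left
      fun e => t2 (by rw [orderOf_eq_one_iff.1 e, mul_one])).symm.dvd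
  have := Nat.le_of_dvd (by have := hk.two_le; omega) ((coprime3 h7).mul_dvd_of_dvd_of_dvd d1 d2)
  have := h.k_le hk
  have := card_pos' (O (𝐂[z] ⊓ 𝐂[s]))
  omega

include hp hk in
theorem caseC (h3 : ¬ 3 ∣ ♯(O 𝐂[z])) : ¬ 3 ∣ ♯(O (𝐂[z] ⊓ 𝐂[s])) := fun h4 => by
  have h5 := h.caseB hk h3
  obtain ⟨w, ρ, σ, w2, wz, ws, wσ, hσ, hρ, r3, r1, -, h6⟩ := h.rot
  obtain ⟨h6, σz, hS, hN⟩ := h6 h4
  have cs : ∀ y ∈ 𝐂[σ], y ∈ 𝐂[z] → Odd (orderOf y) → y ∈ 𝐂[s] := fun y hy hz ho =>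
    mem_cent1.2 (comm_of_odd h.pair (hN hy) (mem_cent1.1 hz) ho)
  have hX : O 𝐂[z] = ⊥ := by
    rw [← h.O_inf, left_eq_inf]
    exact fun y hy => cs y (h.cent_X hσ h3 σz wz wσ hy) (Opi_le _ _ hy) (odd_of_mem (odd_O _) hy)
  have hV : ∀ y ∈ S4 z s, w * y * w⁻¹ = y → y ∈ zpowers z := fun y hy e => by
    rcases h.pair.mem_S4.1 hy with e1 | e1 | e1 | e1 <;> rw [e1] at e ⊢
    · exact one_mem _
    · exact mem_zpowers z
    · exact absurd (by simpa [ws] using e) h.z1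
    · rw [← conj_mul, ws, mem_cent1_iff_conj.1 wz, mul_right_inj, mul_eq_right] at e
      exact absurd e h.z1
  have ht : w * s * (w * s) = z := by
    rw [show w * s * (w * s) = w * s * w⁻¹ * (w * w) * s by group, ws, w2, mul_one, mul_assoc, h.s2,
      mul_one]
  have h7 : 𝐂[w] ⊓ 𝐂[σ] ≤ zpowers z := fun c hc => by
    have cz : c ∈ 𝐂[z] := mem_cent1_iff_conj.2 (((mem_zp h.z2).1 (hV _
      (conj_mem_of_norm (hN hc.2) (t_mem_S4 z s)) (mem_cent1_iff_conj.1 (mem_cent1_comm.1 (mul_mem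
        (mul_mem hc.1 (mem_cent1_comm.1 wz)) (inv_mem hc.1)))))).resolve_left (conj_ne_one.2 h.z1))
    refine Cls.mem_of_forall_prime_pow fun q hq y hy ⟨n, hn⟩ => ?_
    have h2 := Core.isPGroup_zpowers_of_orderOf hn
    obtain ⟨yw, yσ⟩ := mem_inf.1 (zpowers_le.2 hc hy)
    by_cases e : q = 2
    · subst e
      exact hV y (hS.mem_of_mem_norm yσ (hN yσ) (isPGroup_zpowers_iff.1 h2))
        (mem_cent1_iff_conj.1 (mem_cent1_comm.1 yw))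
    have yz := zpowers_le.2 cz hy
    have yo := odd_of_pgroup hq e h2
    have ys := cs y yσ yz yo
    refine (mem_zp h.z2).2 (Or.inl (by_contra fun y1 => ?_))
    have := (hk.cent _ (h.coset_mem ht) _ ⟨coset_mem_quo _ (mem_H0 yz yo),
      quo_cent1_le (nY (cent_of_sq ht)) (coset_mem_quo _ (mem_cent1_comm.1
        (mul_mem (mem_cent1_comm.1 yw) (mem_cent1_comm.1 ys))))⟩ (h.coset_sq_ne (by
          rw [card_Y h.z1 h.z2, hX, card_bot, one_mul]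
          exact Nat.coprime_two_right.2 yo) yz y1)).2 ⟨coset_mem_quo _ (mem_H0 σz (σ_odd hσ)),
      quo_cent1_le (nY yz) (coset_mem_quo _ (mem_cent1_comm.1 yσ))⟩
    refine h.not_cent' h5 hσ ht (mem_cent1.2 (comm_of_two (two_of_sq ht h.z2) (σ_odd hσ) ?_).symm)
    rcases h.pre ht σz this with e | e <;> rw [e]
    exacts [mem_zpowers _, inv_mem (mem_zpowers _)]
  have h8 := h.star' hp hk h5 hσ
  have h9 := conj_subset_outInv (cent_normal σ) (cent_normal σ).le ⟨mem_norm_zp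
    (wσ ▸ inv_mem (mem_zpowers σ)), not_cent_of_inv (σ_odd hσ) (σ1 hσ) wσ, w2⟩
  have c1 := card_inf_mul_relIndex 𝐂[w] 𝐂[σ]
  have c2 := card_le h7
  have c3 := card_mul_relIndex h6
  have c4 : 3 ≤ (𝐂[z] ⊓ 𝐂[s]).relIndex 𝐂[σ] := Nat.le_of_dvd (relIndex_pos _ _) (by_contra fun e =>
    h.sz_ne (r1.symm.trans (mem_cent1_iff_conj.1 (zpowers_le.1 ((piGrp_singleton r3).le_of_relIndex
      (zpowers_le.2 hρ) (cent_S4 z s ▸ hN.trans (norm_le_norm_cent _))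
      ((isPiNum_compl_singleton Nat.prime_three).2 e))).1)))
  have c5 := Nat.le_of_dvd (card_pos' _) h4
  have c6 := h.k_le hk
  have c7 := card_pos' 𝐂[σ]
  rw [Nat.card_zpowers, orderOf_eq_two h.z2 h.z1] at c2
  rw [hX, card_bot] at h8
  rw [h.card_V] at c3
  have : ♯𝐂[σ] ≤ 2 * (outInv 𝐂[σ] 𝐍(zpowers σ)).ncard := c1 ▸ Nat.mul_le_mul c2 h9
  have : ♯𝐂[σ] * ♯𝐂[σ] ≤ 8 * k * ♯𝐂[σ] := by nlinarith
  have := Nat.le_of_mul_le_mul_right this c7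
  nlinarith

include hp hk in
theorem false : False := by
  have h3 := h.caseA hp hk
  have h4 := h.caseB hk h3
  have h5 := h.caseC hp hk h3
  obtain ⟨P, hP⟩ := exists_syl 3 (H0 z)
  obtain ⟨σ, σP, hσ⟩ := cauchy Nat.prime_three (hP.dvd_card_iff.2 (hk.three.trans (card_quo_dvd _ _)))
  have hc := h.cyc 3 Nat.prime_three (by decide) P hP.isPGroup
  have σz := Oup_le _ _ (hP.le σP)
  have zσ := mem_cent1_comm.1 σz
  have a1 : ∀ y ∈ 𝐂[σ], y ∈ 𝐂[z] → y ≠ 1 → y * y = 1 → y = z := fun y hy hz y1 y2 =>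
    by_contra fun e => h5 <| by
      rw [← h.card_U hz y1 y2 e, ← hσ]
      exact orderOf_dvd_card ((h.pair_cent (pair_mk h.z1 y1 (Ne.symm e) h.z2 y2
        (mem_cent1.1 hz).symm)).le_O_of_sdprod (Pair.sdprod_of_cent (h.pair_cent (pair_mk h.z1 y1
          (Ne.symm e) h.z2 y2 (mem_cent1.1 hz).symm)) inf_le_left)
        (zpowers_le.2 ⟨σz, mem_cent1_comm.1 hy⟩) (Nat.card_zpowers σ ▸ σ_odd hσ) (mem_zpowers σ))
  have a2 : ∀ y ∈ 𝐂[σ], y ∈ 𝐂[z] → IsPGroup 2 (zpowers y) → y ∈ zpowers z := fun y hy hz h2 => by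
    by_cases y2 : y * y = 1
    · exact (mem_zp h.z2).2 (or_iff_not_imp_left.2 fun e => a1 y hy hz e y2)
    obtain ⟨t, ht, t1, t2⟩ := h.exists_sq h2 y2
    have := zpowers_le.2 hy ht
    have h6 := zpowers_le.2 hz ht
    exact absurd this (h.not_cent' h4 hσ (a1 _ (mul_mem this this) (mul_mem h6 h6) t1 t2))
  have hS : Syl 2 (zpowers z) 𝐂[σ] := syl_of_max (zpowers_le.2 zσ) (two_elt h.z2) fun U h1 h2 hU =>
    by_contra fun e => by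
      obtain ⟨y, ⟨hy, hn⟩, e⟩ := SetLike.exists_of_lt (lt_inf_norm_of_nil (nil_of_isPGroup hU)
        (lt_of_le_of_ne h1 (Ne.symm e)))
      exact e (a2 y (h2 hy) (mem_cent1_iff_conj.2 (((mem_zp h.z2).1
        (conj_mem_of_norm hn (mem_zpowers z))).resolve_left (conj_ne_one.2 h.z1))) (two_zp hU hy))
  have a3 : ∀ y ∈ 𝐂[σ], y ∈ 𝐂[z] → y ∈ H0 z := fun c hc hz =>
    Cls.mem_of_forall_prime_pow fun q hq y hy ⟨n, hn⟩ => by
      have h2 := Core.isPGroup_zpowers_of_orderOf hn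
      by_cases e : q = 2
      · exact zpowers_le.2 h.z_H0 (a2 y (zpowers_le.2 hc hy) (zpowers_le.2 hz hy) (e ▸ h2))
      · exact mem_H0 (zpowers_le.2 hz hy) (odd_of_pgroup hq e h2)
  obtain ⟨r, rz, rN, r0, r2⟩ : ∃ r ∈ 𝐂[z], r ∈ 𝐍(zpowers σ) ∧ r ∉ H0 z ∧ r * r = 1 := by
    obtain ⟨c, hc', n, ⟨hn, hn'⟩, e⟩ := (hP.frattini (Oup_normal _ _)).mem_iff.1 h.sH
    have := mt Cls.mem_of_forall_prime_pow fun e' => h.s_not (e ▸ mul_mem hc' e')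
    push Not at this
    obtain ⟨q, hq, r, hr, ⟨i, hi⟩, r0⟩ := this
    have h2 := Core.isPGroup_zpowers_of_orderOf hi
    have rz := zpowers_le.2 hn hr
    have rN := norm_le_norm_of_isCyclic hc (zpowers_le.2 σP) (zpowers_le.2 hn' hr)
    obtain rfl : q = 2 := by_contra fun e => r0 (mem_H0 rz (odd_of_pgroup hq e h2))
    exact ⟨r, rz, rN, r0, ((mem_zp h.z2).1 (a2 _ (sq_cent3 hσ rN) (mul_mem rz rz)
      (h2.to_le (zp_sq_le r)))).resolve_right fun e => r0 (h.mem_H0' e)⟩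
  have rC : r ∉ 𝐂[σ] := fun e => r0 (a3 r e rz)
  have two := index_two (by rw [hσ]; rfl) rN rC
  obtain ⟨c1, rfl⟩ := hk.pnil ((Cyc.pnil_of hP hc σP (σ1 hσ) fun g hg hn => by_contra fun e =>
    r0 ((mul_mem_cancel_left hg).1 (a3 _ (mul_mem_of_two two hn e rN rC)
      (mul_mem (Oup_le _ _ hg) rz)))).quo _)
  have hX := h.cent_X hσ h3 σz rz (inv3 hσ rN rC)
  have key : ∀ r ∈ 𝐍(zpowers σ), r ∉ 𝐂[σ] → r * r = 1 → ∀ o ∈ O 𝐂[σ], o * r * (o * r) = 1 := by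
    intro r rN rC r2 o ho
    rw [show o * r * (o * r) = o * (r * o * r⁻¹) * (r * r) by group, r2,
      conj_eq_inv r2 (((cent_normal σ).Opi _).norm rN) ?_ ho, mul_inv_cancel, mul_one]
    by_contra e
    obtain ⟨y, hy, hq⟩ := exists_prime_order_mem e
    have yo := odd_of_mem (odd_O _) hy.1
    have yσ := Opi_le _ _ hy.1
    obtain ⟨g, rfl⟩ := isConj_iff.1 (h.one z r h.z1 h.z2 (fun e => rC (e ▸ one_mem _)) r2)
    have yz : g⁻¹ * y * g ∈ 𝐂[z] := by simpa only [cent1_conj, mem_conj] using mem_inf.1 hy |>.2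
    have := Fact.mk hq
    have yX : g⁻¹ * y * g ∈ O 𝐂[z] := zpowers_le.1 ((piGrp_singleton (p := orderOf y)
      (Core.isPGroup_zpowers_of_orderOf (k := 1) (by rw [orderOf_conj', pow_one]))).le_of_relIndex
      (zpowers_le.2 yz) (Opi_normal _ _).norm ((isPiNum_compl_singleton hq).2 fun e => by
        have c2 := card_mul_relIndex (Opi_le ({2} : Set ℕ)ᶜ 𝐂[z])
        rw [h.card_H, h.card_H0, c1, mul_assoc, mul_assoc] at c2
        rw [Nat.eq_of_mul_eq_mul_left (card_pos' _) c2] at e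
        have := ((Nat.coprime_two_right.2 yo).pow_right 4).dvd_of_dvd_mul_left
          (show _ ∣ 2 ^ 4 * 3 from e)
        refine rC (cent_zpowers σ ▸ h.cyc.zp3 hσ ((Nat.prime_dvd_prime_iff_eq hq Nat.prime_three).1 this)
          yσ ▸ cent_zpowers y ▸ mem_cent1_comm.1 hy.2)))
    have y1 : g⁻¹ * y * g ≠ 1 := conj_ne_one'.2 (Dh.y1 hq)
    obtain ⟨c, hc, e⟩ := h.cyc.exists_conj (A := 𝐂[g⁻¹ * y * g]) Nat.prime_three (by decide)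
      ((orderOf_conj' g σ).trans hσ) hσ (by
        have := conj_mem_conj (g := g⁻¹) (mem_cent1_comm.1 yσ)
        rwa [← cent1_conj, inv_inv] at this)
      (mem_cent1_comm.1 (hX yX))
    have e1 : c * z * c⁻¹ * σ * (c * z * c⁻¹)⁻¹ = σ⁻¹ := inv_of_mem (conj_inv_conj' (by
      simpa [mul_assoc] using conj_inv_conj' (inv3 hσ rN rC) g⁻¹) c) (e ▸ mem_zpowers σ)
    have zy := mem_cent1_comm.1 yz
    have jy := mul_mem (mul_mem hc zy) (inv_mem hc)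
    have jσ := not_cent_of_inv (σ_odd hσ) (σ1 hσ) e1
    obtain ⟨ζ, hζ, z1, z2, d1, d2⟩ := dihedral h.z2 (conj_sq h.z2 c) fun ho =>
      jσ ((mul_mem_cancel_left zσ).1 (cent_of_odd_sq ho (sq_cent3 hσ (mul_mem ((cent_normal σ).le zσ)
        (mem_norm_zp (e1 ▸ inv_mem (mem_zpowers σ)))))))
    rw [h.eq_z_of_cent (mem_cent1.2 d1.symm) z1 z2 yX y1 (zpowers_le.2 (mul_mem zy jy) hζ)] at d2
    exact jσ (by rwa [h.eq_z_of_cent (mem_cent1.2 d2) (conj_ne_one.2 h.z1) (conj_sq h.z2 c) yX y1 jy])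
  have h6 : ♯𝐂[σ] ≤ (outInv 𝐂[σ] 𝐍(zpowers σ)).ncard :=
    Set.ncard_le_ncard_of_injOn (s := ((𝐂[σ] : Subgroup G) : Set G)) (t := outInv 𝐂[σ] 𝐍(zpowers σ)) (· * r) (fun c hc => ⟨mul_mem ((cent_normal σ).le hc) rN,
      by rwa [mul_mem_cancel_left hc], by
        obtain ⟨o, ho, w, hw, rfl⟩ := ((pnil_of_cyc hS).sdprod hS).mem_iff.1 hc
        rcases (mem_zp h.z2).1 hw with e | e <;> simp only [e, mul_one]
        · exact key r rN rC r2 o ho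
        · rw [mul_assoc o z]
          exact key _ (mul_mem ((cent_normal σ).le zσ) rN) (by rwa [mul_mem_cancel_left zσ]) (by
            rw [(Commute.symm (mem_cent1.1 rz)).symm.mul_mul_mul_comm, h.z2, r2, mul_one]) o ho⟩)
      fun _ _ _ _ => mul_right_cancel
  have h7 := h.star' hp hk h4 hσ
  have h8 := Nat.le_of_dvd (card_pos' _) ((coprime3 (h.not_dvd_Y h3)).mul_dvd_of_dvd_of_dvd
    (card_dvd (sup_le hX (zpowers_le.2 zσ))) (hσ ▸ orderOf_dvd_card (mem_cent1_self σ)))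
  rw [card_Y h.z1 h.z2] at h8
  have := card_pos' (O 𝐂[z])
  have := Nat.le_of_mul_le_mul_right ((sq ♯𝐂[σ] ▸ Nat.pow_le_pow_left h6 2).trans h7) (card_pos' _)
  omega

end Sd

end Cfsg.Agent.ZG
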