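import Cfsg.Agent.Lib.ZG.Basic
import Cfsg.Agent.Lib.Transfer.Frobenius

/-!
# 2-groups with a cyclic subgroup of index at most 2
-/

set_option autoImplicit false

namespace Cfsg.Agent.ZG

open Subgroup Cfsg.Agent.OO Cfsg.Agent.Coprime
open scoped commutatorElement Pointwise

universe u

variable {G : Type u} [Group G] {A B H K L N R : Subgroup G} {a b c g s t v w x y z : G} {q : ℕ}

theorem zp_cases (hx : x ∈ zpowers b) : x ∈ zpowers (b * b) ∨ b⁻¹ * x ∈ zpowers (b * b) := by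
  obtain ⟨k, rfl⟩ := hx
  rcases Int.even_or_odd' k with ⟨j, rfl | rfl⟩
  · exact Or.inl ⟨j, by simp only [← zpow_two, ← zpow_mul]⟩
  · exact Or.inr ⟨j, by simp only [← zpow_two, ← zpow_mul]; group⟩

theorem zp_sq_le (b : G) : zpowers (b * b) ≤ zpowers b :=
  zpowers_le.2 (mul_mem (mem_zpowers b) (mem_zpowers b))

theorem sq_cases (hc : b * b = c) (c2 : c * c = 1) (hx : x ∈ zpowers b) :
    x ∈ zpowers c ∨ x * x = c := by
  refine (hc ▸ zp_cases hx).imp_right fun h => ?_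
  obtain ⟨d, hd, rfl⟩ : ∃ d ∈ zpowers c, x = b * d := ⟨_, h, by group⟩
  rcases (GW.mem_zp c2).1 hd with rfl | rfl
  · rwa [mul_one]
  · rw [show b * d * (b * d) = b * b * (d * d) by rw [← hc]; group, c2, mul_one, hc]

theorem mem_zp_pow {n : ℕ} (h : n.Coprime (orderOf g)) : g ∈ zpowers (g ^ n) :=
  mem_zpowers_pow_iff.2 h

theorem two_elt (hx : x * x = 1) : IsPGroup 2 (zpowers x) :=
  Core.isPGroup_zpowers_of_pow_eq_one (k := 1) (by rwa [pow_one, sq])

theorem not_odd (h : IsPGroup 2 R) (hx : x ∈ R) (x1 : x ≠ 1) : ¬ Odd (orderOf x) := fun ho =>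
  x1 (Transfer.eq_one_of_coprime_of_mem_isPGroup h (Nat.coprime_two_right.2 ho) hx)

variable [Finite G]

theorem comm_of_two (hc : IsPGroup 2 (zpowers c)) (ho : Odd (orderOf g))
    (hn : g * c * g⁻¹ ∈ zpowers c) : g * c = c * g := by
  by_cases c1 : c = 1
  · simp [c1]
  obtain ⟨z, hz, z1, z2⟩ := exists_invol (not_odd hc (mem_zpowers c) c1)
  have e := invol_eq (conj_mem_zp hn hz) hz (conj_ne_one.2 z1) (GW.conj_sq z2 g) z1 z2
  exact (mem_cent_iff.1 (Schur.mem_centralizer_of_isCyclic hc (mem_norm_zp hn)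
    (Nat.coprime_two_right.2 ho) hz z1 (mul_inv_eq_iff_eq_mul.1 e)) c (mem_zpowers c)).symm

namespace Alm

variable (h : Alm G)
include h

/-- automorphisms of odd order: only the four-group and the quaternion group have them -/
theorem aut (hR : IsPGroup 2 R) (hg : g ∈ 𝐍(R)) (ho : Odd (orderOf g)) (hc : g ∉ 𝐂(R)) :
    3 ∣ orderOf g ∧ ∃ c, c * c = 1 ∧ ∀ x ∈ R, x ∈ zpowers c ∨ x * x = c := by
  obtain ⟨b, hb, H⟩ := h R hR
  have nB : ∀ x ∈ R, ∀ y ∈ zpowers b, x * y * x⁻¹ ∈ zpowers b := fun x hx y hy => by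
    by_cases e : x ∈ zpowers b
    · exact mul_mem (mul_mem e hy) (inv_mem e)
    · exact H _ (mul_mem hx (zpowers_le.2 hb hy)) _ (inv_mem hx) (by rwa [mul_mem_cancel_right hy])
        (by rwa [inv_mem_iff])
  have n1 : g * b * g⁻¹ ∉ zpowers b := fun e => by
    have e1 : zpowers g ≤ 𝐂(zpowers b) := by
      rw [cent_zpowers, zpowers_le]
      exact mem_cent1.2 (comm_of_two (hR.to_le (zpowers_le.2 hb)) ho e)
    refine hc (zpowers_le.1 (stable_factor_cent e1 ⟨zpowers_le.2 hb, le_norm_iff.2 nB⟩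
      (commutator_le.2 fun x hx k hk => ?_) ?_))
    · have hk' := mem_norm_iff.1 (cent_le_norm _ (e1 hk)) x⁻¹
      rw [commutatorElement_def, show x * k * x⁻¹ * k⁻¹ = x * (k * x⁻¹ * k⁻¹) by group]
      by_cases e : x ∈ zpowers b
      · exact mul_mem e (hk'.1 (inv_mem e))
      · exact H _ hx _ (conj_mem_of_norm (zpowers_le.2 hg hk) (inv_mem hx)) e
          (by rwa [← hk', inv_mem_iff])
    · rw [Nat.card_zpowers]
      exact Core.coprime_card_of_isPGroup hR (Nat.coprime_two_right.2 ho)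
  have np : ∀ n : ℕ, n.Coprime (orderOf g) → g ^ n * b * (g ^ n)⁻¹ ∉ zpowers b := fun n hn e =>
    n1 (conj_mem_of_norm (zpowers_le.2 (mem_norm_zp e) (mem_zp_pow hn)) (mem_zpowers b))
  have sh : ∀ x y, x ∉ zpowers y → g * x * g⁻¹ ∉ zpowers (g * y * g⁻¹) := fun x y e => by
    rwa [← conj_zpowers, conj_mem_conj_iff]
  have n2 := np 2 (Nat.coprime_two_left.2 ho)
  rw [show g ^ 2 * b * (g ^ 2)⁻¹ = g * (g * b * g⁻¹) * g⁻¹ by rw [sq]; group] at n2
  have n21 := sh _ _ n1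
  have n31 := sh _ _ n2
  have n32 := sh _ _ n21
  have hb1 := conj_mem_of_norm hg hb
  have hb2 := conj_mem_of_norm hg hb1
  have hb3 := conj_mem_of_norm hg hb2
  have gc : g * (b * b) = b * b * g := by
    refine comm_of_two (hR.to_le (zpowers_le.2 (mul_mem hb hb))) ho ?_
    have e := H _ hb1 _ hb1 n1 n1
    rw [show g * b * g⁻¹ * (g * b * g⁻¹) = g * (b * b) * g⁻¹ by group] at e
    rw [← zp_eq_of_orderOf e (mul_mem (mem_zpowers b) (mem_zpowers b)) (orderOf_conj _ _)]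
    exact mem_zpowers _
  have sq' : ∀ x, x * x = b * b → g * x * g⁻¹ * (g * x * g⁻¹) = b * b := fun x e => by
    rw [show g * x * g⁻¹ * (g * x * g⁻¹) = g * (x * x) * g⁻¹ by group, e, gc, mul_inv_cancel_right]
  have s1 := sq' b rfl
  have s2 := sq' _ s1
  have e3 : g * (g * (g * b * g⁻¹) * g⁻¹) * g⁻¹ = g ^ 3 * b * (g ^ 3)⁻¹ := by
    rw [pow_three]; group
  rw [e3] at n31 n32 hb3
  generalize g * (g * b * g⁻¹) * g⁻¹ = b2 at *
  generalize g * b * g⁻¹ = b1 at *
  have l1 : zpowers (b * b) ≤ zpowers b1 := s1 ▸ zp_sq_le b1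
  have l2 : zpowers (b * b) ≤ zpowers b2 := s2 ▸ zp_sq_le b2
  have hd : b⁻¹ * (b1 * b2) ∈ zpowers (b * b) :=
    (zp_cases (H _ hb1 _ hb2 n1 n2)).resolve_left fun e =>
      n21 ((mul_mem_cancel_left (mem_zpowers b1)).1 (l1 e))
  have cov : ∀ x ∈ R, x ∉ zpowers b → x ∉ zpowers b1 → x ∈ zpowers b2 := fun x hx e0 e1 => by
    have := (zp_cases (H _ hb1 _ hx n1 e0)).resolve_left fun e =>
      e1 ((mul_mem_cancel_left (mem_zpowers b1)).1 (l1 e))
    have := mul_mem (mem_zpowers b2) (l2 (mul_mem (inv_mem hd) this))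
    rwa [show b2 * ((b⁻¹ * (b1 * b2))⁻¹ * (b⁻¹ * (b1 * x))) = x by group] at this
  have c2 : b * b * (b * b) = 1 := by
    obtain ⟨j, hj⟩ : b⁻¹ * (b2 * b1) ∈ zpowers (b * b) :=
      (zp_cases (H _ hb2 _ hb1 n2 n1)).resolve_left fun e =>
        n21 ((mul_mem_cancel_right (mem_zpowers b1)).1 (l1 e))
    obtain ⟨i, hi⟩ := hd
    have hc := mul_mem hb hb
    have k0 : Commute (b * b) b := (Commute.refl b).mul_left (Commute.refl b)
    have k1 : Commute (b * b) b1 := s1 ▸ (Commute.refl b1).mul_left (Commute.refl b1)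
    have k2 : Commute (b * b) b2 := s2 ▸ (Commute.refl b2).mul_left (Commute.refl b2)
    generalize s0 : b * b = c at *
    have e1 : b1 * b2 = b * c ^ i := by simp only [hi, mul_inv_cancel_left]
    have e2 : b2 * b1 = b * c ^ j := by simp only [hj, mul_inv_cancel_left]
    have A : c ^ (i + j - 1) = 1 := by
      have : c * c = c * c ^ (i + j) :=
        calc c * c = b1 * b2 * (b2 * b1) := by
              rw [show b1 * b2 * (b2 * b1) = b1 * (b2 * b2) * b1 by group, s2, ← k1.eq, mul_assoc, s1]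
          _ = _ := by
              rw [e1, e2, mul_assoc, ← mul_assoc (c ^ i), (k0.zpow_left i).eq, ← s0, s0, zpow_add, ← s0]
              group
      rw [zpow_sub_one, ← mul_left_cancel this, mul_inv_cancel]
    have B : c ^ (i - j) * c ^ (i - j) = 1 := by
      have e : b1 * b2 * b1⁻¹ = c ^ (i - j) * b2 := by
        rw [e1, eq_mul_inv_of_mul_eq e2, ← mul_assoc, ← mul_assoc, (k0.zpow_left _).eq]
        group
      have : c = c ^ (i - j) * c ^ (i - j) * c :=
        calc c = b1 * b2 * b1⁻¹ * (b1 * b2 * b1⁻¹) := by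
              rw [show b1 * b2 * b1⁻¹ * (b1 * b2 * b1⁻¹) = b1 * (b2 * b2) * b1⁻¹ by group, s2,
                ← k1.eq, mul_inv_cancel_right]
          _ = _ := by
              rw [e, mul_assoc, ← mul_assoc b2, ← (k2.zpow_left _).eq, mul_assoc, s2, mul_assoc]
      exact (right_eq_mul.1 this)
    have C : (c * c) ^ (2 * i - 1) = 1 := by
      rw [show (c * c) ^ (2 * i - 1) = c ^ (i + j - 1) * c ^ (i + j - 1) * (c ^ (i - j) * c ^ (i - j)) by
        rw [← zpow_two]; group, A, B, one_mul, one_mul]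
    by_contra e
    refine not_odd hR (mul_mem hc hc) e (Nat.odd_iff.2 ?_)
    obtain ⟨m, hm⟩ := orderOf_dvd_iff_zpow_eq_one.2 C
    by_contra e
    obtain ⟨l, hl⟩ : ∃ l, orderOf (c * c) = 2 * l := ⟨orderOf (c * c) / 2, by omega⟩
    rw [hl, Nat.cast_mul, mul_assoc] at hm
    omega
  refine ⟨?_, _, c2, fun x hx => ?_⟩
  · by_contra e
    exact n32 (cov _ hb3 (np 3 ((Nat.Prime.coprime_iff_not_dvd Nat.prime_three).2 e)) n31)
  · by_cases e0 : x ∈ zpowers b
    · exact sq_cases rfl c2 e0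
    by_cases e1 : x ∈ zpowers b1
    · exact sq_cases s1 c2 e1
    · exact sq_cases s2 c2 (cov x hx e0 e1)

theorem cent_of_odd (hR : IsPGroup 2 R) (hg : g ∈ 𝐍(R)) (ho : Odd (orderOf g)) (hx : x ∈ R)
    (x2 : x * x ≠ 1) (hy : y ∈ R) (y1 : y ≠ 1) (y2 : y * y = 1) (hz : z ∈ R) (z1 : z ≠ 1)
    (z2 : z * z = 1) (hne : y ≠ z) : g ∈ 𝐂(R) := by
  by_contra hc
  obtain ⟨-, c, c2, H⟩ := h.aut hR hg ho hc
  have c1 : c ≠ 1 := by
    rintro rfl
    exact x2 ((H x hx).elim (fun e => by rw [zpowers_one_eq_bot, mem_bot] at e; rw [e, mul_one]) id)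
  exact hne (invol_eq ((H y hy).resolve_right (y2 ▸ c1.symm)) ((H z hz).resolve_right (z2 ▸ c1.symm))
    y1 y2 z1 z2)

/-- there are at most three classes of involutions -/
theorem four {E : Type*} [Group E] (φ : N →* E) (hφ : ∀ x y, φ x * φ y = φ y * φ x) {u : Fin 4 → N}
    (u1 : ∀ i, u i ≠ 1) (u2 : ∀ i, u i * u i = 1) (hu : Function.Injective (φ ∘ u)) : False := by
  obtain ⟨T, hT⟩ := exists_syl 2 (⊤ : Subgroup N)
  obtain ⟨b, -, H⟩ := h.subgroup N T hT.isPGroup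
  have : ∀ i, ∃ v ∈ T, v ≠ 1 ∧ v * v = 1 ∧ φ v = φ (u i) := fun i => by
    obtain ⟨g, -, e⟩ := hT.exists_conj_le le_top (two_elt (u2 i))
    exact ⟨_, e (conj_mem_conj (mem_zpowers _)), conj_ne_one.2 (u1 i), GW.conj_sq (u2 i) g, by
      rw [map_mul, map_mul, hφ g, map_inv, mul_inv_cancel_right]⟩
  choose v hv v1 v2 e using this
  have ne : ∀ i j, i ≠ j → φ (v i) ≠ φ (v j) := fun i j hij h => hij (hu (by simpa [e] using h))
  have sq : ∀ i, φ (v i) * φ (v i) = 1 := fun i => by rw [← map_mul, v2, map_one]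
  have one : ∀ i j, i ≠ j → v i ∈ zpowers b → v j ∉ zpowers b := fun i j hij h1 h2 =>
    ne i j hij (congrArg φ (invol_eq h1 h2 (v1 i) (v2 i) (v1 j) (v2 j)))
  have : Finite φ.range := .of_surjective _ φ.rangeRestrict_surjective
  have three : ∀ i j k, i ≠ j → i ≠ k → j ≠ k → v i ∉ zpowers b → v j ∉ zpowers b →
      v k ∉ zpowers b → False := fun i j k ij ik jk h1 h2 h3 => by
    have key : ∀ j, i ≠ j → v j ∉ zpowers b → φ.rangeRestrict (v i * v j) ∈
        zpowers (φ.rangeRestrict b) ∧ φ.rangeRestrict (v i * v j) ≠ 1 ∧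
        φ.rangeRestrict (v i * v j) * φ.rangeRestrict (v i * v j) = 1 := fun j ij h2 => by
      refine ⟨MonoidHom.map_zpowers φ.rangeRestrict b ▸
        mem_map_of_mem φ.rangeRestrict (H _ (hv i) _ (hv j) h1 h2),
        fun e => ne i j ij ?_, Subtype.ext ?_⟩
      · have e : φ (v i * v j) = 1 := congrArg Subtype.val e
        rw [map_mul, ← sq i] at e
        exact (mul_left_cancel e).symm
      · change φ (v i * v j) * φ (v i * v j) = 1
        rw [map_mul, mul_assoc, ← mul_assoc (φ (v j)), hφ (v j), mul_assoc, sq, mul_one, sq]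
    obtain ⟨a1, a2, a3⟩ := key j ij h2
    obtain ⟨b1, b2, b3⟩ := key k ik h3
    have e : φ (v i * v j) = φ (v i * v k) := congrArg Subtype.val (invol_eq a1 b1 a2 a3 b2 b3)
    rw [map_mul, map_mul] at e
    exact ne j k jk (mul_left_cancel e)
  by_cases h0 : v 0 ∈ zpowers b
  · exact three 1 2 3 (by decide) (by decide) (by decide) (one 0 1 (by decide) h0)
      (one 0 2 (by decide) h0) (one 0 3 (by decide) h0)
  by_cases h1 : v 1 ∈ zpowers b
  · exact three 0 2 3 (by decide) (by decide) (by decide) h0 (one 1 2 (by decide) h1)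
      (one 1 3 (by decide) h1)
  by_cases h2 : v 2 ∈ zpowers b
  · exact three 0 1 3 (by decide) (by decide) (by decide) h0 h1 (one 2 3 (by decide) h2)
  · exact three 0 1 2 (by decide) (by decide) (by decide) h0 h1 h2

end Alm

/-- Frobenius' criterion, ambient form -/
theorem pnil_two (h : ∀ R ≤ H, IsPGroup 2 R → ∀ g ∈ H, g ∈ 𝐍(R) → Odd (orderOf g) → g ∈ 𝐂(R)) :
    PNil 2 H := by
  obtain ⟨P⟩ : Nonempty (Sylow 2 H) := inferInstance
  refine pnil_iff_hasNormalPComplement.2 (Transfer.frobenius_of_coprime_centralizes P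
    fun X hX _ g hg ho => mem_cent_iff.2 fun x hx => Subtype.ext ?_)
  exact mem_cent_iff.1 (h _ (map_subtype_le X) ((P.isPGroup'.to_le hX).map _) g g.2
    (map_norm_le H.subtype X (mem_map_of_mem _ hg))
    (Nat.coprime_two_right.1 (by rwa [orderOf_coe]))) x (mem_map_of_mem _ hx)

theorem Alm.pnil (h : Alm G) (h3 : ¬ 3 ∣ ♯H) : PNil 2 H := pnil_two fun _ _ hR g hg hn ho => by
  by_contra hc
  exact h3 ((h.aut hR hn ho hc).1.trans (orderOf_dvd_card hg))

theorem mem_Op' {p : ℕ} [hp : Fact p.Prime] (h : PNil p H) : x ∈ Op' p H ↔ x ∈ H ∧ ¬ p ∣ orderOf x :=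
  ⟨fun hx => ⟨Opi_le _ _ hx, (isPiNum_compl_singleton hp.out).1 ((Opi_piGrp _ _).piElt hx)⟩,
    fun hx => h.mem_of_normal (Opi_normal _ _).norm hx.1 ((isPiNum_compl_singleton hp.out).2 hx.2)⟩

theorem mem_O (h : PNil 2 H) : x ∈ GW.O H ↔ x ∈ H ∧ Odd (orderOf x) := by
  rw [mem_Op' h, Nat.two_dvd_ne_zero, Nat.odd_iff]

end Cfsg.Agent.ZG
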