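import Cfsg.Agent.Lib.ZG.Syl2
import Cfsg.Agent.Lib.ODD.Char1

/-!
# Two orthogonal virtual characters of norm 3
-/

set_option autoImplicit false

namespace Cfsg.Agent.ZG

open Subgroup Cfsg.Agent.OO ODD GW
open scoped ComplexConjugate

universe u

variable {G : Type u} [Group G] [Finite G] {C N K C' N' K' : Subgroup G} {t : G}

/-- `C \ K` is a trivial intersection set with normalizer `N` -/
structure TI3 (C N K : Subgroup G) : Prop where
  normal : C ⊴ N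
  two : C.relIndex N = 2
  normK : N ≤ 𝐍(K)
  le : K ≤ C
  der_le : der C ≤ K
  ne : ∃ w ∈ N, ∃ c ∈ C, w⁻¹ * c * w * c⁻¹ ∉ K
  ti : ∀ x ∈ C, x ∉ K → ∀ g, g * x * g⁻¹ ∈ C → g ∈ N
  inv : ∀ j ∈ C, j * j = 1 → j ∈ K

/-- the involutions in `N \ C` -/
def outInv (C N : Subgroup G) : Set G := {u | u ∈ N ∧ u ∉ C ∧ u * u = 1}

theorem invSum_ind {f : G → ℂ} (hf : f ∈ CF C) : invSum (cfInd ⊤ C f) * ♯C =
    Nat.card G * ∑ u ∈ elts (Invs G), ∑ v ∈ elts (Invs G), f (u * v) := by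
  classical
  let ι : G → ℂ := (Invs G).indicator 1
  let γ : G → ℂ := fun y => ∑ u ∈ elts (Invs G), ι (u * y)
  have hγ : γ ∈ CF ⊤ := mem_CF_of (fun x hx => (hx (mem_top x)).elim) fun g _ x _ => by
    simp only [γ]
    rw [← sum_elts_equiv (A := Invs G) (MulAut.conj g).toEquiv fun x => conj_mem_invs.symm]
    exact Finset.sum_congr rfl fun u _ => by
      refine Eq.trans ?_ (cfunJ indicator_invs_mem (mem_top g) (u * x))
      simp [ι, mul_assoc]
  have e1 : ∀ θ : G → ℂ, ∑ u ∈ elts (Invs G), ∑ v ∈ elts (Invs G), θ (u * v) =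
      ∑ y ∈ elts ((⊤ : Subgroup G) : Set G), θ y * γ y := fun θ => by
    simp only [γ, Finset.mul_sum]
    rw [Finset.sum_comm (s := elts ((⊤ : Subgroup G) : Set G))]
    refine Finset.sum_congr rfl fun u hu => ?_
    rw [← sum_indicator_invs, ← sum_elts_mul_left (mem_top u)]
    refine Finset.sum_congr rfl fun y _ => ?_
    rw [← mul_assoc, (mem_elts.1 hu).2, one_mul, mul_comm]
  have e3 := cfdot_cfInd_left le_top (CF_le_suppOn C hf) (star_mem_CF hγ)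
  rw [cfdotE, cfdotE, card_top, sum_elts_subset (A := (C : Set G))
    (B := ((⊤ : Subgroup G) : Set G)) (fun x _ => mem_top x) fun x _ hx => by rw [cfun0 hf hx, zero_mul]] at e3
  simp only [cfConjCE, Complex.conj_conj] at e3
  have : (Nat.card G : ℂ) ≠ 0 := Nat.cast_ne_zero.2 Nat.card_pos.ne'
  have := cardC_ne_zero C
  rw [invSum, Finset.sum_comm, e1, e1]
  field_simp at e3
  linear_combination e3

theorem TI3.exists_char (h : TI3 C N K) : ∃ θ ∈ ZIrr (⊤ : Subgroup G), ⟪θ, θ⟫[⊤] = 3 ∧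
    ⟪θ, cf1 ⊤⟫[⊤] = 1 ∧ (∀ x, (∀ g, g * x * g⁻¹ ∈ C → g * x * g⁻¹ ∈ K) → θ x = 0) ∧
    invSum θ * ♯C = Nat.card G * ((outInv C N).ncard : ℂ) ^ 2 ∧
    ∀ ψ ∈ CF (⊤ : Subgroup G), (∀ x ∈ C, x ∉ K → ψ x = 0) → ⟪θ, ψ⟫[⊤] = 0 := by
  classical
  obtain ⟨w, hw, c, hc, e⟩ := h.ne
  obtain ⟨l, hl, hK, e⟩ := exists_lin_char_cfker ⟨h.le, h.normal.le.trans h.normK⟩ h.der_le e
  have cw := conj_mem_of_norm' (h.normal.norm hw) hc
  have ne : l (w⁻¹ * c * w) ≠ l c := fun e' => e ((mem_cfker_lin hl).2 (by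
    rw [lin_charM hl cw (inv_mem hc), e', lin_charV hl hc, mul_inv_cancel₀ (lin_char_neq0 hl hc)]))
  have wC : w ∉ C := fun e' => ne (by simpa using cfunJ hl.mem_CF (inv_mem e') c)
  have two : ∀ g ∈ N, g ∉ C → ∀ k ∈ N, k ∉ C → g * k ∈ C := fun g hg e k hk e' =>
    (mul_mem_iff_of_index_two (H := C.subgroupOf N) h.two (a := ⟨g, hg⟩) (b := ⟨k, hk⟩)).2
      (iff_of_false e e')
  have out : ∀ g ∈ N, g ∉ C → ∀ y, l (g * y * g⁻¹) = l (w⁻¹ * y * w) := fun g hg e y => by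
    rw [← cfunJ hl.mem_CF (two g hg e w hw wC) (w⁻¹ * y * w)]
    congr 1
    group
  have hF := sub_mem (cf1_mem_CF C) hl.mem_CF
  have hS := CF_le_suppOn C hF
  have f0 : ∀ x, (x ∈ C → x ∈ K) → (cf1 C - l) x = 0 := fun x hx => by
    by_cases e : x ∈ C
    · rw [Pi.sub_apply, cf1E e, (mem_cfker_lin hl).1 (hK (hx e)), sub_self]
    · exact cfun0 hF e
  have θ0 : ∀ x, (∀ g, g * x * g⁻¹ ∈ C → g * x * g⁻¹ ∈ K) → cfInd ⊤ C (cf1 C - l) x = 0 :=
    fun x hx => cfInd_eq_zero _ fun g _ => f0 _ (by simpa using hx g⁻¹)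
  have hs : elts (C : Set G) ⊆ elts (N : Set G) := fun x hx =>
    mem_elts.2 (h.normal.le (mem_elts.1 hx))
  have hθ : ∀ y ∈ C, cfInd ⊤ C (cf1 C - l) y = (cf1 C - l + (cf1 C - cfConjg w l)) y := fun y hy => by
    have yw := conj_mem_of_norm' (h.normal.norm hw) hy
    by_cases e : y ∈ K
    · rw [θ0 y fun g hg => by_contra fun e' => e' (conj_mem_of_norm (h.normK (inv_mem_iff.1
        (h.ti _ hg e' g⁻¹ (by simpa [mul_assoc] using hy)))) e), Pi.add_apply, f0 y fun _ => e,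
        Pi.sub_apply, cf1E hy, cfConjgE,
        (mem_cfker_lin hl).1 (hK (conj_mem_of_norm' (h.normK hw) e)), sub_self, add_zero]
    rw [cfIndE' _ _ (mem_top y), ← sum_elts_subset (A := N) (fun x _ => mem_top x)
      fun x _ hx => cfun0 hF fun e' => hx (h.ti y hy e x e'), ← Finset.sum_sdiff hs,
      Finset.sum_congr rfl (g := fun _ => (cf1 C - cfConjg w l) y) fun x hx => by
        rw [Finset.mem_sdiff, mem_elts, mem_elts] at hx
        rw [Pi.sub_apply, Pi.sub_apply, out x hx.1 hx.2, cf1E hy, cf1E (h.normal.conj_mem hx.1 hy),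
          cfConjgE],
      Finset.sum_congr (s₁ := elts (C : Set G)) rfl (g := fun _ => (cf1 C - l) y) fun x hx =>
        cfunJ hF (mem_elts.1 hx) y, Finset.sum_const, Finset.sum_const,
      Finset.card_sdiff_of_subset hs, card_elts, card_elts, ← card_mul_relIndex h.normal.le, h.two,
      mul_two, Nat.add_sub_cancel, nsmul_eq_mul, nsmul_eq_mul, Pi.add_apply]
    have := cardC_ne_zero C
    field_simp
    ring
  have hl' := (hl.cfConjg (h.normal.norm hw)).isIrr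
  have n1 : cfConjg w l ≠ l := fun e => ne (congrFun e c)
  have n2 : l ≠ cf1 C := fun e => ne (by rw [e, cf1E cw, cf1E hc])
  have n3 : cfConjg w l ≠ cf1 C := fun e => n2 (cfConjg_inj w (e.trans (cfConjg_cf1 (h.normal.norm hw)).symm))
  refine ⟨cfInd ⊤ C (cf1 C - l), cfInd_vchar le_top (sub_mem (cf1_vchar C) (irr_vchar hl.isIrr)), ?_,
    ?_, θ0, ?_, fun ψ hψ h0 => ?_⟩
  · rw [cfdot_cfInd_right le_top (cfInd_mem_CF _ _ _) hS, cfdot_congr hθ fun _ _ => rfl]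
    simp only [cfdotDl, cfdotBl, cfdotBr, cfdot_cf1, hl.isIrr.cfdot_cf1 n2, hl'.cfdot_cf1 n3,
      cfdot_symm0 (hl.isIrr.cfdot_cf1 n2), cfdot_irr hl.isIrr hl.isIrr, cfdot_irr hl' hl.isIrr, n1]
    norm_num
  · rw [cfdot_cfInd_left le_top hS (cf1_mem_CF ⊤), cfdot_congr (fun _ _ => rfl) (ψ' := cf1 C)
      fun x hx => by rw [cf1E hx, cf1E (mem_top x)], cfdotBl, cfdot_cf1, hl.isIrr.cfdot_cf1 n2, sub_zero]
  · have hJ : outInv C N ⊆ Invs G := fun u hu => ⟨fun e => hu.2.1 (e ▸ one_mem _), hu.2.2⟩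
    have key : ∀ u ∈ Invs G, ∀ v ∈ Invs G, u ∉ outInv C N ∨ v ∉ outInv C N →
        (cf1 C - l) (u * v) = 0 := fun u hu v hv e => f0 _ fun e1 => by_contra fun e2 => by
      have uN := h.ti _ e1 e2 u (by rw [← mul_assoc, hu.2, one_mul, ← inv_eq hv.2, ← mul_inv_rev]; exact inv_mem e1)
      have uC : u ∉ C := fun e3 => e2 (mul_mem (h.inv u e3 hu.2)
        (h.inv v ((mul_mem_cancel_left e3).1 e1) hv.2))
      exact e.elim (fun e => e ⟨uN, uC, hu.2⟩) fun e => e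
        ⟨(mul_mem_cancel_left uN).1 (h.normal.le e1), fun e3 => uC ((mul_mem_cancel_right e3).1 e1), hv.2⟩
    rw [invSum_ind hF, ← sum_elts_subset hJ fun u hu e => Finset.sum_eq_zero fun v hv =>
      key u hu v (mem_elts.1 hv) (Or.inl e), Finset.sum_congr rfl fun u hu => (sum_elts_subset hJ
        fun v hv e => key u (hJ (mem_elts.1 hu)) v hv (Or.inr e)).symm, Finset.sum_comm]
    have T : ∀ v ∈ outInv C N, ∑ u ∈ elts (outInv C N), l (u * v) = 0 := fun v hv => by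
      have e := sum_elts_equiv (A := outInv C N) (B := outInv C N) (MulAut.conj c⁻¹).toEquiv
        (fun u => by
          have cN := inv_mem (h.normal.le hc)
          simp only [outInv, Set.mem_ofPred_eq, MulEquiv.toEquiv_eq_coe, EquivLike.coe_coe,
            MulAut.conj_apply, mul_mem_cancel_right (inv_mem cN), mul_mem_cancel_left cN,
            mul_mem_cancel_right (inv_mem (inv_mem hc)), mul_mem_cancel_left (inv_mem hc), conj_mul,
            conj_eq_one_iff]) fun u => l (u * v)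
      rw [Finset.sum_congr rfl (g := fun u => (l c)⁻¹ * l (w⁻¹ * c * w) * l (u * v)) fun u hu => by
        have hu := mem_elts.1 hu
        rw [← out u hu.1 hu.2.1, ← lin_charV hl hc, mul_assoc,
          ← lin_charMl hl (h.normal.conj_mem hu.1 hc), ← lin_charMl hl (inv_mem hc)]
        simp [mul_assoc], ← Finset.mul_sum] at e
      refine (mul_left_eq_self₀.1 e).resolve_left fun e => ne ?_
      rw [inv_mul_eq_one₀ (lin_char_neq0 hl hc)] at e
      exact e.symm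
    rw [Finset.sum_congr rfl (g := fun _ => ((outInv C N).ncard : ℂ)) fun v hv => by
      have hv := mem_elts.1 hv
      simp only [Pi.sub_apply, Finset.sum_sub_distrib, T v hv, sub_zero]
      rw [Finset.sum_congr rfl (g := fun _ => 1) fun u hu => cf1E
        (two u (mem_elts.1 hu).1 (mem_elts.1 hu).2.1 v hv.1 hv.2.1), Finset.sum_const, card_elts_set,
        nsmul_eq_mul, mul_one], Finset.sum_const, card_elts_set, nsmul_eq_mul, sq]
  · rw [cfdot_cfInd_left le_top hS hψ, cfdotE, Finset.sum_eq_zero, mul_zero]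
    intro x hx
    by_cases e : x ∈ K
    · rw [f0 x fun _ => e, zero_mul]
    · rw [h0 x (mem_elts.1 hx) e, map_zero, mul_zero]

theorem dirr_one_ne (hp : der (⊤ : Subgroup G) = ⊤) {v : G → ℂ} (hv : IsDirr ⊤ v)
    (h0 : ⟪v, cf1 ⊤⟫[⊤] = 0) : v 1 ≠ 1 ∧ v 1 ≠ -1 := by
  have key : ∀ v : G → ℂ, IsDirr ⊤ v → ⟪v, cf1 ⊤⟫[⊤] = 0 → v 1 ≠ 1 := fun v hv h0 e => by
    have h1 := hv.isIrr (by rw [e]; simp)
    rw [h1.le_cfker_iff.1 (hp.ge.trans (lin_char_der1 (h1.isLinChar e))), cfdot_cf1] at h0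
    exact one_ne_zero h0
  exact ⟨key v hv h0, fun e => key _ hv.neg (by rw [cfdotNl, h0, neg_zero])
    (by rw [Pi.neg_apply, e, neg_neg])⟩

theorem order_three (h1 : OneCl G) (t1 : t ≠ 1) (t2 : t * t = 1) {v w : G → ℂ} (hv : IsDirr ⊤ v)
    (hw : IsDirr ⊤ w) (e1 : (cf1 ⊤ + v + w : G → ℂ) 1 = 0)
    (e2 : (cf1 ⊤ + v + w : G → ℂ) t = 0) :
    v 1 * (v 1 + 1) * invSum (cf1 ⊤ + v + w) = ((Invs G).ncard * (v 1 - v t)) ^ 2 := by
  have key : ∀ χ, IsDirr ⊤ χ → χ 1 * invSum χ = ((Invs G).ncard * χ t) ^ 2 := fun χ hχ => by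
    rw [invSum_dirr hχ, Finset.sum_congr rfl (g := fun _ => χ t) fun x hx => by
      obtain ⟨g, rfl⟩ := isConj_iff.1 (h1 _ _ t1 t2 (mem_elts.1 hx).1 (mem_elts.1 hx).2)
      exact cfunJ hχ.mem_CF (mem_top g) t, Finset.sum_const, card_elts_set, nsmul_eq_mul]
  have a1 := key v hv
  have a2 := key w hw
  have a3 := key _ (isIrr_cf1 (⊤ : Subgroup G)).isDirr
  simp only [Pi.add_apply, cf1E (mem_top _)] at e1 e2 a3
  rw [show w 1 = -1 - v 1 by linear_combination e1, show w t = -1 - v t by linear_combination e2] at a2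
  rw [invSum_add, invSum_add]
  linear_combination (v 1 + 1) * a1 - v 1 * a2 + v 1 * (v 1 + 1) * a3

theorem TI3.le_two (h : TI3 C N K) (h' : TI3 C' N' K') (hp : der (⊤ : Subgroup G) = ⊤)
    (h1 : OneCl G) (t1 : t ≠ 1) (t2 : t * t = 1)
    (hd : ∀ x ∈ C, x ∉ K → ∀ g, g * x * g⁻¹ ∈ C' → g * x * g⁻¹ ∈ K') :
    (outInv C' N').ncard ^ 2 * ♯C ≤ 2 * (outInv C N).ncard ^ 2 * ♯C' := by
  obtain ⟨θ, a1, a2, a3, a4, a5, a6⟩ := h.exists_char
  obtain ⟨θ', b1, b2, b3, b4, b5, -⟩ := h'.exists_char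
  have h0 := a6 θ' (vchar_mem_CF b1) fun x hx e => b4 x (hd x hx e)
  have a7 := a4 1 fun g _ => by simp
  have b7 := b4 1 fun g _ => by simp
  have a8 := a4 t fun g hg => h.inv _ hg (conj_sq t2 g)
  have b8 := b4 t fun g hg => h'.inv _ hg (conj_sq t2 g)
  have key : ∀ v w w' : G → ℂ, IsDirr ⊤ v → IsDirr ⊤ w → IsDirr ⊤ w' → ⟪v, cf1 ⊤⟫[⊤] = 0 →
      ⟪w, cf1 ⊤⟫[⊤] = 0 → ⟪w', cf1 ⊤⟫[⊤] = 0 → θ = cf1 ⊤ + v + w → θ' = cf1 ⊤ + -v + w' →
      (outInv C' N').ncard ^ 2 * ♯C ≤ 2 * (outInv C N).ncard ^ 2 * ♯C' := by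
    rintro v w w' hv hw hw' v0 w0 w0' rfl rfl
    have c1 := order_three h1 t1 t2 hv hw a7 a8
    have c2 := order_three h1 t1 t2 hv.neg hw' b7 b8
    have d1 := dirr_one_ne hp hv v0
    have d2 := dirr_one_ne hp hw w0
    have d3 := dirr_one_ne hp hw' w0'
    have d4 := hv.one_ne_zero
    simp only [Pi.add_apply, Pi.neg_apply, cf1E (mem_top _)] at a7 b7 c2
    rw [show w 1 = -1 - v 1 by linear_combination a7] at d2
    rw [show w' 1 = v 1 - 1 by linear_combination b7] at d3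
    obtain ⟨x, hx⟩ := Cint_vchar1 hv.vchar
    have : (Nat.card G : ℂ) ≠ 0 := Nat.cast_ne_zero.2 Nat.card_pos.ne'
    have e : (v 1 + 1) * ((outInv C N).ncard ^ 2 * ♯C') = (v 1 - 1) * ((outInv C' N').ncard ^ 2 * ♯C) := by
      refine mul_left_cancel₀ (mul_ne_zero this d4) ?_
      linear_combination ♯C * ♯C' * (c1 - c2) - v 1 * (v 1 + 1) * ♯C' * a5 + v 1 * (v 1 - 1) * ♯C * b5
    rw [hx] at e d1 d2 d3 d4
    norm_cast at e d1 d2 d3 d4
    zify
    push_cast at e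
    rw [mul_assoc]
    generalize hA : ((outInv C N).ncard : ℤ) ^ 2 * ♯C' = A at e
    generalize hB : ((outInv C' N').ncard : ℤ) ^ 2 * ♯C = B at e
    have : 0 ≤ A := hA ▸ by positivity
    have : 0 ≤ B := hB ▸ by positivity
    rcases (by omega : 3 ≤ x ∨ x ≤ -3) with e1 | e1 <;> nlinarith
  obtain ⟨c, b, hc, hb, c0, b0, -, e⟩ := R1.exists_dirr_of_norm_three a1 a2 a3
  obtain ⟨c', b', hc', hb', c0', b0', -, e'⟩ := R1.exists_dirr_of_norm_three b1 b2 b3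
  have n : ∀ v w : G → ℂ, IsDirr ⊤ v → IsDirr ⊤ w → w ≠ -v → ⟪v, w⟫[⊤] = 0 ∨ ⟪v, w⟫[⊤] = 1 :=
    fun v w hv hw e => (cfdot_dirr_cases hv hw).imp_right fun e1 => e1.resolve_right fun e1 =>
      e ((cfdot_dirr_eq1 hv.neg hw).1 (by rw [cfdotNl, e1, neg_neg])).symm
  by_cases e1 : c' = -c
  · exact key c b b' hc hb hb' c0 b0 b0' e (e1 ▸ e')
  by_cases e2 : b' = -c
  · exact key c b c' hc hb hc' c0 b0 c0' e (by rw [e', e2, add_right_comm])
  by_cases e3 : c' = -b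
  · exact key b c b' hb hc hb' b0 c0 b0' (by rw [e, add_right_comm]) (e3 ▸ e')
  by_cases e4 : b' = -b
  · exact key b c c' hb hc hc' b0 c0 c0' (by rw [e, add_right_comm]) (by rw [e', e4, add_right_comm])
  simp only [e, e', cfdotDl, cfdotDr, cfdot_cf1, c0, b0, cfdot_symm0 c0', cfdot_symm0 b0'] at h0
  rcases n _ _ hc hc' e1 with f1 | f1 <;> rcases n _ _ hc hb' e2 with f2 | f2 <;>
    rcases n _ _ hb hc' e3 with f3 | f3 <;> rcases n _ _ hb hb' e4 with f4 | f4 <;>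
    norm_num [f1, f2, f3, f4] at h0

end Cfsg.Agent.ZG
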