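import Cfsg.Agent.Lib.ZG.Dih
import Cfsg.Agent.Lib.GW.Good

/-!
# Bender's counting argument, and the generalized dihedral involution centralizer
-/

set_option autoImplicit false
set_option linter.unusedSectionVars false

namespace Cfsg.Agent.ZG

open Subgroup Cfsg.Agent.OO Cfsg.Agent.Coprime GW
open scoped commutatorElement Pointwise

universe u

theorem ncard_mul_le {α β : Type*} [Finite α] [Finite β] {A : Set α} {B : Set β} (r : α → β → Prop)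
    {m n : ℕ} (hm : ∀ a ∈ A, m ≤ {b ∈ B | r a b}.ncard) (hn : ∀ b ∈ B, {a ∈ A | r a b}.ncard ≤ n) :
    A.ncard * m ≤ B.ncard * n := by
  classical
  rw [Set.ncard_eq_toFinset_card A, Set.ncard_eq_toFinset_card B]
  refine Finset.card_mul_le_card_mul r (fun a ha => (hm a (by simpa using ha)).trans_eq ?_)
    fun b hb => le_of_eq_of_le ?_ (hn b (by simpa using hb))
  · rw [← Set.ncard_coe_finset]
    congr
    ext
    simp
  · rw [← Set.ncard_coe_finset]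
    congr
    ext
    simp

variable {G : Type u} [Group G] [Finite G] {a b c g i j m o s t v w x y z ρ : G}

theorem ncard_le_cosets {M : Subgroup G} {A : Set G} (h1 : ∀ x ∈ A, x ∉ M) (h : ∀ u ∈ A, ∀ v ∈ A,
    ∀ w ∈ A, u⁻¹ * v ∈ M → u⁻¹ * w ∈ M → u ≠ v → u ≠ w → v = w) : A.ncard ≤ (M.index - 1) * 2 := by
  have := ncard_mul_le (A := A) (B := {((1 : G) : G ⧸ M)}ᶜ) (fun a b => (a : G ⧸ M) = b) (m := 1)
    (n := 2) (fun a ha => (Set.ncard_pos).2 ⟨a, fun e => h1 a ha (by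
      simpa using QuotientGroup.eq.1 (Eq.symm e)), rfl⟩) fun b _ => not_lt.1 fun e => by
      obtain ⟨u, v, w, hu, hv, hw, e1, e2, e3⟩ := (Set.two_lt_ncard_iff).1 e
      exact e3 (h u hu.1 v hv.1 w hw.1 (QuotientGroup.eq.1 (hu.2.trans hv.2.symm))
        (QuotientGroup.eq.1 (hu.2.trans hw.2.symm)) e1 e2)
  rwa [mul_one, Set.ncard_compl, Set.ncard_singleton] at this

namespace Dh

variable (h : Dh a s z) (hy : y ∈ O 𝐂[z]) (hq : (orderOf y).Prime) (hs : y ∈ 𝐂[s])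
include h hy hq hs

theorem three_le : 3 ≤ {v ∈ {v : G | v ≠ 1 ∧ v * v = 1 ∧ v ∉ 𝐍(S4 z s)} |
    a * s * v = v * (a * s)}.ncard := by
  have hi := h.as_inv hy hs
  have zi := (mem_cent1.1 (mul_mem h.a_mem h.s_mem)).symm
  have i2 := h.as_sq
  have hi' := h.as_not hy hq hs
  generalize a * s = i at *
  obtain ⟨g, hg⟩ := isConj_iff.1 (h.one z i h.z1 h.z2 (fun e => hi' (e ▸ one_mem _)) i2)
  have zy : Commute z y := mem_cent1.1 (h.z_mem_C hy)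
  have ho := (h.mem_O.1 hy).2
  have h6 : 6 ≤ ((fun k => g * (i * k) * g⁻¹) '' zpowers (z * y)).ncard := by
    rw [Set.ncard_image_of_injective _ fun k l e => by simpa using e, ← Nat.card_coe_set_eq,
      SetLike.coe_sort_coe, Nat.card_zpowers, zy.orderOf_mul_eq_mul_orderOf_of_coprime
        (orderOf_eq_two h.z2 h.z1 ▸ Nat.coprime_two_left.2 ho), orderOf_eq_two h.z2 h.z1]
    have := hq.two_le
    have := h.q2 hy hq
    omega
  have h3 : ({z, i, z * i} : Set G).ncard ≤ 3 := (Set.ncard_insert_le _ _).trans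
    (Nat.succ_le_succ ((Set.ncard_insert_le _ _).trans (by simp)))
  have e : i * (z * y) * i⁻¹ = (z * y)⁻¹ := by
    rw [← conj_mul, hi, ← zi, mul_inv_cancel_right, zy.eq, mul_inv_rev, inv_eq h.z2]
  refine (le_trans (by omega) (Set.le_ncard_sdiff {z, i, z * i}
    ((fun k => g * (i * k) * g⁻¹) '' zpowers (z * y)))).trans (Set.ncard_le_ncard ?_)
  rintro _ ⟨⟨k, hk, rfl⟩, h4⟩
  obtain ⟨kC, kz⟩ := mem_inf.1 ((zpowers_le (H := 𝐂[y] ⊓ 𝐂[z])).2 (mul_mem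
    (mem_inf.2 ⟨h.z_mem_C hy, mem_cent1.2 rfl⟩) (mem_inf.2 ⟨mem_cent1.2 rfl, Opi_le _ _ hy⟩)) hk)
  have k2 : i * k * (i * k) = 1 := by
    rw [← mul_assoc, mul_inv_eq_iff_eq_mul.1 (inv_of_mem e hk), mul_assoc k⁻¹, i2, mul_one,
      inv_mul_cancel]
  have hc : i * (g * (i * k) * g⁻¹) = g * (i * k) * g⁻¹ * i := by
    nth_rewrite 1 4 [← hg]
    rw [conj_mul, conj_mul, mem_cent1.1 (mul_mem (mem_cent1.2 zi.symm) kz)]
  have k1 : g * (i * k) * g⁻¹ ≠ 1 :=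
    conj_ne_one.2 fun e => hi' ((mul_mem_cancel_right kC).1 (e ▸ one_mem _))
  replace k2 := conj_sq k2 g
  beta_reduce at h4 ⊢
  generalize g * (i * k) * g⁻¹ = v at *
  refine ⟨⟨k1, k2, fun hm => h4 ?_⟩, hc⟩
  by_cases e1 : v ∈ 𝐂[y]
  · exact Or.inl (h.uniq hy hq i2 zi hi e1 k1 k2 hc.symm)
  by_cases e2 : v * i = 1
  · exact Or.inr (Or.inl ((eq_inv_of_mul_eq_one_left e2).trans (inv_eq i2)))
  refine Or.inr (Or.inr ?_)
  rw [← h.uniq hy hq i2 zi hi (mul_mem_cent (inv_of_ext (h.le_ext hy hq hs hm) e1) hi) e2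
    (by rw [mul_assoc, ← mul_assoc i, hc, ← mul_assoc, ← mul_assoc, k2, one_mul, i2])
    (by rw [← mul_assoc, hc]), mul_assoc, i2, mul_one]
  rfl

theorem normV_eq : 𝐍(S4 z s) = ⊤ := by
  set M := 𝐍(S4 z s) with hM
  set B := {v : G | v ≠ 1 ∧ v * v = 1 ∧ v ∉ M}
  have hC : 𝐂[y] ≤ M := h.C_le hy hq hs
  have inv : ∀ v ∈ M, v ∉ 𝐂[y] → v * y * v⁻¹ = y⁻¹ := fun v hv => inv_of_ext (h.le_ext hy hq hs hv)
  have key : ∀ u ∈ B, ∀ v ∈ B, u ≠ v → u⁻¹ * v ∉ 𝐂[y] := fun u hu v hv e e1 =>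
    hu.2.2 (h.star hy hq hs e1 (fun e2 => e (inv_mul_eq_one.1 e2)) hu.1 hu.2.1
      (Or.inr (by nth_rewrite 1 3 [inv_eq hu.2.1]; exact inv_mul_left hu.2.1 hv.2.1)))
  have h1 : B.ncard ≤ (M.index - 1) * 2 := ncard_le_cosets (fun x hx => hx.2.2)
    fun u hu v hv w hw e1 e2 n1 n2 => by_contra fun n3 => key v hv w hw n3 (by
      have := mul_mem_cent (inv _ (inv_mem e1) (by rw [inv_mem_iff]; exact key u hu v hv n1))
        (inv _ e2 (key u hu w hw n2))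
      rwa [mul_inv_rev, inv_inv, mul_assoc, mul_inv_cancel_left] at this)
  have h2 := ncard_mul_le (A := {j | j ∈ M ∧ j * j = 1 ∧ j ∉ 𝐂[y]}) (B := B)
    (fun j v => j * v = v * j) (m := 3) (n := 1) (fun j hj => ?_) fun v hv => ?_
  · have h3 : {j | j ∈ 𝐂[y] ∧ j ≠ 1 ∧ j * j = 1} ⊆ (fun x => x * z * x⁻¹) '' M := fun j hj =>
      (h.cls hy hq hs hj.1 hj.2.1 hj.2.2).imp fun c hc => ⟨hC hc.1, hc.2⟩
    have hs' := mem_cent1_comm.1 hs
    have h4 : 2 < ((fun x => x * z * x⁻¹) '' M).ncard := (Set.two_lt_ncard_iff).2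
      ⟨z, s, z * s, h3 ⟨h.z_mem_C hy, h.z1, h.z2⟩, h3 ⟨hs', h.s1, h.s2⟩,
        h3 ⟨mul_mem (h.z_mem_C hy) hs', h.pair.mul_ne_one, h.pair.mul_sq⟩, h.pair.ne,
        h.pair.mul.ne, fun e => h.z1 (by simpa using e)⟩
    have h5 := Set.ncard_le_ncard h3
    have h6 : (fun x => x * z * x⁻¹) '' (⊤ : Subgroup G) ⊆ {j | j ∈ 𝐂[y] ∧ j ≠ 1 ∧ j * j = 1} ∪
        ({j | j ∈ M ∧ j * j = 1 ∧ j ∉ 𝐂[y]} ∪ B) := by
      rintro _ ⟨g, -, rfl⟩
      have e1 := (conj_ne_one (g := g)).2 h.z1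
      have e2 := conj_sq h.z2 g
      simp only [B, Set.mem_union, Set.mem_ofPred_eq]
      tauto
    have h7 := (Set.ncard_le_ncard h6).trans ((Set.ncard_union_le _ _).trans
      (Nat.add_le_add_left (Set.ncard_union_le _ _) _))
    rw [ncard_conj, relIndex_top_right, ← relIndex_mul_index ((h.norm_zp hy).trans
      (h.le_normV hy hq hs))] at h7
    rw [ncard_conj] at h4 h5
    obtain ⟨n, hn⟩ := Nat.exists_eq_add_one_of_ne_zero M.index_ne_zero_of_finite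
    rw [← hM, hn] at h7
    rw [hn, Nat.add_sub_cancel] at h1
    rw [← index_eq_one, hn]
    nlinarith
  · obtain ⟨m, hm, rfl⟩ := h.exists_conj_as hy hq hs hj.1 hj.2.1 hj.2.2
    refine (h.three_le hy hq hs).trans (Set.ncard_le_ncard_of_injOn (fun v => m * v * m⁻¹)
      (fun v hv => ⟨⟨conj_ne_one.2 hv.1.1, conj_sq hv.1.2.1 m, fun e => hv.1.2.2 ?_⟩, ?_⟩)
      fun k _ l _ e => by simpa using e)
    · rwa [mul_mem_cancel_right (inv_mem hm), mul_mem_cancel_left hm] at e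
    · rw [conj_mul, conj_mul, hv.2]
  · refine (Set.ncard_le_one).2 fun j hj k hk => by_contra fun e => hv.2.2 (h.star hy hq hs
      (mul_mem_cent (inv j hj.1.1 hj.1.2.2) (inv k hk.1.1 hk.1.2.2))
      (fun e1 => e ((eq_inv_of_mul_eq_one_left e1).trans (inv_eq hk.1.2.1))) hv.1 hv.2.1
      (Or.inl ?_))
    rw [← mul_assoc, ← hj.2, mul_assoc j, ← hk.2, ← mul_assoc, mul_inv_cancel_right]

omit hy hq hs in
theorem s_inv (h0 : O (⊤ : Subgroup G) = ⊥) (hx : x ∈ O 𝐂[z]) : s * x * s⁻¹ = x⁻¹ := by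
  refine conj_eq_inv h.s2 ((Opi_normal _ _).norm h.s_mem) ?_ hx
  by_contra e
  obtain ⟨y, hy, hq⟩ := exists_prime_order_mem e
  have hq : (orderOf y).Prime := hq
  refine y1 hq (mem_bot.1 (h0 ▸ le_O ⟨le_top, ?_⟩ ?_ (mem_zpowers y)))
  · exact h.normV_eq hy.1 hq hy.2 ▸ h.normV_le hy.1 hq hy.2
  · exact Nat.card_zpowers y ▸ (h.mem_O.1 hy.1).2

end Dh

theorem pnil_of_cyc {H : Subgroup G} (hP : Syl 2 (zpowers a) H) : PNil 2 H :=
  pnil_two fun R hR h2 g _ hn ho => by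
    obtain ⟨k, -, hk⟩ := hP.exists_conj_le hR h2
    obtain ⟨c, rfl⟩ := exists_zpowers_eq (isCyclic_conj.1 (isCyclic_of_le' inferInstance hk))
    rw [cent_zpowers]
    exact mem_cent1.2 (comm_of_two h2 ho (conj_mem_of_norm hn (mem_zpowers c)))

theorem Tw.inf_cent (h : Tw a s z) (h1 : a ∈ 𝐂[y]) (h2 : s ∉ 𝐂[y]) : S4 a s ⊓ 𝐂[y] = zpowers a :=
  le_antisymm (fun _ hx => (h.mem.1 hx.1).elim id fun e =>
    absurd ((mul_mem_cancel_left hx.2).1 (zpowers_le.2 h1 e)) h2) (le_inf Tw.le (zpowers_le.2 h1))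

theorem Tw.hyp (h : Tw a s z) (hd : s * a * s⁻¹ = a⁻¹) (hC : Cyc G) (h1 : OneCl G)
    (hp : PNil 2 𝐂[z]) (hs : ∀ x ∈ O 𝐂[z], s * x * s⁻¹ = x⁻¹) (ha : a ∈ 𝐂(O 𝐂[z])) :
    ODD.Hyp (O 𝐂[z] ⊔ zpowers a) z s := by
  have hn := (Opi_normal ({2} : Set ℕ)ᶜ 𝐂[z]).norm
  have hsd := hp.sdprod (h.syl.hall.mono h.le_cent le_top).syl
  have aH := Tw.le.trans h.le_cent
  have sH := h.le_cent (s_mem_S4 a s)
  have mem : ∀ {x}, x ∈ O 𝐂[z] ⊔ zpowers a ↔ ∃ o ∈ O 𝐂[z], ∃ b ∈ zpowers a, o * b = x :=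
    mem_sup_norm_left (aH.trans hn)
  have KH : O 𝐂[z] ⊔ zpowers a ≤ 𝐂[z] := sup_le (Opi_le _ _) aH
  have two : ∀ x ∈ O 𝐂[z] ⊔ zpowers a, x * x = 1 → x ∈ zpowers a := fun x hx x2 => by
    obtain ⟨o, ho, b, hb, rfl⟩ := mem.1 hx
    have e := mem_cent_iff.1 (zpowers_le.2 ha hb) o ho
    rw [mul_assoc, ← mul_assoc b, ← e, mul_assoc, ← mul_assoc] at x2
    have : o * o ∈ O 𝐂[z] ⊓ S4 a s :=
      mem_inf.2 ⟨mul_mem ho ho, eq_inv_of_mul_eq_one_left x2 ▸ inv_mem (Tw.le (mul_mem hb hb))⟩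
    rw [eq_one_of_odd_of_sq (odd_of_mem (odd_O _) ho) (mem_bot.1 (hsd.inf_eq ▸ this)), one_mul]
    exact hb
  refine ⟨le_sup_right (a := O 𝐂[z]) h.z_mem, h.z1, h.z2, fun e => h.sa (two s e h.s2), h.s2,
    fun x hx => ?_, fun g => ⟨fun e => ?_, fun e => mem_cent1.1 (e.elim (@KH g)
      fun e => (mul_mem_cancel_right sH).1 (KH e))⟩, fun x hx x1 g hg => ?_, h1⟩
  · obtain ⟨o, ho, b, hb, rfl⟩ := mem.1 hx
    rw [← conj_mul, hs o ho, inv_of_mem hd hb, ← mul_inv_rev,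
      mem_cent_iff.1 (zpowers_le.2 ha hb) o ho]
  · obtain ⟨o, ho, b, hb, rfl⟩ := hsd.mem_iff.1 (mem_cent1.2 e)
    exact (h.mem.1 hb).imp (fun e => mem.2 ⟨o, ho, b, e, rfl⟩)
      fun e => mem.2 ⟨o, ho, _, e, (mul_assoc _ _ _).symm⟩
  obtain ⟨y, hy, hq⟩ := exists_prime_mem x1
  replace hg : g * y * g⁻¹ ∈ O 𝐂[z] ⊔ zpowers a :=
    (zpowers_le.2 hg) (conj_zpowers g x ▸ conj_mem_conj hy)
  replace hy := zpowers_le.2 hx hy
  have y1 := Dh.y1 hq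
  by_cases y2 : y * y = 1
  · have e := h.eq_z (two _ hg (conj_sq y2 g)) (conj_ne_one.2 y1) (conj_sq y2 g)
    rw [h.eq_z (two _ hy y2) y1 y2] at e
    exact mul_inv_eq_iff_eq_mul.1 e
  have ho := odd_of_prime hq y2
  have q2 : orderOf y ≠ 2 := fun e => ho.not_two_dvd_nat (e ▸ dvd_rfl)
  replace hy := (mem_O hp).2 ⟨KH hy, ho⟩
  have hN := hC.norm_of_inv (odd_O _) (Opi_normal _ _) sH hy (hs y hy)
  replace hg : g ∈ 𝐍(zpowers y) := mem_norm_zp (hC.zp_eq hq q2 (orderOf_conj g y) rfl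
    (conj_mem_of_norm (hN (KH hg)) (mem_zpowers y)) ▸ mem_zpowers _)
  have hS := (h.syl.hall.mono (h.le_cent.trans hN) le_top).syl.inf_normal (cent_normal y)
  rw [h.inf_cent (cent_le_cent1 hy ha) (not_cent_of_inv ho y1 (hs y hy))] at hS
  have hY := (cent_normal y).Opi ({2} : Set ℕ)ᶜ
  have zN := hN (mem_cent1_self z)
  have zY : z ∈ 𝐂(O 𝐂[y]) := by_contra fun e => by
    obtain ⟨w, hw, hr, e⟩ := exists_inv (hY.norm zN) h.z2 e
    have wo := odd_of_mem (odd_O _) hw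
    have hW := hN.trans (hC.norm_of_inv (odd_O _) hY zN hw e)
    have key : ∀ j, j ≠ 1 → j * j = 1 → j * w * j⁻¹ ≠ w := fun j j1 j2 e1 => by
      obtain ⟨k, hk⟩ := isConj_iff.1 (h1 j z j1 j2 h.z1 h.z2)
      have : k * w * k⁻¹ ∈ 𝐂[z] := by
        rw [← hk, cent1_conj]
        exact conj_mem_conj (mem_cent1_comm.1 (mem_cent1_iff_conj.2 e1))
      refine not_cent_of_inv wo (Dh.y1 hr) e (mem_cent1_comm.1 (zpowers_le.2 this ?_))
      rw [hC.zp_eq hr (fun e => wo.not_two_dvd_nat (e ▸ dvd_rfl)) (orderOf_conj k w) rfl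
        (conj_mem_of_norm (hW this) (mem_zpowers w))]
      exact mem_zpowers w
    rcases conj_cases hr (conj_mem_of_norm (hW sH) (mem_zpowers w))
      (by rw [h.s2, one_mul, mul_one]) with e1 | e1
    · exact key s h.s1 h.s2 e1
    · exact key _ h.pair.mul_ne_one h.pair.mul_sq (mem_cent1_iff_conj.1 (mul_mem_cent e e1))
  have hz : 𝐂[y] ≤ 𝐂[z] := ((pnil_of_cyc hS).sdprod hS).sup_eq.ge.trans
    (sup_le (le_cent1_iff.2 zY) aH)
  obtain ⟨c, hc, e⟩ := hS.exists_conj_le (zpowers_le.2 ((cent_normal y).conj_mem hg (hS.le h.z_mem)))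
    (two_elt (conj_sq h.z2 g))
  have e1 := h.eq_z (e (conj_mem_conj (mem_zpowers _))) (conj_ne_one.2 (conj_ne_one.2 h.z1))
    (conj_sq (conj_sq h.z2 g) c)
  rw [← mem_cent1, ← mul_mem_cancel_left (hz hc), mem_cent1_iff_conj, ← e1]
  nth_rewrite 1 [e1]
  group

theorem Dh.hyp (h : Dh a s z) (h0 : O (⊤ : Subgroup G) = ⊥) : ODD.Hyp (O 𝐂[z] ⊔ zpowers a) z s :=
  h.toTw.hyp h.inv h.cyc h.one h.pnil (fun _ => h.s_inv h0) (mem_cent_iff_conj.2 fun x hx => by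
    have := h.swap.s_inv h0 hx
    rw [mul_inv_rev, mul_assoc a, mul_assoc a, ← mul_assoc (s * x), h.s_inv h0 hx] at this
    rw [← inv_inj, ← this]
    group)

end Cfsg.Agent.ZG
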