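import Cfsg.Agent.Lib.GW.Basic
import Cfsg.Agent.Lib.Schur.CyclicSylow
import Cfsg.Agent.Lib.Cls.Basic

/-!
# Groups with cyclic Sylow subgroups for odd primes: elementary facts
-/

set_option autoImplicit false

namespace Cfsg.Agent.ZG

open Subgroup Cfsg.Agent.OO Cfsg.Agent.Coprime
open scoped commutatorElement Pointwise

universe u

/-- subgroups of odd prime power order are cyclic -/
def Cyc (G : Type u) [Group G] : Prop :=
  ∀ p : ℕ, p.Prime → p ≠ 2 → ∀ P : Subgroup G, IsPGroup p P → IsCyclic P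

/-- 2-subgroups have a cyclic subgroup of index at most 2 -/
def Alm (G : Type u) [Group G] : Prop :=
  ∀ P : Subgroup G, IsPGroup 2 P → ∃ a ∈ P, ∀ x ∈ P, ∀ y ∈ P,
    x ∉ zpowers a → y ∉ zpowers a → x * y ∈ zpowers a

variable {G : Type u} {G' : Type*} [Group G] [Group G'] {A L Y R : Subgroup G} {a g j t w x y z : G} {q : ℕ}

theorem Cyc.of_injective (h : Cyc G) {f : G' →* G} (hf : Function.Injective f) : Cyc G' :=
  fun p hp h2 P hP => by
    have := h p hp h2 _ (hP.map f)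
    exact isCyclic_of_surjective _ (P.equivMapOfInjective f hf).symm.surjective

theorem Alm.of_injective (h : Alm G) {f : G' →* G} (hf : Function.Injective f) : Alm G' :=
  fun P hP => by
    obtain ⟨_, ⟨a, ha, rfl⟩, H⟩ := h _ (hP.map f)
    have e : ∀ x, f x ∈ zpowers (f a) ↔ x ∈ zpowers a := fun x => by
      rw [← MonoidHom.map_zpowers, mem_map_iff_mem hf]
    refine ⟨a, ha, fun x hx y hy h1 h2 => (e _).1 ?_⟩
    rw [map_mul]
    exact H _ (mem_map_of_mem f hx) _ (mem_map_of_mem f hy) (mt (e _).1 h1) (mt (e _).1 h2)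

theorem exists_map_eq [Finite G] {p : ℕ} [Fact p.Prime] {f : G →* G'} (hf : Function.Surjective f)
    {P : Subgroup G'} (hP : IsPGroup p P) : ∃ Q : Subgroup G, IsPGroup p Q ∧ Q.map f = P := by
  have : Finite G' := .of_surjective f hf
  obtain ⟨Q, hQ⟩ := exists_syl p (P.comap f)
  have h := (hQ.hall.map f).syl
  rw [map_comap_eq_self_of_surjective hf] at h
  exact ⟨Q, hQ.isPGroup, h.eq_self hP⟩

theorem Cyc.of_surjective [Finite G] (h : Cyc G) {f : G →* G'} (hf : Function.Surjective f) :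
    Cyc G' := fun p hp h2 P hP => by
  have := Fact.mk hp
  obtain ⟨Q, hQ, rfl⟩ := exists_map_eq hf hP
  have := h p hp h2 Q hQ
  exact isCyclic_of_surjective _ (f.subgroupMap_surjective Q)

theorem Alm.of_surjective [Finite G] (h : Alm G) {f : G →* G'} (hf : Function.Surjective f) :
    Alm G' := fun P hP => by
  obtain ⟨Q, hQ, rfl⟩ := exists_map_eq hf hP
  obtain ⟨a, ha, H⟩ := h Q hQ
  have e : ∀ x, x ∈ zpowers a → f x ∈ zpowers (f a) := fun x hx =>
    MonoidHom.map_zpowers f a ▸ mem_map_of_mem f hx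
  refine ⟨f a, mem_map_of_mem f ha, ?_⟩
  rintro _ ⟨x, hx, rfl⟩ _ ⟨y, hy, rfl⟩ h1 h2
  rw [← map_mul]
  exact e _ (H x hx y hy (mt (e _) h1) (mt (e _) h2))

theorem Cyc.subgroup (h : Cyc G) (H : Subgroup G) : Cyc H := h.of_injective H.subtype_injective
theorem Alm.subgroup (h : Alm G) (H : Subgroup G) : Alm H := h.of_injective H.subtype_injective
theorem Cyc.coset [Finite G] (h : Cyc G) (N : Subgroup G) : Cyc (Coset N) :=
  (h.subgroup _).of_surjective (cosetHom_surjective N)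
theorem Alm.coset [Finite G] (h : Alm G) (N : Subgroup G) : Alm (Coset N) :=
  (h.subgroup _).of_surjective (cosetHom_surjective N)

/-! ### elements inverted by an element -/

theorem inv_of_mem (h : w * y * w⁻¹ = y⁻¹) (hx : x ∈ zpowers y) : w * x * w⁻¹ = x⁻¹ := by
  obtain ⟨k, rfl⟩ := hx
  rw [← conj_zpow, h, inv_zpow]

theorem comm_of_mem (h : w * y = y * w) (hx : x ∈ zpowers y) : w * x = x * w := by
  obtain ⟨k, rfl⟩ := hx
  exact (Commute.zpow_right h k).eq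

theorem conj_mem_zp (h : w * y * w⁻¹ ∈ zpowers y) (hx : x ∈ zpowers y) :
    w * x * w⁻¹ ∈ zpowers y := by
  obtain ⟨k, rfl⟩ := hx
  rw [← conj_zpow]
  exact zpow_mem h k

theorem eq_one_of_inv (ho : Odd (orderOf y)) (h : y = y⁻¹) : y = 1 :=
  GW.eq_one_of_odd_of_sq ho (by nth_rewrite 2 [h]; exact mul_inv_cancel y)

theorem conj_cases (hq : (orderOf y).Prime) (h : w * y * w⁻¹ ∈ zpowers y)
    (h2 : w * w * y = y * (w * w)) : w * y * w⁻¹ = y ∨ w * y * w⁻¹ = y⁻¹ := by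
  obtain ⟨k, hk⟩ := h
  have hk : y ^ k = w * y * w⁻¹ := hk
  have e : y ^ (k * k) = y ^ (1 : ℤ) := by
    rw [zpow_mul, hk, conj_zpow, hk, zpow_one]
    calc w * (w * y * w⁻¹) * w⁻¹ = w * w * y * (w * w)⁻¹ := by group
      _ = y := by rw [h2, mul_inv_cancel_right]
  rw [zpow_eq_zpow_iff_modEq] at e
  have e2 : (orderOf y : ℤ) ∣ (1 - k) * (-1 - k) := by
    have := e.symm.dvd
    rwa [show k * k - 1 = (1 - k) * (-1 - k) by ring] at this
  rw [← hk]
  rcases (Nat.prime_iff_prime_int.1 hq).dvd_or_dvd e2 with h | h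
  · exact Or.inl ((zpow_eq_zpow_iff_modEq.2 (Int.modEq_iff_dvd.2 h)).trans (zpow_one y))
  · exact Or.inr ((zpow_eq_zpow_iff_modEq.2 (Int.modEq_iff_dvd.2 h)).trans (zpow_neg_one y))

theorem mem_der_of_inv (hy : y ∈ L) (hw : w ∈ L) (ho : Odd (orderOf y)) (h : w * y * w⁻¹ = y⁻¹) :
    y ∈ der L := by
  have e : y ^ 2 ∈ der L := by
    have := commutator_mem_commutator hy hw
    rwa [commutatorElement_def, show y * w * y⁻¹ * w⁻¹ = y * (w * y * w⁻¹)⁻¹ by group, h, inv_inv,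
      ← sq] at this
  obtain ⟨m, hm⟩ := ho
  have : y = (y ^ 2) ^ (m + 1) := by
    rw [← pow_mul, show 2 * (m + 1) = 2 * m + 1 + 1 by ring, ← hm, pow_succ, pow_orderOf_eq_one,
      one_mul]
  exact this ▸ pow_mem e _

variable [Finite G]

theorem mem_norm_zp (h : w * y * w⁻¹ ∈ zpowers y) : w ∈ 𝐍(zpowers y) :=
  mem_norm_of_conj_mem fun _ hx => conj_mem_zp h hx

theorem exists_prime_mem (h : x ≠ 1) : ∃ y ∈ zpowers x, (orderOf y).Prime :=
  exists_prime_order_mem (by rwa [Ne, zpowers_eq_bot])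

theorem zp_eq_of_orderOf (hx : x ∈ zpowers a) (hy : y ∈ zpowers a) (h : orderOf x = orderOf y) :
    zpowers x = zpowers y :=
  eq_of_isCyclic_of_card_eq inferInstance (zpowers_le.2 hx) (zpowers_le.2 hy)
    (by rw [Nat.card_zpowers, Nat.card_zpowers, h])

theorem invol_eq (hx : x ∈ zpowers a) (hy : y ∈ zpowers a) (x1 : x ≠ 1) (x2 : x * x = 1)
    (y1 : y ≠ 1) (y2 : y * y = 1) : x = y := by
  have := zp_eq_of_orderOf hx hy ((GW.orderOf_eq_two x2 x1).trans (GW.orderOf_eq_two y2 y1).symm)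
  exact ((GW.mem_zp y2).1 (this ▸ mem_zpowers x)).resolve_left x1

theorem exists_invol (h : ¬ Odd (orderOf x)) : ∃ z ∈ zpowers x, z ≠ 1 ∧ z * z = 1 := by
  obtain ⟨z, hz, h2⟩ := cauchy (H := zpowers x) Nat.prime_two
    (by rwa [Nat.card_zpowers, ← even_iff_two_dvd, ← Nat.not_odd_iff_even])
  exact ⟨z, hz, fun e => by simp [e] at h2, by rw [← sq, ← h2, pow_orderOf_eq_one]⟩

/-- two involutions whose product has even order commute with a third one -/
theorem dihedral (hj : j * j = 1) (hw : w * w = 1) (h : ¬ Odd (orderOf (j * w))) :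
    ∃ z ∈ zpowers (j * w), z ≠ 1 ∧ z * z = 1 ∧ j * z = z * j ∧ w * z = z * w := by
  obtain ⟨z, hz, z1, z2⟩ := exists_invol h
  have e1 : j * (j * w) * j⁻¹ = (j * w)⁻¹ := by
    rw [← mul_assoc, hj, one_mul, mul_inv_rev, GW.inv_eq hw]
  have e2 : w * (j * w) * w⁻¹ = (j * w)⁻¹ := by
    rw [← mul_assoc, mul_inv_cancel_right, mul_inv_rev, GW.inv_eq hw, GW.inv_eq hj]
  refine ⟨z, hz, z1, z2, ?_, ?_⟩
  · rw [← mul_inv_eq_iff_eq_mul, inv_of_mem e1 hz, GW.inv_eq z2]
  · rw [← mul_inv_eq_iff_eq_mul, inv_of_mem e2 hz, GW.inv_eq z2]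

omit [Finite G] in
theorem odd_of_prime (hq : (orderOf y).Prime) (h : y * y ≠ 1) : Odd (orderOf y) :=
  hq.odd_of_ne_two fun e => h (by rw [← sq, ← e, pow_orderOf_eq_one])

/-- the commutator subgroup of the normalizer of a cyclic group centralizes it -/
theorem der_le_cent (h : IsCyclic Y) (hL : L ≤ 𝐍(Y)) : der L ≤ 𝐂(Y) := by
  obtain ⟨y, rfl⟩ := exists_zpowers_eq h
  rw [cent_zpowers, commutator_le]
  intro g hg k hk
  obtain ⟨m, hm⟩ := conj_mem_of_norm (hL hg) (mem_zpowers y)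
  obtain ⟨n, hn⟩ := conj_mem_of_norm (hL hk) (mem_zpowers y)
  have hm : y ^ m = g * y * g⁻¹ := hm
  have hn : y ^ n = k * y * k⁻¹ := hn
  have e : g * k * y * (g * k)⁻¹ = k * g * y * (k * g)⁻¹ :=
    calc g * k * y * (g * k)⁻¹ = g * (k * y * k⁻¹) * g⁻¹ := by group
      _ = y ^ (m * n) := by rw [← hn, ← conj_zpow, ← hm, zpow_mul]
      _ = k * (g * y * g⁻¹) * k⁻¹ := by rw [← hm, ← conj_zpow, ← hn, ← zpow_mul, mul_comm]
      _ = _ := by group
  have e2 : (k * g)⁻¹ * (g * k) ∈ 𝐂[y] := by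
    rw [mem_cent1_iff_conj]
    calc _ = (k * g)⁻¹ * (g * k * y * (g * k)⁻¹) * (k * g) := by group
      _ = y := by rw [e]; group
  have := conj_mem_of_norm (norm_le_norm_cent _ (hL (mul_mem hk hg))) (cent_zpowers y ▸ e2)
  rw [cent_zpowers] at this
  convert this using 1
  rw [commutatorElement_def]
  group

namespace Cyc

variable (h : Cyc G)
include h

theorem isZGroup (hY : Odd ♯Y) : IsZGroup Y := isZGroup_iff_syl.2 fun p hp P hP => by
  by_cases e : p = 2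
  · subst e
    rw [hP.eq_bot_iff.2 hY.not_two_dvd_nat]
    infer_instance
  · exact h p hp.out e P hP.isPGroup

theorem cyc_of_ab (hY : Odd ♯Y) (ha : Ab Y) : IsCyclic Y :=
  isCyclic_of_isZGroup_of_nil (h.isZGroup hY) (nil_of_ab ha)

/-- an element of odd prime order normalizing a subgroup of that order generates it -/
theorem zp_eq (hq : q.Prime) (h2 : q ≠ 2) (hx : orderOf x = q) (hy : orderOf y = q)
    (hn : x * y * x⁻¹ ∈ zpowers y) : zpowers x = zpowers y := by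
  have := Fact.mk hq
  have hc := h q hq h2 _ (isPGroup_sup
    (Core.isPGroup_zpowers_of_orderOf (k := 1) (hx.trans (pow_one q).symm))
    (Core.isPGroup_zpowers_of_orderOf (k := 1) (hy.trans (pow_one q).symm))
    (Or.inl (zpowers_le.2 (mem_norm_zp hn))))
  exact eq_of_isCyclic_of_card_eq hc le_sup_left le_sup_right
    (by rw [Nat.card_zpowers, Nat.card_zpowers, hx, hy])

theorem exists_conj (hq : q.Prime) (h2 : q ≠ 2) (hx : orderOf x = q) (hy : orderOf y = q)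
    (hxA : x ∈ A) (hyA : y ∈ A) : ∃ c ∈ A, zpowers (c * x * c⁻¹) = zpowers y := by
  have := Fact.mk hq
  obtain ⟨P, hP, hyP⟩ := exists_syl_ge (zpowers_le.2 hyA)
    (Core.isPGroup_zpowers_of_orderOf (k := 1) (hy.trans (pow_one q).symm))
  obtain ⟨c, hc, e⟩ := hP.exists_conj_le (zpowers_le.2 hxA)
    (Core.isPGroup_zpowers_of_orderOf (k := 1) (hx.trans (pow_one q).symm))
  rw [conj_zpowers] at e
  exact ⟨c, hc, eq_of_isCyclic_of_card_eq (h q hq h2 P hP.isPGroup) e hyP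
    (by rw [Nat.card_zpowers, Nat.card_zpowers, orderOf_conj, hx, hy])⟩

theorem pnil (hq : q.Prime) (h2 : q ≠ 2) (hy : orderOf y = q) : PNil q 𝐂[y] := by
  have := Fact.mk hq
  obtain ⟨P⟩ : Nonempty (Sylow q G) := inferInstance
  rw [pnil_iff_hasNormalPComplement, ← cent_zpowers]
  exact Schur.hasNormalPComplement_centralizer_of_isCyclic P (h q hq h2 _ P.isPGroup')
    (Core.isPGroup_zpowers_of_orderOf (k := 1) (hy.trans (pow_one q).symm))
    (by rw [Ne, zpowers_eq_bot]; rintro rfl; exact hq.ne_one (hy.symm.trans orderOf_one))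

theorem comm_der (hY : Odd ♯Y) (hL : L ≤ 𝐍(Y)) : ⁅Y, der L⁆ ≤ der Y ∧ der L ≤ 𝐂(der Y) := by
  obtain ⟨h1, h2⟩ := Zgroup_der_cyclic (h.isZGroup hY)
  have hn : L ≤ 𝐍(der Y) := hL.trans (norm_le_norm_der Y)
  refine ⟨?_, der_le_cent h1 hn⟩
  have := der_le_cent h2 (quo_le_norm (der Y) hL)
  rw [← quo_der hn, quo_le_cent_iff ((der_le L).trans hn) (der_normal Y).norm] at this
  rwa [commutator_comm]

/-- the commutator subgroup of the normalizer acts trivially if it acts coprimely -/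
theorem cent_of_der (hY : Odd ♯Y) (hL : L ≤ 𝐍(Y)) (hg : g ∈ der L)
    (hc : (♯Y).Coprime (orderOf g)) : g ∈ 𝐂(Y) := by
  obtain ⟨h1, h2⟩ := h.comm_der hY hL
  exact zpowers_le.1 (stable_factor_cent ((zpowers_le.2 hg).trans h2) (der_normal Y)
    ((commutator_mono le_rfl (zpowers_le.2 hg)).trans h1) (by rwa [Nat.card_zpowers]))

theorem cyc_inf_der (hY : Odd ♯Y) (hL : L ≤ 𝐍(Y)) : IsCyclic ↥(Y ⊓ der L) := by
  have ho : Odd ♯(Y ⊓ der L) := GW.odd_of_le hY inf_le_left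
  obtain ⟨-, h2⟩ := h.comm_der ho (le_norm_inf hL (der_normal L).norm)
  obtain ⟨-, h3⟩ := Zgroup_der_cyclic (h.isZGroup ho)
  obtain ⟨x, hx, h4⟩ := (isCyclic_quo_iff (der_normal _).norm).1 h3
  refine h.cyc_of_ab ho (ab_of_Zc_sup_zpowers (A := der (Y ⊓ der L)) ?_ (by rwa [sup_comm]) hx)
  exact le_inf (der_le _) (le_cent_symm (inf_le_right.trans h2))

theorem norm_of_inv (hY : Odd ♯Y) (hL : Y ⊴ L) (hw : w ∈ L) (hy : y ∈ Y)
    (e : w * y * w⁻¹ = y⁻¹) : L ≤ 𝐍(zpowers y) :=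
  (le_norm_inf hL.norm (der_normal L).norm).trans (norm_le_norm_of_isCyclic
    (h.cyc_inf_der hY hL.norm)
    (zpowers_le.2 ⟨hy, mem_der_of_inv (hL.le hy) hw (GW.odd_of_mem hY hy) e⟩))

end Cyc

/-- an involution either centralizes a subgroup of odd order or inverts an element of prime order -/
theorem exists_inv (hn : t ∈ 𝐍(Y)) (t2 : t * t = 1) (h : t ∉ 𝐂(Y)) :
    ∃ y ∈ Y, (orderOf y).Prime ∧ t * y * t⁻¹ = y⁻¹ := by
  rw [mem_cent_iff_conj] at h
  push Not at h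
  obtain ⟨x, hx, e⟩ := h
  obtain ⟨y, hy, hp⟩ := exists_prime_mem (x := x⁻¹ * (t * x * t⁻¹)) (by rwa [Ne, inv_mul_eq_one, eq_comm])
  refine ⟨y, zpowers_le.2 (mul_mem (inv_mem hx) (conj_mem_of_norm hn hx)) hy, hp, inv_of_mem ?_ hy⟩
  calc _ = t * x⁻¹ * t⁻¹ * (t * t) * x * (t * t)⁻¹ := by group
    _ = _ := by rw [t2]; group

end Cfsg.Agent.ZG
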