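import Cfsg.Agent.Lib.ZG.Out

/-!
# The properties of `PSL(2, p)` and `A4` used for semidihedral Sylow subgroups
-/

set_option autoImplicit false
set_option linter.unusedSectionVars false

namespace Cfsg.Agent.ZG

open Subgroup Cfsg.Agent.OO Cfsg.Agent.Coprime GW
open scoped commutatorElement Pointwise

universe u

variable {G : Type u} [Group G] [Finite G] {K L : Subgroup G} {j r s t v y : G} {k : ℕ}

/-- the involutions of `L` -/
def invs (L : Subgroup G) : Set G := {j | j ∈ L ∧ j ≠ 1 ∧ j * j = 1}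

/-- consequences of the generalized dihedral involution centralizer -/
structure Pk (L : Subgroup G) (k : ℕ) : Prop where
  two_le : 2 ≤ k
  card : ∀ t ∈ invs L, ♯(L ⊓ 𝐂[t]) = 2 * k
  cent : ∀ t ∈ invs L, ∀ y ∈ L ⊓ 𝐂[t], y * y ≠ 1 → ♯(L ⊓ 𝐂[y]) ∣ k ∧ L ⊓ 𝐂[y] ≤ 𝐂[t]
  out : ∀ t ∈ invs L, (invs (L ⊓ 𝐂[t]) \ {t}).ncard ≤ k
  count : 2 * k ^ 2 + 1 ≤ (invs L).ncard + 3 * k
  three : 3 ∣ ♯L
  pnil : PNil 3 L → ♯L = 12 ∧ k = 2

theorem map_cent1 (t : L) : 𝐂[t].map L.subtype = L ⊓ 𝐂[(t : G)] := Subgroup.ext fun g =>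
  ⟨by rintro ⟨g, e, rfl⟩; exact ⟨g.2, mem_cent1.2 (congrArg Subtype.val (mem_cent1.1 e))⟩,
    fun e => ⟨⟨g, e.1⟩, mem_cent1.2 (Subtype.ext (mem_cent1.1 e.2)), rfl⟩⟩

theorem ncard_invs (X : Subgroup L) (A : Set L) :
    (invs (X.map L.subtype) \ Subtype.val '' A).ncard = (invs X \ A).ncard := by
  rw [← Set.ncard_image_of_injective _ Subtype.val_injective, Set.image_sdiff Subtype.val_injective]
  congr 2
  ext g
  exact ⟨by rintro ⟨⟨g, h, rfl⟩, h1, h2⟩; exact ⟨g, ⟨h, by simpa using h1, Subtype.ext h2⟩, rfl⟩, by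
    rintro ⟨g, ⟨h, h1, h2⟩, rfl⟩
    exact ⟨⟨g, h, rfl⟩, by simpa using h1, congrArg Subtype.val h2⟩⟩

theorem exists_pk {n : ℕ} (ih : IH.{u} n) (hn : ♯L < n) (hC : Cyc G) (hA : Alm G)
    (hL : ∀ M, M ⊴ L → M.relIndex L ≠ 2) (h0 : O L = ⊥) (ht : t ∈ invs L) (hv : v ∈ invs L)
    (tv : t ≠ v) (hS : Syl 2 (S4 t v) L) : ∃ k, Pk L k := by
  have e : (S4 (⟨t, ht.1⟩ : L) ⟨v, hv.1⟩).map L.subtype = S4 t v := by
    simp [S4, Subgroup.map_sup]
  obtain ⟨K, t, s, h, h1, h2, h3⟩ := quot (t := ⟨t, ht.1⟩) (v := ⟨v, hv.1⟩) ih hn (hC.subgroup L)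
    (hA.subgroup L) (fun N _ => relIndex_map_subtype N ▸ hL _ (normalIn_map_subtype N))
    (map_injective L.subtype_injective (by
      rw [O, Op', map_Opi L.subtype_injective, map_subtype_top, Subgroup.map_bot]; exact h0))
    (by simpa using ht.2.1) (Subtype.ext ht.2.2) (by simpa using hv.2.1) (Subtype.ext hv.2.2)
    (by simpa using tv) ⟨le_top, (hS.isPGroup.comap_subtype (K := L)).to_le
      (map_le_iff_le_comap.1 e.le), by
        rw [relIndex_top_right, ← relIndex_map_subtype, e]; exact hS.not_dvd⟩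
  have key : ∀ u ∈ invs L, ∃ (u' : L) (K' : Subgroup L) (s' : L), (u' : G) = u ∧ ODD.Hyp K' u' s' ∧
      ♯K' = ♯K := fun u hu =>
    have ⟨K', s', h', e⟩ := h.exists_hyp (u := ⟨u, hu.1⟩) (by simpa using hu.2.1) (Subtype.ext hu.2.2)
    ⟨_, K', s', rfl, h', e⟩
  refine ⟨♯K, Nat.le_of_dvd Nat.card_pos h.two_dvd, fun u hu => ?_, fun u hu y hy y2 => ?_,
    fun u hu => ?_, ?_, h2, fun e => h3 (pnil_iff_hasNormalPComplement.2
      (Transfer.hasNormalPComplement_top_iff.2 (pnil_iff_hasNormalPComplement.1 e)))⟩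
  · obtain ⟨u, K', s', rfl, h', e⟩ := key u hu
    rw [← map_cent1, Core.card_map_subtype, h'.card_cent, e]
  · obtain ⟨u, K', s', rfl, h', e⟩ := key u hu
    lift y to L using hy.1
    have y2 : y * y ≠ 1 := fun e => y2 (congrArg Subtype.val e)
    have hy : y ∈ K' := by_contra fun e =>
      y2 (h'.mul_self_of_not_mem (Subtype.ext (mem_cent1.1 hy.2)) e)
    have hle : 𝐂[y] ≤ K' := fun g hg => by_contra fun e => y2 <| by
      have e1 := mem_cent1_iff_conj.1 hg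
      rw [h'.inv_of_not_mem (h'.ti y hy (fun e => y2 (by simp [e])) g (e1.symm ▸ hy)) e hy] at e1
      exact eq_inv_iff_mul_eq_one.1 e1.symm
    rw [← map_cent1, Core.card_map_subtype, ← e]
    exact ⟨card_dvd hle, (map_mono (hle.trans h'.le_cent)).trans ((map_cent1 u).le.trans inf_le_right)⟩
  · obtain ⟨u, K', s', rfl, h', e⟩ := key u hu
    rw [← map_cent1, ← Set.image_singleton, ncard_invs, ← e]
    change _ ≤ (K' : Set L).ncard
    refine Set.ncard_le_ncard_of_injOn (· * s') (fun j hj => ((h'.cent j).1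
      (mem_cent1.1 hj.1.1)).resolve_left fun e => hj.2 (h'.eq_t e hj.1.2.1 hj.1.2.2))
      fun _ _ _ _ => mul_right_cancel
  · have := ncard_invs (⊤ : Subgroup L) ∅
    rw [map_subtype_top, Set.image_empty, Set.sdiff_empty, Set.sdiff_empty] at this
    rw [this, ← h.card_invs, card_elts_set] at *
    simpa [invs, ODD.Invs] using h1

/-- counting involutions by means of an outer involution -/
theorem Pk.count_le (h : Pk L k) (hn : r ∈ 𝐍(L)) (hr : r ∉ L) (r2 : r * r = 1) {u : ℕ}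
    (h1 : (invs (L ⊓ 𝐂[r])).ncard ≤ u)
    (h2 : ∀ t ∈ invs (L ⊓ 𝐂[r]), (invs (L ⊓ 𝐂[t * r])).ncard ≤ u) : k ≤ u + 1 := by
  have key := ncard_mul_le (A := invs L) (B := invs (L ⊓ 𝐂[r])) (fun j t =>
    j ∈ invs (L ⊓ 𝐂[t]) \ {t} ∪ invs (L ⊓ 𝐂[t * r])) (m := 1) (n := k + u) (fun j hj => ?_)
    fun t ht => (Set.ncard_le_ncard fun j hj => hj.2).trans ((Set.ncard_union_le _ _).trans
      (Nat.add_le_add (h.out t ⟨ht.1.1, ht.2⟩) (h2 t ht)))
  · have := h.count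
    have := h.two_le
    have := Nat.mul_le_mul_right (k + u) h1
    nlinarith
  have self : r * j = j * r → 1 ≤ {t ∈ invs (L ⊓ 𝐂[r]) |
      j ∈ invs (L ⊓ 𝐂[t]) \ {t} ∪ invs (L ⊓ 𝐂[t * r])}.ncard := fun e =>
    (Set.ncard_pos).2 ⟨j, ⟨⟨hj.1, mem_cent1.2 e.symm⟩, hj.2⟩,
      Or.inr ⟨⟨hj.1, mem_cent1.2 (by rw [mul_assoc, e])⟩, hj.2⟩⟩
  have sq : zpowers (r * j * (r * j)) ≤ L := zpowers_le.2 (by
    rw [← mul_assoc, ← inv_eq r2, inv_eq r2]
    exact mul_mem (by simpa only [inv_eq r2] using conj_mem_of_norm hn hj.1) hj.1)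
  obtain ⟨ζ, hζ, z1, z2, c1, c2⟩ := dihedral r2 hj.2.2 fun ho => hr ((mul_mem_cancel_right hj.1).1
    (sq (pow_two (r * j) ▸ mem_zp_pow (Nat.coprime_two_left.2 ho))))
  rcases zp_cases hζ with e | e
  · by_cases e1 : j = ζ
    · exact self (e1 ▸ c1)
    · exact (Set.ncard_pos).2 ⟨ζ, ⟨⟨sq e, mem_cent1.2 c1.symm⟩, z1, z2⟩,
        Or.inl ⟨⟨⟨hj.1, mem_cent1.2 c2⟩, hj.2⟩, e1⟩⟩
  by_cases e1 : ζ * r = 1
  · exact self (by rw [← inv_eq r2, ← eq_inv_of_mul_eq_one_left e1, c2])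
  replace e := mul_mem hj.1 (sq e)
  rw [mul_inv_rev, inv_eq r2, mul_assoc, mul_inv_cancel_left, c1] at e
  exact (Set.ncard_pos).2 ⟨ζ * r, ⟨⟨e, mem_cent1.2 (by rw [← mul_assoc, c1])⟩, e1, by
      rw [mul_assoc, ← mul_assoc r, c1, mul_assoc, r2, mul_one, z2]⟩,
    Or.inr ⟨⟨hj.1, mem_cent1.2 (by rw [mul_assoc ζ, r2, mul_one, c2])⟩, hj.2⟩⟩

end Cfsg.Agent.ZG
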