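import Cfsg.Agent.Lib.ZG.Pk

/-!
# Semidihedral Sylow 2-subgroups: the involution centralizer
-/

set_option autoImplicit false
set_option linter.unusedSectionVars false

namespace Cfsg.Agent.ZG

open Subgroup Cfsg.Agent.OO Cfsg.Agent.Coprime GW
open scoped commutatorElement Pointwise

universe u

variable {G : Type u} [Group G] [Finite G] {M X : Subgroup G} {a b c g j r s t v x y z : G}

theorem mem_S4_iff' (hn : c * b * c⁻¹ ∈ zpowers b) (c2 : c * c ∈ zpowers b) :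
    y ∈ S4 b c ↔ y ∈ zpowers b ∨ y * c⁻¹ ∈ zpowers b := by
  rw [S4, mem_sup_norm_left (zpowers_le.2 (mem_norm_zp hn))]
  refine ⟨?_, fun h => h.elim (fun h => ⟨y, h, 1, one_mem _, mul_one y⟩)
    fun h => ⟨_, h, c, mem_zpowers c, inv_mul_cancel_right _ _⟩⟩
  rintro ⟨y, hy, d, h, rfl⟩
  refine (zp_cases h).imp (fun e => mul_mem hy (zpowers_le.2 c2 e)) fun e => ?_
  rw [mul_assoc, zp_comm h (inv_mem (mem_zpowers c))]
  exact mul_mem hy (zpowers_le.2 c2 e)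

theorem two_of_sq (h : t * t = z) (z2 : z * z = 1) : IsPGroup 2 (zpowers t) :=
  Core.isPGroup_zpowers_of_pow_eq_one (k := 2) (by
    rw [show t ^ 2 ^ 2 = t * t * (t * t) by norm_num [pow_succ, mul_assoc], h, z2])

omit [Finite G] in
theorem cent_of_sq (h : t * t = z) : t ∈ 𝐂[z] := mem_cent1.2 (by rw [← h, mul_assoc])

namespace Tw

variable (h : Tw a s z) (hi : s * a * s⁻¹ = a⁻¹ * z)
include h hi

theorem ne4 : a * a * (a * a) ≠ 1 := fun e => by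
  have key : a * a ≠ 1 := fun e => by
    by_cases a1 : a = 1
    · exact h.z1 (by simpa [a1] using h.z_mem)
    · obtain rfl := h.eq_z (mem_zpowers a) a1 e
      exact h.z1 (by simpa using hi)
  rw [← h.eq_z (mul_mem (mem_zpowers a) (mem_zpowers a)) key e, inv_mul_cancel_left,
    mul_inv_eq_iff_eq_mul] at hi
  rcases h.cs a (mem_zpowers a) hi with e | e
  · exact key (by simp [e])
  · exact key (by rw [e, h.z2])

theorem z_mem4 : z ∈ zpowers (a * a * (a * a)) :=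
  h.z_mem_zp (zp_sq_le a (mul_mem (mem_zpowers _) (mem_zpowers _))) (h.ne4 hi)

theorem z_mem2 : z ∈ zpowers (a * a) := zp_sq_le _ (h.z_mem4 hi)

omit hi in
theorem az : a * z = z * a := zp_comm (mem_zpowers a) h.z_mem

theorem inv2 (hb : b ∈ zpowers (a * a)) : s * b * s⁻¹ = b⁻¹ := inv_of_mem (by
  rw [← conj_mul, hi, mul_assoc, ← mul_assoc z, ← (Commute.inv_left h.az).eq, mul_assoc, h.z2]
  group) hb

theorem bs_sq (hb : b ∈ zpowers (a * a)) : b * s * (b * s) = 1 := by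
  rw [show b * s * (b * s) = b * (s * b * s⁻¹) * (s * s) by group, h.inv2 hi hb, h.s2]
  group

theorem abs_sq (hb : b ∈ zpowers (a * a)) : a * b * s * (a * b * s) = z := by
  rw [show a * b * s * (a * b * s) = a * b * (s * a * s⁻¹) * (s * b * s⁻¹) * (s * s) by group,
    h.inv2 hi hb, h.s2, hi, zp_comm (mem_zpowers a) (zp_sq_le a hb), mul_assoc b,
    mul_inv_cancel_left, zp_comm (zp_sq_le a hb) h.z_mem]
  group

theorem sq_mem_zp : a * a ∈ zpowers (a * a * z) := by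
  refine (mul_mem_cancel_right (zpowers_le.2 ?_ (h.z_mem4 hi))).1 (mem_zpowers _)
  convert mul_mem (mem_zpowers (a * a * z)) (mem_zpowers _) using 1
  rw [(Commute.mul_right h.az.symm h.az.symm).mul_mul_mul_comm, h.z2, mul_one]

theorem conj_bs (hb : b ∈ zpowers (a * a)) : ∃ c ∈ zpowers a, c * s * c⁻¹ = b * s := by
  obtain ⟨n, rfl⟩ := zpowers_le.2 (h.sq_mem_zp hi) hb
  refine ⟨a ^ n, zpow_mem_zpowers a n, ?_⟩
  have e : s * a⁻¹ * s⁻¹ = a * z := by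
    rw [← conj_inv, hi, mul_inv_rev, inv_inv, inv_eq h.z2, h.az]
  simp only [mul_assoc a a]
  rw [(Commute.mul_right (Commute.refl a) h.az).mul_zpow, ← e, conj_zpow]
  group

omit hi in
theorem cases (hy : y ∈ S4 a s) : y ∈ zpowers a ∨ ∃ b ∈ zpowers (a * a), y = b * s ∨ y = a * b * s :=
  (h.mem.1 hy).imp_right fun e => (zp_cases e).elim
    (fun e => ⟨_, e, Or.inl (by rw [mul_assoc, h.s2, mul_one])⟩)
    fun e => ⟨_, e, Or.inr (by rw [mul_inv_cancel_left, mul_assoc, h.s2, mul_one])⟩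

theorem memQ : y ∈ S4 (a * a) (a * s) ↔ y ∈ zpowers (a * a) ∨ ∃ b ∈ zpowers (a * a), y = a * b * s := by
  rw [mem_S4_iff' (by
      rw [show a * s * (a * a) * (a * s)⁻¹ = a * (s * (a * a) * s⁻¹) * a⁻¹ by group,
        h.inv2 hi (mem_zpowers _), show a * (a * a)⁻¹ * a⁻¹ = (a * a)⁻¹ by group]
      exact inv_mem (mem_zpowers _))
    (by have := h.abs_sq hi (one_mem _); rw [mul_one] at this; exact this ▸ h.z_mem2 hi)]
  refine or_congr_right ⟨fun e => ⟨_, e, ?_⟩, ?_⟩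
  · rw [zp_comm (mem_zpowers a) (zp_sq_le a e)]
    group
  · rintro ⟨b, hb, rfl⟩
    rw [zp_comm (mem_zpowers a) (zp_sq_le a hb)]
    simpa [mul_assoc] using hb

theorem sq_mem_of (hM : M ⊴ 𝐂[z]) (hb : b ∈ M) (h1 : b ∈ S4 a s) (h2 : b ∉ zpowers a) :
    a * a ∈ M := by
  have hc := (h.mem.1 h1).resolve_left h2
  have e := mul_mem (hM.conj_mem (h.le_cent (t_mem_S4 a s)) hb) (inv_mem hb)
  rw [show a * b * a⁻¹ * b⁻¹ = a * (b * s⁻¹) * (s * a * s⁻¹)⁻¹ * (b * s⁻¹)⁻¹ by group, hi,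
    inv_eq h.s2, mul_assoc a, ← zp_comm (inv_mem (mul_mem (inv_mem (mem_zpowers a)) h.z_mem)) hc,
    mul_assoc, mul_inv_cancel_right, mul_inv_rev, inv_inv, inv_eq h.z2, ← h.az, ← mul_assoc] at e
  exact zpowers_le.2 e (h.sq_mem_zp hi)

theorem sylH : Syl 2 (S4 a s) 𝐂[z] := (h.syl.hall.mono h.le_cent le_top).syl

/-- the noncentral involutions of `C(z)` are conjugate -/
theorem conj_s (hj : j ∈ 𝐂[z]) (j1 : j ≠ 1) (j2 : j * j = 1) (jz : j ≠ z) :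
    ∃ g ∈ 𝐂[z], g * s * g⁻¹ = j := by
  obtain ⟨g, hg, e⟩ := (h.sylH hi).exists_conj_le (zpowers_le.2 hj) (two_elt j2)
  rcases h.cases (e (conj_mem_conj (mem_zpowers j))) with e | ⟨b, hb, e | e⟩
  · have := h.eq_z e (conj_ne_one.2 j1) (conj_sq j2 g)
    rw [mul_inv_eq_iff_eq_mul, ← mem_cent1.1 hg] at this
    exact absurd (mul_left_cancel this) jz
  · obtain ⟨c, hc, e'⟩ := h.conj_bs hi hb
    refine ⟨g⁻¹ * c, mul_mem (inv_mem hg) (h.le_cent (Tw.le hc)), ?_⟩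
    rw [mul_inv_rev, mul_assoc g⁻¹, mul_assoc g⁻¹, ← mul_assoc (c * s), e', ← e]
    group
  · exact absurd ((h.abs_sq hi hb).symm.trans (e ▸ conj_sq j2 g)) h.z1

end Tw

/-- semidihedral Sylow 2-subgroups -/
structure Sd (a s z x : G) : Prop extends Tw a s z where
  alm : Alm G
  cyc : Cyc G
  nb : NB G
  one : OneCl G
  inv : s * a * s⁻¹ = a⁻¹ * z
  x_mem : x ∈ zpowers (a * a)
  conj : IsConj x (a * s)

theorem exists_sd (h : Tw a s z) (hi : s * a * s⁻¹ = a⁻¹ * z) (hA : Alm G) (hC : Cyc G) (hN : NB G)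
    (h1 : OneCl G) (hp : der (⊤ : Subgroup G) = ⊤) : ∃ x, Sd a s z x := by
  have hD : ∀ {y}, y ∈ S4 (a * a) s ↔ y ∈ zpowers (a * a) ∨ y * s ∈ zpowers (a * a) :=
    mem_S4_iff (h.inv2 hi (mem_zpowers _) ▸ inv_mem (mem_zpowers _)) h.s2
  have o2 : ∀ y ∈ S4 (a * a) s, orderOf y ∣ orderOf (a * a) := fun y hy => by
    rcases hD.1 hy with e | e
    · exact orderOf_dvd_of_mem_zpowers e
    · have := h.bs_sq hi e
      rw [mul_assoc y, h.s2, mul_one] at this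
      exact (orderOf_dvd_of_pow_eq_one (by rwa [sq])).trans
        (orderOf_eq_two h.z2 h.z1 ▸ orderOf_dvd_of_mem_zpowers (h.z_mem2 hi))
  have a2 : a ∉ zpowers (a * a) := fun e => by
    rw [← sq, mem_zpowers_pow_iff] at e
    exact not_odd h.two (mem_zpowers a) (fun e => h.ne4 hi (by simp [e])) (Nat.coprime_two_left.1 e)
  have key : ∀ y ∈ S4 (a * a) s, ∀ w ∈ S4 a s, w ∉ S4 (a * a) s → IsConj y w → ∃ x, Sd a s z x := by
    intro y hy w hw hw' e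
    rcases h.cases hw with e1 | ⟨b, hb, rfl | rfl⟩
    · have e2 := (zp_cases e1).resolve_left fun e => hw' (hD.2 (Or.inl e))
      obtain ⟨g, hg⟩ := isConj_iff.1 e
      have e3 := orderOf_dvd_iff_pow_eq_one.1 (orderOf_conj g y ▸ o2 y hy)
      rw [hg, ← mul_inv_cancel_left a w, (Cls.commute_of_mem_zpowers (mem_zpowers a)
        (zp_sq_le a e2)).mul_pow, orderOf_dvd_iff_pow_eq_one.1 (orderOf_dvd_of_mem_zpowers e2),
        mul_one] at e3
      exact absurd (zp_eq_of_orderOf (mem_zpowers a) (zp_sq_le a (mem_zpowers _)) (Nat.dvd_antisymm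
        (orderOf_dvd_of_pow_eq_one e3) (sq a ▸ orderOf_pow_dvd 2)) ▸ mem_zpowers a) a2
    · exact absurd (mul_mem (le_sup_left (a := zpowers _) hb) (s_mem_S4 _ _)) hw'
    obtain ⟨c, hc, e1⟩ := h.conj_bs hi hb
    refine ⟨y, h, hA, hC, hN, h1, hi, (hD.1 hy).resolve_right fun e2 => h.z1 ?_, e.trans ?_⟩
    · obtain ⟨g, hg⟩ := isConj_iff.1 e
      have := h.bs_sq hi e2
      rw [mul_assoc y, h.s2, mul_one] at this
      rw [← h.abs_sq hi hb, ← hg, conj_sq this]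
    · refine (isConj_iff.2 ⟨c, ?_⟩).symm
      rw [mul_assoc a, ← e1, ← mul_assoc c, zp_comm hc (mem_zpowers a)]
      group
  have out : ∀ y ∈ S4 a s, y ∉ S4 (a * a) s → a⁻¹ * y ∈ S4 (a * a) s := fun y hy e => by
    rcases h.cases hy with e1 | ⟨b, hb, rfl | rfl⟩
    · exact hD.2 (Or.inl ((zp_cases e1).resolve_left fun e1 => e (hD.2 (Or.inl e1))))
    · exact absurd (mul_mem (le_sup_left (a := zpowers _) hb) (s_mem_S4 _ _)) e
    · rw [mul_assoc a, inv_mul_cancel_left]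
      exact mul_mem (le_sup_left (a := zpowers _) hb) (s_mem_S4 _ _)
  by_contra hx
  have := focal_subgroup_gen h.syl
  rw [hp, inf_top_eq] at this
  have : S4 a s ≤ S4 (a * a) s := this ▸ (closure_le _).2 (by
    rintro _ ⟨y, hy, g, -, hg, rfl⟩
    have c := isConj_iff.2 ⟨g, (rfl : g * y * g⁻¹ = _)⟩
    by_cases e : y ∈ S4 (a * a) s
    · exact mul_mem (inv_mem e) (by_contra fun e' => hx (key y e _ hg e' c))
    have := mul_mem (inv_mem (out y hy e)) (out _ hg fun e' => hx (key _ e' y hy e c.symm))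
    rwa [mul_inv_rev, inv_inv, mul_assoc, mul_inv_cancel_left] at this)
  exact (hD.1 (this (t_mem_S4 a s))).elim a2 fun e =>
    h.sa ((mul_mem_cancel_left (mem_zpowers a)).1 (zp_sq_le a e))

theorem mul_mem_of_two {K H : Subgroup G} (h : K.relIndex H = 2) (hg : g ∈ H) (e : g ∉ K)
    (hc : c ∈ H) (e' : c ∉ K) : g * c ∈ K :=
  (mul_mem_iff_of_index_two (H := K.subgroupOf H) h (a := ⟨g, hg⟩) (b := ⟨c, hc⟩)).2
    (iff_of_false e e')

/-- the subgroup of index 2 in the involution centralizer -/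
abbrev H0 (z : G) : Subgroup G := Oup 2 𝐂[z]

theorem mem_H0 (hy : y ∈ 𝐂[z]) (ho : Odd (orderOf y)) : y ∈ H0 z :=
  mem_Oup hy (Nat.coprime_two_right.2 ho)

theorem cent_O_conj (hg : g ∈ 𝐂[z]) (hy : y ∈ 𝐂(O 𝐂[z])) : g * y * g⁻¹ ∈ 𝐂(O 𝐂[z]) :=
  conj_mem_of_norm (norm_le_norm_cent _ ((Opi_normal _ _).norm hg)) hy

namespace Sd

variable (h : Sd a s z x)
include h

theorem ne : a * a ≠ 1 := fun e => h.ne4 h.inv (by rw [e, mul_one])

theorem as_sq : a * s * (a * s) = z := by simpa using h.abs_sq h.inv (one_mem _)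

theorem x_a : x ∈ zpowers a := zp_sq_le a h.x_mem

theorem exists_g : x * x = z ∧ ∃ g ∈ 𝐂[z], g * x * g⁻¹ = a * s := by
  obtain ⟨g, hg⟩ := isConj_iff.1 h.conj
  have e : g * (x * x) * g⁻¹ = z := by rw [← conj_mul, hg, h.as_sq]
  have e1 : x * x = z := h.eq_z (mul_mem h.x_a h.x_a) (fun e' => h.z1 (by simpa [e'] using e.symm))
    (by simpa [← e] using h.z2)
  exact ⟨e1, g, mem_cent1_iff_conj.2 (e1 ▸ e1 ▸ e), hg⟩

theorem x_sq : x * x = z := h.exists_g.1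

theorem sx : s * x * s⁻¹ = x⁻¹ := h.inv2 h.inv h.x_mem

theorem aH : a ∈ 𝐂[z] := h.le_cent (t_mem_S4 a s)

theorem sH : s ∈ 𝐂[z] := h.le_cent (s_mem_S4 a s)

theorem sz_ne : s ≠ z := fun e => h.sa (e ▸ h.z_mem)

/-- all elements of order four are conjugate -/
theorem conj_x (ht : t * t = z) : ∃ g ∈ 𝐂[z], g * x * g⁻¹ = t := by
  obtain ⟨g, hg, e⟩ := (h.sylH h.inv).exists_conj_le (zpowers_le.2 (cent_of_sq ht))
    (two_of_sq ht h.z2)
  have e2 : g * t * g⁻¹ * (g * t * g⁻¹) = z := by rw [conj_mul, ht, mem_cent1_iff_conj.1 hg]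
  suffices ∃ k ∈ 𝐂[z], k * x * k⁻¹ = g * t * g⁻¹ by
    obtain ⟨k, hk, e⟩ := this
    refine ⟨g⁻¹ * k, mul_mem (inv_mem hg) hk, ?_⟩
    rw [mul_inv_rev, mul_assoc g⁻¹, mul_assoc g⁻¹, ← mul_assoc (k * x), e]
    group
  replace e := e (conj_mem_conj (mem_zpowers t))
  generalize g * t * g⁻¹ = t at e e2
  rcases h.cases e with e | ⟨b, hb, rfl | rfl⟩
  · by_cases e1 : t * x = 1
    · exact ⟨s, h.sH, h.sx.trans (eq_inv_of_mul_eq_one_left e1).symm⟩
    · refine ⟨1, one_mem _, mul_right_cancel (b := x) ?_⟩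
      rw [h.eq_z (mul_mem e h.x_a) e1 (by
        rw [(Cls.commute_of_mem_zpowers h.x_a e).mul_mul_mul_comm, e2, h.x_sq, h.z2])]
      simpa using h.x_sq
  · exact absurd (e2.symm.trans (h.bs_sq h.inv hb)) h.z1
  · obtain ⟨c, hc, e1⟩ := h.conj_bs h.inv hb
    obtain ⟨-, k, hk, e3⟩ := h.exists_g
    refine ⟨c * k, mul_mem (h.le_cent (Tw.le hc)) hk, ?_⟩
    rw [mul_inv_rev, mul_assoc c, mul_assoc c, ← mul_assoc (k * x), e3, mul_assoc a b, ← e1,
      ← mul_assoc c, ← mul_assoc c, zp_comm hc (mem_zpowers a)]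
    group

theorem Q_le : S4 (a * a) (a * s) ≤ der 𝐂[z] ⊓ H0 z := by
  obtain ⟨-, g, hg, e⟩ := h.exists_g
  obtain ⟨k, hk, c, hc, rfl⟩ := (Oup_isProd (h.sylH h.inv)).mem_iff.1 hg
  have h1 : c * x * c⁻¹ ∈ zpowers (a * a) := conj_mem_of_norm (norm_le_norm_of_isCyclic inferInstance
    (zp_sq_le a) (S4_le.2 ⟨le_normalizer (mem_zpowers a), mem_norm_zp h.norm⟩ hc)) h.x_mem
  have h2 := h.le_cent (Tw.le (zp_sq_le a h1))
  have hM := (der_normal 𝐂[z]).inf (Oup_normal 2 𝐂[z])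
  have h3 : a * s * (c * x * c⁻¹)⁻¹ ∈ der 𝐂[z] ⊓ H0 z := by
    rw [← e, show k * c * x * (k * c)⁻¹ * (c * x * c⁻¹)⁻¹ = ⁅k, c * x * c⁻¹⁆ by
      rw [commutatorElement_def]; group]
    refine ⟨commutator_mem_commutator (Oup_le _ _ hk) h2, ?_⟩
    rw [commutatorElement_def, mul_assoc, mul_assoc, ← mul_assoc (c * x * c⁻¹)]
    exact mul_mem hk ((Oup_normal _ _).conj_mem h2 (inv_mem hk))
  have h4 := h.sq_mem_of h.inv hM h3 (mul_mem (mul_mem (t_mem_S4 a s) (s_mem_S4 a s))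
    (inv_mem (Tw.le (zp_sq_le a h1)))) (by
      rw [mul_mem_cancel_right (inv_mem (zp_sq_le a h1)), mul_mem_cancel_left (mem_zpowers a)]
      exact h.sa)
  exact S4_le.2 ⟨h4, (mul_mem_cancel_right (inv_mem (zpowers_le.2 h4 h1))).1 h3⟩

theorem x_Q : x ∈ S4 (a * a) (a * s) := le_sup_left (a := zpowers _) h.x_mem

theorem mem_der (ht : t * t = z) : t ∈ der 𝐂[z] ⊓ H0 z := by
  obtain ⟨g, hg, rfl⟩ := h.conj_x ht
  exact ((der_normal 𝐂[z]).inf (Oup_normal 2 𝐂[z])).conj_mem hg (h.Q_le h.x_Q)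

theorem cent_O (ht : t * t = z) : t ∈ 𝐂(O 𝐂[z]) :=
  h.cyc.cent_of_der (odd_O _) (Opi_normal _ _).norm (h.mem_der ht).1 (by
    rw [← Nat.card_zpowers]
    exact (Core.coprime_card_of_isPGroup (two_of_sq ht h.z2)
      (Nat.coprime_two_right.2 (odd_O _))).symm)

theorem O_inf : O 𝐂[z] ⊓ 𝐂[s] = ⊥ := eq_bot_iff.2 fun y hy => by
  have e := mem_cent_iff.1 (h.cent_O h.as_sq) y hy.1
  rw [mul_assoc, ← mem_cent1.1 hy.2, ← mul_assoc, ← mul_assoc, mul_left_inj] at e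
  exact h.eq_one_of_odd h.alm h.nb h.ne (odd_of_mem (odd_O _) hy.1) e (mem_cent1.1 hy.2)

theorem inv_O (hj : j ∈ 𝐂[z]) (j1 : j ≠ 1) (j2 : j * j = 1) (jz : j ≠ z) (hy : y ∈ O 𝐂[z]) :
    j * y * j⁻¹ = y⁻¹ := by
  obtain ⟨g, hg, rfl⟩ := h.conj_s h.inv hj j1 j2 jz
  have := conj_inv_conj' (conj_eq_inv h.s2 ((Opi_normal _ _).norm h.sH) h.O_inf
    ((Opi_normal _ _).conj_mem (inv_mem hg) hy)) g
  simpa [mul_assoc] using this

theorem eq_z_of_cent (hj : j ∈ 𝐂[z]) (j1 : j ≠ 1) (j2 : j * j = 1) (hy : y ∈ O 𝐂[z]) (y1 : y ≠ 1)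
    (hc : j ∈ 𝐂[y]) : j = z := by_contra fun e =>
  not_cent_of_inv (odd_of_mem (odd_O _) hy) y1 (h.inv_O hj j1 j2 e hy) hc

theorem cyc_O : IsCyclic (O 𝐂[z]) :=
  h.cyc.cyc_of_ab (odd_O _) (ab_of_inf_eq_bot h.s2 ((Opi_normal _ _).norm h.sH) h.O_inf)

theorem eq_z_of_Q (hj : j ∈ S4 (a * a) (a * s)) (j1 : j ≠ 1) (j2 : j * j = 1) : j = z := by
  rcases (h.memQ h.inv).1 hj with e | ⟨b, hb, rfl⟩
  · exact h.eq_z (zp_sq_le a e) j1 j2
  · exact absurd ((h.abs_sq h.inv hb).symm.trans j2) h.z1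

theorem Q_le_S : S4 (a * a) (a * s) ≤ S4 a s :=
  S4_le.2 ⟨mul_mem (t_mem_S4 a s) (t_mem_S4 a s), mul_mem (t_mem_S4 a s) (s_mem_S4 a s)⟩

theorem mem_Q (hy : y ∈ S4 a s) : y * s ∈ S4 (a * a) (a * s) ∨ y ∈ S4 (a * a) (a * s) := by
  simp only [h.memQ h.inv]
  rcases h.cases hy with e | ⟨b, hb, rfl | rfl⟩
  · exact (zp_cases e).symm.imp (fun e => Or.inr ⟨_, e, by group⟩) Or.inl
  · exact Or.inl (Or.inl (by rwa [mul_assoc, h.s2, mul_one]))
  · exact Or.inr (Or.inr ⟨b, hb, rfl⟩)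

theorem s_not : s ∉ H0 z := fun hs => by
  have hQ := h.Q_le_S.trans h.le_cent
  obtain ⟨N, hN, h2, h3⟩ := Transfer.thompson_transfer (M := (S4 (a * a) (a * s)).subgroupOf 𝐂[z])
    (t := ⟨s, h.sH⟩) (by
      change Odd (relIndex _ _ / 2)
      rw [← relIndex_mul_relIndex _ _ _ h.Q_le_S h.le_cent,
        relIndex_eq_two_iff_exists_notMem_and.2 ⟨s, s_mem_S4 a s,
          fun e => h.sz_ne (h.eq_z_of_Q e h.s1 h.s2), fun _ => h.mem_Q⟩,
        Nat.mul_div_cancel_left _ two_pos]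
      exact Nat.odd_iff.2 (Nat.two_dvd_ne_zero.1 (h.sylH h.inv).not_dvd))
    (Subtype.ext (by simpa [sq] using h.s2)) fun g e => h.sz_ne (by
      have := h.eq_z_of_Q (j := (g : G)⁻¹ * s * g) e (conj_ne_one'.2 h.s1) (by simpa using conj_sq h.s2 (g : G)⁻¹)
      rw [mul_assoc, inv_mul_eq_iff_eq_mul, mem_cent1.1 g.2] at this
      exact mul_right_cancel this)
  have := Oup_le_of_normal (p := 2) (normalIn_map_subtype N).norm (by
    rw [relIndex_map_subtype, h2]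
    exact (isPiNum_prime Nat.prime_two).2 rfl) hs
  exact h3 ((mem_map_iff_mem (subtype_injective _)).1 this)

theorem index_H0 : (H0 z).relIndex 𝐂[z] = 2 :=
  relIndex_eq_two_iff_exists_notMem_and.2 ⟨s, h.sH, h.s_not, fun g hg => by
    obtain ⟨k, hk, c, hc, rfl⟩ := (Oup_isProd (h.sylH h.inv)).mem_iff.1 hg
    rw [mul_assoc]
    exact (h.mem_Q hc).imp (fun e => mul_mem hk (h.Q_le e).2) fun e => mul_mem hk (h.Q_le e).2⟩

theorem sylQ : Syl 2 (S4 (a * a) (a * s)) (H0 z) := by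
  convert (h.sylH h.inv).inf_normal (Oup_normal 2 _)
  exact le_antisymm (le_inf h.Q_le_S (h.Q_le.trans inf_le_right)) fun y hy =>
    (h.mem_Q hy.1).resolve_left fun e => h.s_not ((mul_mem_cancel_left (mem_inf.1 hy).2).1 (h.Q_le e).2)

theorem not_mem_H0 (hj : j ∈ 𝐂[z]) (j1 : j ≠ 1) (j2 : j * j = 1) (jz : j ≠ z) : j ∉ H0 z := fun e => by
  obtain ⟨g, hg, rfl⟩ := h.conj_s h.inv hj j1 j2 jz
  exact h.s_not ((mem_norm_iff.1 ((Oup_normal _ _).norm hg) s).2 e)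

theorem mem_H0' (ht : t * t = z) : t ∈ H0 z := (h.mem_der ht).2

theorem z_H0 : z ∈ H0 z := by
  simpa only [h.x_sq] using mul_mem (h.mem_H0' h.x_sq) (h.mem_H0' h.x_sq)

theorem pair_conj (p : Pair X t v) : ∃ g, g * z * g⁻¹ = t ∧ g * s * g⁻¹ = v := by
  obtain ⟨g, rfl⟩ := isConj_iff.1 (h.one z t h.z1 h.z2 p.t_ne p.t_sq)
  have q := p.conj g⁻¹
  rw [show g⁻¹ * (g * z * g⁻¹) * g⁻¹⁻¹ = z by group] at q
  obtain ⟨k, hk, e⟩ := h.conj_s h.inv (mem_cent1.2 q.comm.symm) q.s_ne q.s_sq q.ne.symm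
  refine ⟨g * k, ?_, ?_⟩ <;> rw [mul_inv_rev, mul_assoc g, mul_assoc g, ← mul_assoc (k * _)]
  · rw [mem_cent1_iff_conj.1 hk, mul_assoc]
  · rw [e]
    group

end Sd

end Cfsg.Agent.ZG
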