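import Cfsg.Agent.Lib.ZG.SD1

/-!
# Semidihedral Sylow 2-subgroups: the section `PSL(2, p)` or `A4`
-/

set_option autoImplicit false
set_option linter.unusedSectionVars false

namespace Cfsg.Agent.ZG

open Subgroup Cfsg.Agent.OO Cfsg.Agent.Coprime GW
open scoped commutatorElement Pointwise

universe u

variable {G : Type u} [Group G] [Finite G] {M X : Subgroup G} {a b c g j m r s t v x y z : G} {k : ℕ}

theorem two_mul_card_le {A B : Subgroup G} (h : A < B) : 2 * ♯A ≤ ♯B := by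
  rw [← card_mul_relIndex h.le, mul_comm]
  have := relIndex_pos A B
  have : A.relIndex B ≠ 1 := fun e => h.not_ge (relIndex_eq_one.1 e)
  exact Nat.mul_le_mul_left _ (by omega)

/-- the kernel of the section -/
abbrev Y (z : G) : Subgroup G := O 𝐂[z] ⊔ zpowers z

/-- the section -/
abbrev L (z : G) : Subgroup (Coset (Y z)) := H0 z ⁒ Y z

theorem zp_normal (z : G) : zpowers z ⊴ 𝐂[z] :=
  ⟨zpowers_le.2 (mem_cent1_self z), cent_zpowers z ▸ cent_le_norm _⟩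

theorem Y_normal (z : G) : Y z ⊴ 𝐂[z] := (Opi_normal _ _).sup (zp_normal z)

theorem nY (hg : g ∈ 𝐂[z]) : g ∈ 𝐍(Y z) := (Y_normal z).norm hg

theorem nY0 (hg : g ∈ H0 z) : g ∈ 𝐍(Y z) := nY (Oup_le _ _ hg)

theorem mem_Y (z2 : z * z = 1) : m ∈ Y z ↔ m ∈ O 𝐂[z] ∨ m * z ∈ O 𝐂[z] := by
  rw [mem_sup_norm_left ((zp_normal z).le.trans (Opi_normal _ _).norm)]
  refine ⟨?_, fun h => h.elim (fun h => ⟨m, h, 1, one_mem _, mul_one m⟩)
    fun h => ⟨_, h, z, mem_zpowers z, by rw [mul_assoc, z2, mul_one]⟩⟩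
  rintro ⟨o, ho, _, h, rfl⟩
  rcases (mem_zp z2).1 h with rfl | rfl
  · exact Or.inl (by rwa [mul_one])
  · exact Or.inr (by rwa [mul_assoc, z2, mul_one])

theorem sq_mem_O (z2 : z * z = 1) (hm : m ∈ Y z) : m * m ∈ O 𝐂[z] := by
  rcases (mem_Y z2).1 hm with e | e
  · exact mul_mem e e
  · have := mul_mem e e
    rwa [(Commute.symm (mem_cent1.1 ((Y_normal z).le hm))).mul_mul_mul_comm, z2, mul_one] at this

theorem two_Y (z2 : z * z = 1) (hm : m ∈ Y z) (m2 : m * m = 1) : m = 1 ∨ m = z := by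
  refine ((mem_Y z2).1 hm).imp (fun e => eq_one_of_odd_of_sq (odd_of_mem (odd_O _) e) m2) fun e => ?_
  rw [← inv_eq z2, ← mul_eq_one_iff_eq_inv]
  refine eq_one_of_odd_of_sq (odd_of_mem (odd_O _) e) ?_
  rw [(Commute.symm (mem_cent1.1 ((Y_normal z).le hm))).mul_mul_mul_comm, z2, m2, mul_one]

theorem card_Y (z1 : z ≠ 1) (z2 : z * z = 1) : ♯(Y z) = ♯(O 𝐂[z]) * 2 := by
  rw [card_sup_of_inf_eq_bot (Or.inr ((zp_normal z).le.trans (Opi_normal _ _).norm))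
    (disjoint_of_coprime_natCard (coprime_zp (odd_O _) z2)).eq_bot, Nat.card_zpowers, orderOf_eq_two z2 z1]

namespace Sd

variable (h : Sd a s z x)
include h

theorem Y_le : Y z ≤ H0 z := sup_le (Op'_le_Oup _ _) (zpowers_le.2 h.z_H0)

theorem Y_normal0 : Y z ⊴ H0 z := (Y_normal z).mono h.Y_le (Oup_le _ _)

theorem cent_Y (ht : t * t = z) (hm : m ∈ Y z) : m * t = t * m :=
  mem_cent1.1 ((sup_le (le_cent1_iff.2 (h.cent_O ht))
    (zpowers_le.2 (mem_cent1_comm.1 (cent_of_sq ht))) : Y z ≤ 𝐂[t]) hm)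

theorem pre (ht : t * t = z) (hy : y ∈ 𝐂[z]) (hc : coset (Y z) y ∈ 𝐂[coset (Y z) t]) :
    y * t * y⁻¹ = t ∨ y * t * y⁻¹ = t⁻¹ := by
  have hm := (coset_commute_iff (nY hy) (nY (cent_of_sq ht))).1 (mem_cent1.1 hc)
  have e : y * t * y⁻¹ = ⁅y, t⁆ * t := by rw [commutatorElement_def]; group
  have e2 : ⁅y, t⁆ * ⁅y, t⁆ * z = 1 * z := by
    rw [← ht, ← (Commute.symm (h.cent_Y ht hm)).mul_mul_mul_comm, ← e, conj_mul, ht,
      mem_cent1_iff_conj.1 hy, one_mul]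
  rw [e]
  refine (two_Y h.z2 hm (mul_right_cancel e2)).imp (fun e => by rw [e, one_mul]) fun e => ?_
  rw [e, eq_inv_iff_mul_eq_one, mul_assoc, ht, h.z2]

theorem coset_mem (ht : t * t = z) : coset (Y z) t ∈ invs (L z) := by
  have hn := nY (cent_of_sq ht)
  refine ⟨coset_mem_quo _ (h.mem_H0' ht), fun e => ?_, ?_⟩
  · have := sq_mem_O h.z2 ((coset_eq_one_iff hn).1 e)
    rw [ht] at this
    exact h.z1 (eq_one_of_odd_of_sq (odd_of_mem (odd_O _) this) h.z2)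
  · rw [← coset_mul hn hn, ht, coset_eq_one (mem_sup_right (mem_zpowers z))]

theorem lift {u : Coset (Y z)} (hu : u ∈ invs (L z)) : ∃ t, t * t = z ∧ coset (Y z) t = u := by
  obtain ⟨P, h1, h2, h3, e⟩ := exists_isPGroup_quo_eq (zpowers_le.2 hu.1) (two_elt hu.2.2)
  obtain ⟨t, ht, rfl⟩ := (mem_quo_of_le h2).1 (e ▸ mem_zpowers u)
  have hm : t * t ∈ Y z := by rw [← coset_eq_one_iff (h2 (mul_mem ht ht)), coset_mul (h2 ht) (h2 ht), hu.2.2]
  refine ⟨t, (two_Y h.z2 hm ?_).resolve_left fun e => hu.2.1 ?_, rfl⟩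
  · exact by_contra fun e => not_odd h3 (mul_mem (mul_mem ht ht) (mul_mem ht ht)) e
      (odd_of_mem (odd_O _) (sq_mem_O h.z2 hm))
  · by_cases t1 : t = 1
    · rw [t1, coset_one]
    · rw [by_contra fun e' => h.not_mem_H0 (Oup_le _ _ (h1 ht)) t1 e e' (h1 ht)]
      exact coset_eq_one (mem_sup_right (mem_zpowers z))

theorem O_L : O (L z) = ⊥ := by
  have hW := quoPre_normal h.Y_normal0 (Opi_normal ({2} : Set ℕ)ᶜ (L z))
  have hS : Syl 2 (zpowers z) (quoPre (Y z) (O (L z))) :=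
    ⟨le_sup_right.trans (le_quoPre _), two_elt h.z2, by
      have e := card_mul_relIndex (le_sup_right.trans (le_quoPre (O (L z))))
      rw [card_quoPre, card_Y h.z1 h.z2, Nat.card_zpowers, orderOf_eq_two h.z2 h.z1, mul_comm _ 2,
        mul_assoc, Nat.mul_right_inj two_ne_zero] at e
      exact e ▸ ((odd_O _).mul (odd_O _)).not_two_dvd_nat⟩
  exact quoPre_eq_iff.1 (le_antisymm (((pnil_of_cyc hS).sdprod hS).sup_eq.ge.trans (sup_le_sup_right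
    ((Opi_le_of_normal _ hW).trans (Opi_le_of_normal _ (Oup_normal _ _))) _)) (le_quoPre _))

theorem exists_pk (ih : IH.{u} (Nat.card G)) : ∃ k, Pk (L z) k := by
  have e : a * a * (a * s) * (a * a * (a * s)) = z := by
    simpa only [mul_assoc] using h.abs_sq h.inv (mem_zpowers (a * a))
  have n1 := nY (cent_of_sq h.as_sq)
  have n2 := nY (mul_mem h.aH h.aH)
  refine ZG.exists_pk ih ((card_quo_lt h.Y_le fun e => h.z1 ?_).trans_le (card_le_card_group _))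
    (h.cyc.coset _) (h.alm.coset _) (fun M hM e => ?_) h.O_L (h.coset_mem h.as_sq) (h.coset_mem e)
    (fun e => ?_) ?_
  · exact mem_bot.1 (e ▸ mem_sup_right (mem_zpowers z))
  · have hW := quoPre_normal h.Y_normal0 hM
    rw [← relIndex_quoPre, quoPre_quo h.Y_normal0] at e
    have : H0 z ≤ quoPre (Y z) M := (Oup_le_iff.2 fun y hy ho => mem_Oup (mem_Oup hy ho) ho).trans
      (Oup_le_of_normal hW.norm (by rw [e]; exact (isPiNum_prime Nat.prime_two).2 rfl))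
    simp [relIndex_eq_one.2 this] at e
  · rw [coset_mul n2 n1, right_eq_mul, coset_eq_one_iff n2] at e
    exact not_odd h.two (zp_sq_le a (mul_mem (mem_zpowers _) (mem_zpowers _))) (h.ne4 h.inv)
      (odd_of_mem (odd_O _) (sq_mem_O h.z2 e))
  · convert h.sylQ.quo h.Y_normal0.norm using 1
    rw [S4, S4, quo_sup (zpowers_le.2 n2) (zpowers_le.2 n1), quo_zpowers n1, quo_zpowers n2,
      coset_mul n2 n1]
    exact le_antisymm (sup_le le_sup_right (zpowers_le.2 (mul_mem (mem_sup_left (mem_zpowers _))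
      (mem_sup_right (mem_zpowers _))))) (sup_le (zpowers_le.2 ((mul_mem_cancel_right
        (mem_sup_left (mem_zpowers _))).1 (mem_sup_right (mem_zpowers _)))) le_sup_left)

theorem card_H0 : ♯(H0 z) = ♯(O 𝐂[z]) * 2 * ♯(L z) := by
  rw [← card_mul_card_quo h.Y_normal0, card_Y h.z1 h.z2]

theorem card_H : ♯𝐂[z] = ♯(H0 z) * 2 := by
  rw [← card_mul_relIndex (Oup_le 2 _), h.index_H0]

theorem le_pre (ht : t * t = z) : H0 z ⊓ ext t ≤ quoPre (Y z) (L z ⊓ 𝐂[coset (Y z) t]) := fun y hy => by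
  have n1 := nY0 hy.1
  have n2 := nY (cent_of_sq ht)
  refine mem_quoPre.2 ⟨n1, coset_mem_quo _ hy.1, mem_cent1_iff_conj.2 ?_⟩
  rw [← coset_conj n1 n2]
  rcases hy.2 with e | e <;> rw [e]
  rw [coset_inv, inv_eq (h.coset_mem ht).2.2]

theorem card_pre (hk : Pk (L z) k) (ht : t * t = z) :
    ♯(quoPre (Y z) (L z ⊓ 𝐂[coset (Y z) t])) = ♯(O 𝐂[z]) * 2 * (2 * k) := by
  rw [card_quoPre, card_Y h.z1 h.z2, hk.card _ (h.coset_mem ht)]

theorem c0_dvd (hk : Pk (L z) k) (ht : t * t = z) : ♯(H0 z ⊓ 𝐂[t]) ∣ ♯(O 𝐂[z]) * 2 * (2 * k) :=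
  h.card_pre hk ht ▸ card_dvd ((inf_le_inf_left _ (cent_le_ext t)).trans (h.le_pre ht))

theorem inv_ne (ht : t * t = z) : t⁻¹ ≠ t := fun e => h.z1 (by
  rw [← ht]; nth_rewrite 1 [← e]; exact inv_mul_cancel t)

theorem c0_le (hk : Pk (L z) k) : ♯(H0 z ⊓ 𝐂[x]) ≤ 2 * k * ♯(O 𝐂[z]) := by
  have e : a * s * x * (a * s)⁻¹ = x⁻¹ := by
    rw [show a * s * x * (a * s)⁻¹ = a * (s * x * s⁻¹) * a⁻¹ by group, h.sx,
      zp_comm (mem_zpowers a) (inv_mem h.x_a), mul_inv_cancel_right]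
  have := (two_mul_card_le (SetLike.lt_iff_le_and_exists.2 ⟨inf_le_inf_left _ (cent_le_ext x), a * s,
    ⟨h.mem_H0' h.as_sq, Or.inr e⟩, fun e' =>
      h.inv_ne h.x_sq (e.symm.trans (mem_cent1_iff_conj.1 e'.2))⟩)).trans (card_le (h.le_pre h.x_sq))
  rw [h.card_pre hk h.x_sq] at this
  nlinarith

theorem card_U (hr : r ∈ 𝐂[z]) (r1 : r ≠ 1) (r2 : r * r = 1) (rz : r ≠ z) :
    ♯(O (𝐂[z] ⊓ 𝐂[r])) = ♯(O (𝐂[z] ⊓ 𝐂[s])) := by
  obtain ⟨g, hg, rfl⟩ := h.conj_s h.inv hr r1 r2 rz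
  nth_rewrite 1 [← mem_cent1_iff_conj.1 hg]
  rw [cent1_conj, cent1_conj, ← conj_inf]
  exact (congrArg (fun K : Subgroup G => ♯K) (Opi_conj _ _ _)).trans (card_conj _ _)

theorem invs_le (hr : r ∈ 𝐂[z]) (r1 : r ≠ 1) (r2 : r * r = 1) (rz : r ≠ z) :
    (invs (L z ⊓ 𝐂[coset (Y z) r])).ncard ≤ ♯(O (𝐂[z] ⊓ 𝐂[s])) ∧
      ∀ u ∈ invs (L z ⊓ 𝐂[coset (Y z) r]), ∃ t, t * t = z ∧ coset (Y z) t = u ∧ r * t * r⁻¹ = t⁻¹ := by
  have p := h.pair_cent (pair_mk h.z1 r1 (Ne.symm rz) h.z2 r2 (mem_cent1.1 hr).symm)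
  have key : ∀ u ∈ invs (L z ⊓ 𝐂[coset (Y z) r]), ∃ t, t * t = z ∧ coset (Y z) t = u ∧
      r * t * r⁻¹ = t⁻¹ := fun u hu => by
    obtain ⟨t, ht, rfl⟩ := h.lift ⟨hu.1.1, hu.2⟩
    refine ⟨t, ht, rfl, (h.pre ht hr (mem_cent1_comm.1 hu.1.2)).resolve_left fun e => h.z1 ?_⟩
    rw [← ht, ← sq]
    exact p.isEp.abelem.2 _ (h.mem_four p (two_of_sq ht h.z2) (mem_cent1.1 (cent_of_sq ht))
      (mul_inv_eq_iff_eq_mul.1 e).symm)
  refine ⟨?_, key⟩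
  rcases (invs (L z ⊓ 𝐂[coset (Y z) r])).eq_empty_or_nonempty with e | ⟨u, hu⟩
  · simp [e]
  obtain ⟨w, hw, -, e⟩ := key u hu
  rw [← h.card_U hr r1 r2 rz]
  refine (Set.ncard_le_ncard fun u hu => ?_).trans
    (Set.ncard_image_le (f := fun o => coset (Y z) (w * o)) (s := O (𝐂[z] ⊓ 𝐂[r])))
  obtain ⟨t, ht, rfl, e'⟩ := key u hu
  have h1 : w⁻¹ * t ∈ 𝐂[z] ⊓ 𝐂[r] := mem_inf.2 ⟨mul_mem (inv_mem (cent_of_sq hw)) (cent_of_sq ht), by
    refine mem_cent1_comm.1 (mem_cent1_iff_conj.2 ?_)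
    rw [← conj_mul, ← conj_inv, e, e', inv_inv, ← mul_right_inj w, mul_inv_cancel_left, ← mul_assoc, hw,
      ← ht, mul_inv_cancel_right]⟩
  obtain ⟨o, ho, v, hv, e1⟩ := (p.sdprod_of_cent inf_le_left).mem_iff.1 h1
  have h2 := mem_H0 (Opi_le _ _ ho).1 (odd_of_mem (odd_O _) ho)
  have h3 : v ∈ H0 z := (mul_mem_cancel_left h2).1
    (e1 ▸ mul_mem (inv_mem (h.mem_H0' hw)) (h.mem_H0' ht))
  have h4 := h.not_mem_H0 hr r1 r2 rz
  refine ⟨o, ho, ?_⟩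
  rw [eq_inv_mul_iff_mul_eq, ← mul_assoc] at e1
  rw [← e1, coset_mul_of_mem (nY0 (mul_mem (h.mem_H0' hw) h2)) (mem_sup_right ?_)]
  rcases p.mem_S4.1 hv with e | e | e | e <;> rw [e] at h3 ⊢
  exacts [one_mem _, mem_zpowers z, absurd h3 h4, absurd ((mul_mem_cancel_left h.z_H0).1 h3) h4]

theorem k_le (hk : Pk (L z) k) : k ≤ ♯(O (𝐂[z] ⊓ 𝐂[s])) + 1 := by
  obtain ⟨h1, h2⟩ := h.invs_le h.sH h.s1 h.s2 h.sz_ne
  refine hk.count_le (coset_mem_norm _ ((Oup_normal _ _).norm h.sH))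
    (mt (coset_mem_quo_iff (nY h.sH) h.Y_le).1 h.s_not)
    (by rw [← coset_mul (nY h.sH) (nY h.sH), h.s2, coset_one]) h1 fun u hu => ?_
  obtain ⟨t, ht, rfl, e⟩ := h2 u hu
  have : t * s ∉ H0 z := by rw [mul_mem_cancel_left (h.mem_H0' ht)]; exact h.s_not
  rw [← coset_mul (nY (cent_of_sq ht)) (nY h.sH)]
  exact (h.invs_le (mul_mem (cent_of_sq ht) h.sH) (fun e => this (e ▸ one_mem _))
    (by rw [show t * s * (t * s) = t * (s * t * s⁻¹) * (s * s) by group, e, h.s2]; group)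
    fun e => this (e ▸ h.z_H0)).1

end Sd

end Cfsg.Agent.ZG
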