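import Cfsg.Agent.Lib.ZG.SD2
import Cfsg.Agent.Lib.ZG.SDChar

/-!
# Semidihedral Sylow 2-subgroups: the two trivial intersection sets
-/

set_option autoImplicit false
set_option linter.unusedSectionVars false

namespace Cfsg.Agent.ZG

open Subgroup Cfsg.Agent.OO Cfsg.Agent.Coprime GW
open scoped commutatorElement Pointwise

universe u

variable {G : Type u} [Group G] [Finite G] {K M X : Subgroup G}
  {a b c g j m r s t v w x y z σ ρ : G} {k : ℕ}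

theorem index_two (hy : (orderOf y).totient = 2) (hw : w ∈ 𝐍(zpowers y)) (hc : w ∉ 𝐂[y]) :
    (𝐂[y]).relIndex 𝐍(zpowers y) = 2 := by
  have := Ord1092.relIndex_cent_dvd (P := zpowers y) inferInstance
  rw [Nat.card_zpowers, hy, cent_zpowers, Nat.dvd_prime Nat.prime_two] at this
  exact this.resolve_left fun e => hc (relIndex_eq_one.1 e hw)

theorem cent_of_odd_sq (ho : Odd (orderOf g)) (h : g * g ∈ K) : g ∈ K :=
  zpowers_le.2 h (sq g ▸ mem_zp_pow (Nat.coprime_two_left.2 ho))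

section Three

variable (hσ : orderOf σ = 3)
include hσ

theorem sq_cent3 (hg : g ∈ 𝐍(zpowers σ)) : g * g ∈ 𝐂[σ] := by
  by_cases e : g ∈ 𝐂[σ]
  · exact mul_mem e e
  · exact mul_mem_of_two (index_two (by rw [hσ]; rfl) hg e) hg e hg e

theorem σ1 : σ ≠ 1 := fun e => by simp [e] at hσ

theorem σ_odd : Odd (orderOf σ) := by rw [hσ]; decide

theorem inv3 (hg : g ∈ 𝐍(zpowers σ)) (hc : g ∉ 𝐂[σ]) : g * σ * g⁻¹ = σ⁻¹ :=
  (conj_cases (hσ ▸ Nat.prime_three) (conj_mem_of_norm hg (mem_zpowers σ))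
    (mem_cent1.1 (sq_cent3 hσ hg))).resolve_left fun e => hc (mem_cent1_iff_conj.2 e)

theorem Cyc.zp3 (h : Cyc G) (hy : orderOf y = 3) (hc : y ∈ 𝐂[σ]) : zpowers y = zpowers σ :=
  h.zp_eq Nat.prime_three (by decide) hy hσ (by rw [mem_cent1_iff_conj.1 hc]; exact mem_zpowers σ)

theorem Cyc.pnil3 (h : Cyc G) : PNil 3 𝐂[σ] := h.pnil Nat.prime_three (by decide) hσ

theorem ti3 (hC : Cyc G) (hN : NB G) (h1 : Op' 3 𝐂[σ] ≤ K) (h2 : K < 𝐂[σ])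
    (h3 : 𝐍(zpowers σ) ≤ 𝐍(K)) : TI3 𝐂[σ] 𝐍(zpowers σ) K := by
  obtain ⟨P, hP⟩ := exists_syl 3 𝐂[σ]
  have sd := (hC.pnil3 hσ).sdprod hP
  obtain ⟨g, hg, hc⟩ := hN σ (hσ ▸ Nat.prime_three) (by simp [hσ])
  replace hg := mem_norm_zp hg
  refine ⟨cent_normal σ, index_two (by rw [hσ]; rfl) hg hc, h3, h2.le,
    (sd.der_le_of_ab (ab_of_isCyclic (hC 3 Nat.prime_three (by decide) P hP.isPGroup))).trans h1, ?_,
    fun c hc hK g e => ?_, fun j hj j2 => h1 ((mem_Op' (hC.pnil3 hσ)).2 ⟨hj, fun e => ?_⟩)⟩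
  · obtain ⟨c, hc', n, ⟨hn, hn'⟩, rfl⟩ := (hP.frattini (cent_normal σ)).mem_iff.1 hg
    rw [mul_mem_cancel_left hc'] at hc
    obtain ⟨y, hy, e⟩ := SetLike.not_le_iff_exists.1 fun e =>
      h2.not_ge (sd.sup_eq.ge.trans (sup_le h1 e))
    obtain ⟨d, hd⟩ := Finite.surjective_of_injective (f := fun d : P => (⟨n⁻¹ * d * n * (d : G)⁻¹,
      mul_mem (conj_mem_of_norm' hn' d.2) (inv_mem d.2)⟩ : P)) (fun d e h => by_contra fun h' => by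
        obtain ⟨τ, hτ, h3⟩ := exists_order_mem Nat.prime_three (g := (e : G)⁻¹ * d)
          (hP.isPGroup.to_le (zpowers_le.2 (mul_mem (inv_mem e.2) d.2)))
          fun e => h' (Subtype.ext (inv_mul_eq_one.1 e).symm)
        have h : n⁻¹ * d * n * (d : G)⁻¹ = n⁻¹ * e * n * (e : G)⁻¹ := congrArg Subtype.val h
        refine hc (mem_cent1.2 (comm_of_mem (comm_of_mem ?_ hτ) (hC.zp3 hσ h3
          (hP.le (zpowers_le.2 (mul_mem (inv_mem e.2) d.2) hτ)) ▸ mem_zpowers σ)))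
        rw [show n * ((e : G)⁻¹ * d) = (e : G)⁻¹ * n * (n⁻¹ * e * n * (e : G)⁻¹) * d by group, ← h]
        group) ⟨y, hy⟩
    exact ⟨n, hn, d, hP.le d.2, by rwa [show n⁻¹ * d * n * (d : G)⁻¹ = y from congrArg Subtype.val hd]⟩
  · obtain ⟨τ, hτ, h3⟩ := cauchy (H := zpowers c) Nat.prime_three (by
      rw [Nat.card_zpowers]
      exact by_contra fun e => hK (h1 ((mem_Op' (hC.pnil3 hσ)).2 ⟨hc, e⟩)))
    have : σ ∈ zpowers c := zpowers_le.2 hτ (hC.zp3 hσ h3 (zpowers_le.2 hc hτ) ▸ mem_zpowers σ)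
    exact mem_norm_zp (hC.zp3 hσ ((orderOf_conj g σ).trans hσ)
      (zpowers_le.2 e (conj_zpowers g c ▸ conj_mem_conj this)) ▸ mem_zpowers _)
  · exact absurd (e.trans (orderOf_dvd_of_pow_eq_one (by rwa [sq] : j ^ 2 = 1))) (by decide)

theorem two_mem_Op' (hC : Cyc G) (hy : y ∈ 𝐂[σ]) (h2 : IsPGroup 2 (zpowers y)) :
    y ∈ Op' 3 𝐂[σ] := (mem_Op' (hC.pnil3 hσ)).2 ⟨hy, fun e => by
  obtain ⟨n, hn⟩ := IsPGroup.iff_card.1 h2
  rw [← Nat.card_zpowers, hn] at e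
  exact absurd (Nat.prime_three.dvd_of_dvd_pow e) (by decide)⟩

/-- a four-group centralizing an element of order 3 -/
theorem Tw.four3 (h : Tw a s z) (hA : Alm G) (hC : Cyc G) (p : Pair X t v) (ht : t ∈ 𝐂[σ])
    (hρ : ρ ∈ 𝐂[σ]) (h3 : IsPGroup 3 (zpowers ρ)) (r1 : ρ * t * ρ⁻¹ = v)
    (r2 : ρ * v * ρ⁻¹ = t * v) : Syl 2 (S4 t v) 𝐂[σ] ∧ 𝐂[σ] ≤ 𝐍(S4 t v) := by
  have hv : v ∈ 𝐂[σ] := r1 ▸ mul_mem (mul_mem hρ ht) (inv_mem hρ)
  have hW := Opi_normal ({3} : Set ℕ)ᶜ 𝐂[σ]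
  have hp := hA.pnil (not_dvd_Op' (p := 3) 𝐂[σ])
  obtain ⟨T, hT⟩ := exists_syl 2 (Op' 3 𝐂[σ])
  obtain ⟨T, hT, hn, hV⟩ := coprime_Hall_subset (π := {2}) ((zpowers_le.2 hρ).trans hW.norm)
    (Core.coprime_card_of_isPGroup h3 ((Nat.Prime.coprime_iff_not_dvd Nat.prime_three).2
      (not_dvd_Op' _)).symm).symm ((hp.sdprod hT).sol (sol_of_odd (odd_O _)) hT.sol)
    (S4_le.2 ⟨two_mem_Op' hσ hC ht (two_elt p.t_sq), two_mem_Op' hσ hC hv (two_elt p.s_sq)⟩)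
    (piGrp_singleton p.isEp.isPGroup) (zpowers_le.2 (mem_norm_S4 (r1 ▸ s_mem_S4 t v)
      (r2 ▸ mul_mem (t_mem_S4 t v) (s_mem_S4 t v))))
  replace hT := hT.syl
  obtain ⟨-, c, c2, H⟩ := hA.aut hT.isPGroup (zpowers_le.1 hn)
    (odd_of_pgroup Nat.prime_three (by decide) h3) fun e =>
      p.ne ((mem_cent_iff_conj.1 e t (hV (t_mem_S4 t v))).symm.trans r1)
  obtain rfl : c = 1 := by_contra fun c1 => p.ne (invol_eq
    ((H t (hV (t_mem_S4 t v))).resolve_right (p.t_sq ▸ Ne.symm c1))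
    ((H v (hV (s_mem_S4 t v))).resolve_right (p.s_sq ▸ Ne.symm c1)) p.t_ne p.t_sq p.s_ne p.s_sq)
  have sq : ∀ y ∈ T, y * y = 1 := fun y hy => (H y hy).elim
    (fun e => by rw [zpowers_one_eq_bot, mem_bot] at e; rw [e, mul_one]) id
  have cm : ∀ y ∈ T, ∀ w ∈ T, y * w = w * y := fun y hy w hw => by
    rw [← inv_eq (sq _ (mul_mem hy hw)), mul_inv_rev, inv_eq (sq _ hy), inv_eq (sq _ hw)]
  obtain rfl : S4 t v = T := le_antisymm hV fun y hy => h.mem_four p (two_elt (sq y hy))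
    (cm y hy t (hV (t_mem_S4 t v))) (cm y hy v (hV (s_mem_S4 t v)))
  have e1 : t ∈ der 𝐂[σ] := by
    have := commutator_mem_commutator hρ hv
    rwa [commutatorElement_def, r2, mul_inv_cancel_right] at this
  have e2 : v ∈ der 𝐂[σ] := r1 ▸ (der_normal _).conj_mem hρ e1
  have key : ∀ y ∈ der 𝐂[σ], y * y = 1 → y ∈ 𝐂(O (Op' 3 𝐂[σ])) := fun y hy y2 =>
    hC.cent_of_der (odd_O _) (hW.Opi _).norm hy (Nat.card_zpowers y ▸ coprime_zp (odd_O _) y2)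
  exact ⟨hT.trans_hall (hall_Opi_of_normal_hall (hC.pnil3 hσ) hW.norm) (by simp),
    hW.norm.trans (hT.norm_le_norm_of_normal ((hp.sdprod hT).sup_eq.ge.trans (sup_le
      (le_norm_of_le_cent (le_cent_symm (S4_le.2 ⟨key t e1 p.t_sq, key v e2 p.s_sq⟩)))
      le_normalizer)))⟩

end Three

namespace Sd

variable (h : Sd a s z x)
include h

theorem inv_C (ht : t * t = z) (hj : j ∈ 𝐂[t]) (j1 : j ≠ 1) (j2 : j * j = 1) : j = z := by
  by_contra e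
  have p := pair_mk h.z1 j1 (Ne.symm e) h.z2 j2 (by
    rw [← ht, mul_assoc, ← mem_cent1.1 hj, ← mul_assoc, ← mem_cent1.1 hj, mul_assoc])
  refine h.z1 ?_
  rw [← ht, ← sq]
  exact p.isEp.abelem.2 _ (h.mem_four p (two_of_sq ht h.z2) (mem_cent1.1 (cent_of_sq ht))
    (mem_cent1.1 hj).symm)

theorem mem_zp_of_sq (ht : t * t = z) (hy : y * y = z) (hc : y ∈ 𝐂[t]) : t ∈ zpowers y := by
  rw [← mul_mem_cancel_left (mem_zpowers y)]
  by_cases e : y * t = 1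
  · exact e ▸ one_mem _
  · rw [h.inv_C ht (mul_mem hc (mem_cent1_self t)) e (by
      rw [(Commute.symm (mem_cent1.1 hc)).mul_mul_mul_comm, hy, ht, h.z2]), ← hy]
    exact mul_mem (mem_zpowers y) (mem_zpowers y)

theorem a_C : a ∈ 𝐂[x] := mem_cent1.2 (zp_comm (mem_zpowers a) h.x_a)

theorem s_C : s ∉ 𝐂[x] := fun e => h.inv_ne h.x_sq (h.sx.symm.trans (mem_cent1_iff_conj.1 e))

theorem s_N : s ∈ 𝐍(zpowers x) := mem_norm_zp (h.sx ▸ inv_mem (mem_zpowers x))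

theorem z_C : z ∈ 𝐂[x] := mem_cent1_comm.1 (cent_of_sq h.x_sq)

theorem conj_z (hg : g * x * g⁻¹ ∈ 𝐂[x]) : g ∈ 𝐂[z] :=
  mem_cent1_iff_conj.2 (h.inv_C h.x_sq (by
    rw [← h.x_sq, ← conj_mul]; exact mul_mem hg hg) (conj_ne_one.2 h.z1) (conj_sq h.z2 g))

theorem N_le : 𝐍(zpowers x) ≤ 𝐂[z] := fun _ hg => h.conj_z
  (zpowers_le.2 (mem_cent1_self x) (conj_mem_of_norm hg (mem_zpowers x)))

theorem sylC : Syl 2 (zpowers a) 𝐂[x] := h.inf_cent h.a_C h.s_C ▸ (h.syl.hall.mono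
  (S4_le.2 ⟨(cent_normal x).le h.a_C, h.s_N⟩) le_top).syl.inf_normal (cent_normal x)

theorem exists_sq (hy : IsPGroup 2 (zpowers y)) (y2 : y * y ≠ 1) :
    ∃ t ∈ zpowers y, t * t ≠ 1 ∧ t * t * (t * t) = 1 := by
  obtain ⟨_, ⟨i, rfl⟩, y1, y2⟩ := exists_invol (not_odd hy (mul_mem (mem_zpowers y) (mem_zpowers y)) y2)
  exact ⟨y ^ i, zpow_mem_zpowers y i, by rwa [← (Commute.refl y).mul_zpow],
    by rwa [← (Commute.refl y).mul_zpow]⟩

theorem x_mem_zp (hc : c ∈ 𝐂[x]) (hK : c ∉ O 𝐂[x] ⊔ zpowers z) : x ∈ zpowers c := by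
  obtain ⟨y, hy, o, ho, rfl, ⟨n, hn⟩, h2⟩ := Cls.exists_p_part Nat.prime_two c
  have hle := zpowers_le.2 hc
  by_cases y2 : y * y = 1
  · refine absurd (mul_mem (mem_sup_right ((mem_zp h.z2).2 (or_iff_not_imp_left.2 fun e =>
      h.inv_C h.x_sq (hle hy) e y2))) (mem_sup_left ((mem_O (pnil_of_cyc h.sylC)).2
        ⟨hle ho, Nat.coprime_two_right.1 h2⟩))) hK
  · obtain ⟨t, ht, t1, t2⟩ := h.exists_sq (Core.isPGroup_zpowers_of_orderOf hn) y2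
    replace ht := zpowers_le.2 hy ht
    exact zpowers_le.2 ht (h.mem_zp_of_sq h.x_sq (h.inv_C h.x_sq (mul_mem (hle ht) (hle ht)) t1 t2)
      (hle ht))

theorem ti : TI3 𝐂[x] 𝐍(zpowers x) (O 𝐂[x] ⊔ zpowers z) := by
  refine ⟨cent_normal x, index_two ?_ h.s_N h.s_C, le_norm_sup ((cent_normal x).Opi _).norm
    (h.N_le.trans (zp_normal z).norm), sup_le (Opi_le _ _) (zpowers_le.2 h.z_C),
    (((pnil_of_cyc h.sylC).sdprod h.sylC).der_le_of_ab (ab_of_isCyclic inferInstance)).trans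
      le_sup_left, ⟨s⁻¹, inv_mem h.s_N, a, h.a_C, fun e => ?_⟩, fun c hc hK g e => ?_,
    fun j hj j2 => mem_sup_right ((mem_zp h.z2).2 (or_iff_not_imp_left.2 fun e =>
      h.inv_C h.x_sq hj e j2))⟩
  · rw [orderOf_eq_prime_pow (p := 2) (n := 1) (by rw [pow_one, sq, h.x_sq]; exact h.z1) (by
      rw [show x ^ 2 ^ (1 + 1) = x * x * (x * x) by norm_num [pow_succ, mul_assoc], h.x_sq, h.z2])]
    rfl
  · rw [inv_inv, h.inv, mul_assoc, ← (Commute.inv_left h.az).eq, ← mul_assoc,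
      mul_mem_cancel_right (mem_sup_right (mem_zpowers z)), ← mul_inv_rev, inv_mem_iff] at e
    obtain ⟨o, ho, w, hw, e⟩ := (mem_sup_norm_left
      ((zpowers_le.2 h.z_C).trans (Opi_normal _ _).norm)).1 e
    have hz : w ∈ zpowers a := zpowers_le.2 h.z_mem hw
    obtain rfl : o = 1 := by_contra fun o1 => not_odd h.two ((mul_mem_cancel_right hz).1
      (e ▸ mul_mem (mem_zpowers a) (mem_zpowers a))) o1 (odd_of_mem (odd_O _) ho)
    refine h.ne4 h.inv ?_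
    rw [← e, one_mul]
    rcases (mem_zp h.z2).1 hw with e | e <;> simp only [e, h.z2, mul_one]
  · have : g * x * g⁻¹ ∈ 𝐂[x] := zpowers_le.2 e (conj_zpowers g c ▸ conj_mem_conj (h.x_mem_zp hc hK))
    exact mem_norm_zp (h.mem_zp_of_sq (by
      rw [conj_mul, h.x_sq, mem_cent1_iff_conj.1 (h.conj_z this)]) h.x_sq (mem_cent1_comm.1 this))

theorem C_le : 𝐂[x] ≤ 𝐂[z] := (cent_normal x).le.trans h.N_le

/-- the inequality from character theory -/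
theorem star {C N : Subgroup G} (hp : der (⊤ : Subgroup G) = ⊤) (hk : Pk (L z) k) (h2 : TI3 C N K)
    (hd : ∀ g, ∀ c ∈ C, g * x * g⁻¹ ∈ zpowers c → c ∈ K) :
    (outInv C N).ncard ^ 2 ≤ 2 * k * ♯(O 𝐂[z]) * ♯C := by
  have h1 := h.ti.le_two h2 hp h.one h.z1 h.z2 fun c hc hK g e =>
    hd g _ e (conj_zpowers g c ▸ conj_mem_conj (h.x_mem_zp hc hK))
  have h3 : (outInv 𝐂[x] 𝐍(zpowers x)).ncard ≤ ♯(H0 z ⊓ 𝐂[x]) :=
    Set.ncard_le_ncard_of_injOn (t := (H0 z ⊓ 𝐂[x] : Subgroup G)) (· * s) (fun j hj => mem_inf.2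
      ⟨mul_mem_of_two h.index_H0 (h.N_le hj.1) (h.not_mem_H0 (h.N_le hj.1)
        (fun e => hj.2.1 (e ▸ one_mem _)) hj.2.2 fun e => hj.2.1 (e ▸ h.z_C)) h.sH h.s_not,
        mul_mem_of_two h.ti.two hj.1 hj.2.1 h.s_N h.s_C⟩) fun _ _ _ _ => mul_right_cancel
  have h4 := two_mul_card_le (SetLike.lt_iff_le_and_exists.2 ⟨inf_le_right, a, h.a_C,
    fun e : a ∈ H0 z ⊓ 𝐂[x] => h.s_not ((mul_mem_cancel_left (mem_inf.1 e).1).1 (h.mem_H0' h.as_sq))⟩)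
  have h5 := h.c0_le hk
  have h6 := card_pos' (H0 z ⊓ 𝐂[x])
  refine (Nat.le_of_mul_le_mul_right ?_ (Nat.mul_pos two_pos h6)).trans (Nat.mul_le_mul_right _ h5)
  have := Nat.pow_le_pow_left h3 2
  nlinarith [Nat.mul_le_mul_left ((outInv C N).ncard ^ 2) h4, Nat.mul_le_mul_right ♯C this]

theorem cent_le (hσ : orderOf σ = 3) (hx : x ∈ 𝐂[σ]) : 𝐂[σ] ≤ 𝐂[z] := by
  obtain ⟨P, hP, hσP⟩ := exists_syl_ge (zpowers_le.2 (mem_cent1_comm.1 hx))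
    (Core.isPGroup_zpowers_of_orderOf (k := 1) (hσ.trans (pow_one 3).symm))
  obtain ⟨c, hc, n, ⟨hn, hn'⟩, e⟩ := (hP.frattini (cent_normal x)).mem_iff.1 h.s_N
  have hW := (cent_normal σ).Opi ({3} : Set ℕ)ᶜ
  have e1 : z ∈ der 𝐍(zpowers σ) := by
    have := commutator_mem_commutator ((cent_normal σ).le hx) (norm_le_norm_of_isCyclic
      (h.cyc 3 Nat.prime_three (by decide) P hP.isPGroup) hσP hn')
    rwa [commutatorElement_def, show x * n * x⁻¹ * n⁻¹ = x * (c⁻¹ * (c * n * x * (c * n)⁻¹)⁻¹ * c⁻¹⁻¹) by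
      group, e, h.sx, inv_inv x, mem_cent1_iff_conj.1 (inv_mem hc), h.x_sq] at this
  have xW := two_mem_Op' hσ h.cyc hx (two_of_sq h.x_sq h.z2)
  obtain ⟨T, hT, hxT⟩ := exists_syl_ge (zpowers_le.2 xW) (two_of_sq h.x_sq h.z2)
  obtain ⟨g, hg⟩ := h.exists_conj_le hT.isPGroup
  have e2 := h.sq_mem (hg (conj_mem_conj (hxT (mem_zpowers x))))
  rw [conj_mul, h.x_sq] at e2
  have e3 := mem_cent1_iff_conj.2 (h.eq_z e2 (conj_ne_one.2 h.z1) (conj_sq h.z2 g))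
  have e4 : Op' 3 𝐂[σ] ≤ 𝐂[z] := ((h.alm.pnil (not_dvd_Op' _)).sdprod hT).sup_eq.ge.trans (sup_le
    (le_cent1_iff.2 (h.cyc.cent_of_der (odd_O _) (hW.Opi _).norm e1
      (Nat.card_zpowers z ▸ coprime_zp (odd_O _) h.z2))) fun y hy => by
        simpa only [mul_mem_cancel_right (inv_mem e3), mul_mem_cancel_left e3] using
          h.le_cent (hg (conj_mem_conj hy)))
  refine fun g hg => mem_cent1_iff_conj.2 (h.inv_C h.x_sq (mem_cent1_comm.1 ?_) (conj_ne_one.2 h.z1)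
    (conj_sq h.z2 g))
  rw [cent1_conj, mem_conj]
  exact e4 (conj_mem_of_norm' (hW.norm ((cent_normal σ).le hg)) xW)

theorem card_V : ♯(𝐂[z] ⊓ 𝐂[s]) = ♯(O (𝐂[z] ⊓ 𝐂[s])) * 4 := by
  rw [← (h.pair.sdprod_of_cent inf_le_left).card, h.pair.card]

theorem coprime_U : (♯(O (𝐂[z] ⊓ 𝐂[s]))).Coprime ♯(O 𝐂[z]) := by
  refine Nat.coprime_of_dvd fun q hq h1 h2 => ?_
  obtain ⟨y, hy, e⟩ := cauchy hq h1
  obtain ⟨w, hw, e'⟩ := cauchy hq h2
  have := h.cyc.zp_eq hq (fun e => (odd_O _).not_two_dvd_nat (e ▸ h2)) e e' (conj_mem_of_norm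
    (norm_le_norm_of_isCyclic h.cyc_O (zpowers_le.2 hw) ((Opi_normal _ _).norm (Opi_le _ _ hy).1))
    (mem_zpowers w))
  have h3 : y ∈ O 𝐂[z] ⊓ 𝐂[s] := ⟨zpowers_le.2 hw (this ▸ mem_zpowers y), (Opi_le _ _ hy).2⟩
  rw [h.O_inf, mem_bot] at h3
  exact hq.ne_one (by rw [← e, h3, orderOf_one])

end Sd

end Cfsg.Agent.ZG
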